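import Cfsg.Agent.Helper62.BG12c
import Cfsg.Agent.Helper23.Uniq3
set_option autoImplicit false
namespace Cfsg.Agent.Helper73
open Cfsg Subgroup Cfsg.Agent.Helper22 Cfsg.Agent.Helper23 Cfsg.Agent.Helper35 Cfsg.Agent.Helper62.BG12
universe u
variable {G : Type u} [Group G] [Finite G]

/-- (Q2) index `≤ p` implies that the derived subgroup centralizes. -/
theorem q2_comm_le_centralizer {p : ℕ} [Fact p.Prime] {T W : Subgroup G} (hT : IsPGroup p T)
    (hTW : T ≤ normalizer (W : Set G))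
    (hidx : Nat.card T ≤ p * Nat.card (T ⊓ centralizer (W : Set G) : Subgroup G)) :
    ⁅T, T⁆ ≤ centralizer (W : Set G) := by
  have hp : p.Prime := Fact.out
  set C : Subgroup G := T ⊓ centralizer (W : Set G) with hC
  have hCT : C ≤ T := inf_le_left
  -- `C` is normalized by `T`
  have hnorm : ∀ t ∈ T, ∀ c ∈ C, t * c * t⁻¹ ∈ C := by
    intro t ht c hc
    refine Subgroup.mem_inf.mpr ⟨T.mul_mem (T.mul_mem ht (hCT hc)) (T.inv_mem ht), ?_⟩
    rw [Subgroup.mem_centralizer_iff]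
    intro w hw
    have hc2 := Subgroup.mem_centralizer_iff.mp (Subgroup.mem_inf.mp hc).2
    have hw' : t⁻¹ * w * t⁻¹⁻¹ ∈ W :=
      ((Subgroup.mem_normalizer_iff.mp (hTW (T.inv_mem ht))) w).mp hw
    have h1 := hc2 (t⁻¹ * w * t⁻¹⁻¹) hw'
    rw [inv_inv] at h1
    calc w * (t * c * t⁻¹) = t * ((t⁻¹ * w * t) * c) * t⁻¹ := by group
      _ = t * (c * (t⁻¹ * w * t)) * t⁻¹ := by rw [h1]
      _ = t * c * t⁻¹ * w := by group
  set C' : Subgroup ↥T := C.subgroupOf T with hC'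
  have hC'n : C'.Normal := by
    constructor
    intro c hc t
    rw [hC', Subgroup.mem_subgroupOf] at hc ⊢
    exact hnorm t.1 t.2 c.1 hc
  -- the index is `1` or `p`
  have hcard : Nat.card C' = Nat.card C := Nat.card_congr (Subgroup.subgroupOfEquivOfLe hCT).toEquiv
  have hmul : C'.index * Nat.card C' = Nat.card T := by
    rw [mul_comm]; exact Subgroup.card_mul_index C'
  have hCpos : 0 < Nat.card C := Nat.card_pos
  have hle : C'.index ≤ p := by
    rw [← hmul, hcard] at hidx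
    exact Nat.le_of_mul_le_mul_right hidx hCpos
  obtain ⟨n, hn⟩ := hT.index C'
  have hcyc : IsCyclic (↥T ⧸ C') := by
    have hq : Nat.card (↥T ⧸ C') = C'.index := rfl
    rcases Nat.lt_or_ge n 1 with h0 | h1
    · have : n = 0 := by omega
      rw [this, pow_zero] at hn
      have : Subsingleton (↥T ⧸ C') := (Nat.card_eq_one_iff_unique.mp (hq.trans hn)).1
      exact isCyclic_of_subsingleton
    · have hn1 : n = 1 := by
        by_contra hne
        have h2 : 2 ≤ n := by omega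
        have : p ^ 2 ≤ p ^ n := Nat.pow_le_pow_right hp.pos h2
        have h3 : p * p ≤ p := by rw [← pow_two]; exact this.trans (hn ▸ hle)
        have := hp.two_le
        nlinarith
      rw [hn1, pow_one] at hn
      exact isCyclic_of_prime_card (hq.trans hn)
  rw [Subgroup.commutator_le]
  intro a ha b hb
  have hab : (QuotientGroup.mk' C' ⟨a, ha⟩) * (QuotientGroup.mk' C' ⟨b, hb⟩)
      = (QuotientGroup.mk' C' ⟨b, hb⟩) * (QuotientGroup.mk' C' ⟨a, ha⟩) := by
    let _i := hcyc.commGroup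
    exact mul_comm _ _
  have h1 : QuotientGroup.mk' C'
      ((⟨a, ha⟩ : ↥T) * ⟨b, hb⟩ * (⟨a, ha⟩ : ↥T)⁻¹ * (⟨b, hb⟩ : ↥T)⁻¹) = 1 := by
    rw [map_mul, map_mul, map_mul, hab, map_inv, map_inv]
    group
  have h2 : ((⟨a, ha⟩ : ↥T) * ⟨b, hb⟩ * (⟨a, ha⟩ : ↥T)⁻¹ * (⟨b, hb⟩ : ↥T)⁻¹) ∈ C' := by
    rw [← QuotientGroup.ker_mk' C']; exact h1
  rw [hC', Subgroup.mem_subgroupOf] at h2
  rw [commutatorElement_def]
  exact (Subgroup.mem_inf.mp h2).2

end Cfsg.Agent.Helper73
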