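import Mathlib
import Cfsg.Prelude.Def_Solvable
import Cfsg.Agent.Helper71.Fitting

set_option autoImplicit false

namespace Cfsg.Agent.Helper73

open scoped commutatorElement

/-- A subgroup in which all commutators are central is nilpotent. -/
theorem isNilpotent_of_commutator_central {G : Type*} [Group G] (N : Subgroup G)
    (h : ∀ a ∈ N, ∀ b ∈ N, ∀ c ∈ N, ⁅a, b⁆ * c = c * ⁅a, b⁆) : Group.IsNilpotent N := by
  rw [Subgroup.nilpotent_iff_lowerCentralSeries]
  refine ⟨2, ?_⟩
  rw [Subgroup.lowerCentralSeries_succ, Subgroup.lowerCentralSeries_succ, Subgroup.lowerCentralSeries_zero]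
  rw [Subgroup.commutator_eq_bot_iff_le_centralizer, Subgroup.commutator_le]
  intro a _ b _
  rw [Subgroup.mem_centralizer_iff]
  intro c _
  apply Subtype.ext
  have := h a a.2 b b.2 c c.2
  simpa [commutatorElement_def] using this.symm

/-- In a finite solvable group the centralizer of the Fitting subgroup lies in the Fitting
subgroup. -/
theorem centralizer_fittingSubgroup_le {G : Type*} [Group G] [Finite G] [Group.IsSolvable G] :
    Subgroup.centralizer (Cfsg.fittingSubgroup G : Set G) ≤ Cfsg.fittingSubgroup G := by
  have hFn : (Cfsg.fittingSubgroup G).Normal := Cfsg.Agent.Helper71.fittingSubgroup_normal G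
  obtain ⟨n, hn⟩ := (Group.isSolvable_def G).1 inferInstance
  have key : ∀ k : ℕ,
      Subgroup.centralizer (Cfsg.fittingSubgroup G : Set G) ⊓ derivedSeries G (k + 1)
        ≤ Cfsg.fittingSubgroup G →
      Subgroup.centralizer (Cfsg.fittingSubgroup G : Set G) ⊓ derivedSeries G k
        ≤ Cfsg.fittingSubgroup G := by
    intro k hk
    have hNn : (Subgroup.centralizer (Cfsg.fittingSubgroup G : Set G) ⊓ derivedSeries G k).Normal :=
      inferInstance
    apply Cfsg.Agent.Helper71.le_fittingSubgroup _ hNn
    apply isNilpotent_of_commutator_central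
    intro a ha b hb c hc
    have hab : ⁅a, b⁆ ∈ Cfsg.fittingSubgroup G := by
      apply hk
      refine Subgroup.mem_inf.2 ⟨?_, ?_⟩
      · rw [commutatorElement_def]
        exact Subgroup.mul_mem _ (Subgroup.mul_mem _ (Subgroup.mul_mem _ ha.1 hb.1)
          (Subgroup.inv_mem _ ha.1)) (Subgroup.inv_mem _ hb.1)
      · rw [derivedSeries_succ]
        exact Subgroup.commutator_mem_commutator ha.2 hb.2
    exact (Subgroup.mem_centralizer_iff.1 hc.1 _ hab)
  have all : ∀ j : ℕ, j ≤ n →
      Subgroup.centralizer (Cfsg.fittingSubgroup G : Set G) ⊓ derivedSeries G (n - j)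
        ≤ Cfsg.fittingSubgroup G := by
    intro j
    induction j with
    | zero =>
      intro _
      rw [Nat.sub_zero, hn]
      simp
    | succ j ih =>
      intro hj
      apply key
      have : n - (j + 1) + 1 = n - j := by omega
      rw [this]
      exact ih (by omega)
  have h0 := all n le_rfl
  rw [Nat.sub_self, derivedSeries_zero, inf_top_eq] at h0
  exact h0

end Cfsg.Agent.Helper73
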