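/-
helper73: CALL S1376 (helper1), piece BETA (double): `c9_beta`.
-/
import Cfsg.Agent.Helper1.C9Defs
import Cfsg.Agent.S1403
import Cfsg.Agent.S1426
import Cfsg.Agent.S1358
import Cfsg.Agent.Helper22.BG10b
import Cfsg.Agent.Helper20.BG65SUBS
import Cfsg.Agent.Helper25.CN
import Cfsg.Agent.Helper35.SZ
import Cfsg.Agent.Helper35.Coprime

set_option autoImplicit false

namespace Cfsg.Agent.Helper73

open Cfsg Subgroup
open Cfsg.Agent.Helper1 (C9)

universe u

/-- Using a `p`-rank bound of a subgroup on a subgroup of the ambient group. -/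
theorem c9b_prank_apply {X : Type u} [Group X] {H : Subgroup X} {s k : ℕ}
    (hr : PRankLE s k ↥H) {A : Subgroup X} (hAH : A ≤ H)
    (hc : ∀ a ∈ A, ∀ b ∈ A, a * b = b * a) (he : ∀ a ∈ A, a ^ s = 1) :
    Nat.card A ≤ s ^ k := by
  have hcomm : IsMulCommutative ↥(A.subgroupOf H) :=
    ⟨⟨fun a b => Subtype.ext (Subtype.ext (by
      have h3 := hc ((a : ↥H) : X) (Subgroup.mem_subgroupOf.mp a.2)
        ((b : ↥H) : X) (Subgroup.mem_subgroupOf.mp b.2)
      exact h3))⟩⟩
  have hexp : ∀ a ∈ A.subgroupOf H, a ^ s = 1 := by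
    intro a ha
    apply Subtype.ext
    rw [Subgroup.coe_pow]
    exact he (a : X) (Subgroup.mem_subgroupOf.mp ha)
  have hle := hr (A.subgroupOf H) hcomm hexp
  rwa [Cfsg.Agent.Helper35.card_subgroupOf_of_le hAH] at hle

/-- Proving a `p`-rank bound of a subgroup through subgroups of the ambient group. -/
theorem c9b_prank_intro {X : Type u} [Group X] {H : Subgroup X} {s k : ℕ}
    (hr : ∀ A : Subgroup X, A ≤ H → (∀ a ∈ A, ∀ b ∈ A, a * b = b * a) → (∀ a ∈ A, a ^ s = 1) →
      Nat.card A ≤ s ^ k) : PRankLE s k ↥H := by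
  intro B hBc hBe
  have hcard : Nat.card ↥(B.map H.subtype) = Nat.card ↥B :=
    Subgroup.card_map_of_injective H.subtype_injective
  rw [← hcard]
  refine hr (B.map H.subtype) (Subgroup.map_subtype_le B) ?_ ?_
  · rintro _ ⟨a, ha, rfl⟩ _ ⟨b, hb, rfl⟩
    have h1 := hBc.is_comm.comm ⟨a, ha⟩ ⟨b, hb⟩
    have h2 : a * b = b * a := congrArg Subtype.val h1
    have h3 : ((a * b : ↥H) : X) = ((b * a : ↥H) : X) := congrArg Subtype.val h2
    simpa using h3
  · rintro _ ⟨a, ha, rfl⟩
    have h1 := hBe a ha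
    have h2 : ((a ^ s : ↥H) : X) = ((1 : ↥H) : X) := congrArg Subtype.val h1
    simpa using h2

variable {G : Type u} [Group G] [Finite G]

/-- BETA. -/
theorem c9_beta (hG : IsMinSimpleOddOrder G) {M N K U L : Subgroup G} {x : G}
    (h : C9 M N K U L x) (hnil : Group.IsNilpotent ↥(sigmaCore M)) :
    ∀ s : ℕ, s.Prime → s ∣ Nat.card M → s ∉ beta M := by
  intro s hs hsM hβ
  have hF : Fact s.Prime := Fact.mk hs
  have hU : Cfsg.Agent.Helper22.BGUniq G :=
    fun K hK h1 h2 => Cfsg.Agent.S1403.result hG K hK h1 h2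
  have hα : s ∈ alpha M := hβ.1
  have hσ : s ∈ sigma M := Cfsg.Agent.Helper22.bg10_alpha_sub_sigma hG hU h.hM hα
  have hσM : sigmaCore M ≤ M := Subgroup.map_subtype_le _
  have hσL : sigmaCore L ≤ L := Subgroup.map_subtype_le _
  by_cases hsx : s ∣ orderOf x
  · obtain ⟨g, hgC, hgM⟩ := SetLike.not_le_iff_exists.mp h.hxM
    have h26 := (Cfsg.Agent.S1426.result hG M h.hM (M ⊓ L) h.hE).2.2 g hgM
    have hxmem : x ∈ sigmaCore M ⊓ M.map (MulAut.conj g).toMonoidHom := by
      refine ⟨h.hx, ?_⟩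
      refine ⟨x, hσM h.hx, ?_⟩
      have hc : g * x = x * g := (Subgroup.mem_centralizer_iff.mp hgC x (Set.mem_singleton x)).symm
      show g * x * g⁻¹ = x
      rw [hc, mul_inv_cancel_right]
    have hd : s ∣ Nat.card ↥(sigmaCore M ⊓ M.map (MulAut.conj g).toMonoidHom) :=
      hsx.trans (Subgroup.orderOf_dvd_natCard _ hxmem)
    exact h26.2.1 s hs hd hβ
  · apply hα.2
    apply c9b_prank_intro
    intro B hBM hBc hBe
    -- `B` is an `s`-group
    have hBp : IsPGroup s ↥B := by
      intro b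
      refine ⟨1, ?_⟩
      apply Subtype.ext
      rw [pow_one, Subgroup.coe_pow]
      exact hBe (b : G) b.2
    -- `B ≤ M_σ`
    have hBσ : B ≤ sigmaCore M := by
      refine Cfsg.Agent.Helper20.bg65_le_sigmaCore hG h.hM hBM ?_
      intro q hq hqd
      obtain ⟨n, hn⟩ := hBp.exists_card_eq
      rw [hn] at hqd
      have hqs : q = s := (Nat.prime_dvd_prime_iff_eq hq hs).mp (hq.dvd_of_dvd_pow hqd)
      rw [hqs]; exact hσ
    -- `B` centralizes `x`, so `B ≤ N ⊓ M = U ⊔ K`
    have hK_M : K ≤ M := fun k hk =>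
      ((le_of_eq h.hMN.symm) (Subgroup.mem_sup_right hk)).2
    have hK_L : K ≤ L := fun k hk => hσL ((le_of_eq h.hKst) hk).1
    have hBU : B ≤ U := by
      intro b hb
      have hbs : b ^ s = 1 := hBe b hb
      have hcop : (orderOf b).Coprime (orderOf x) := by
        have hdv : orderOf b ∣ s := orderOf_dvd_of_pow_eq_one hbs
        rcases (Nat.dvd_prime hs).mp hdv with h1 | h1
        · rw [h1]; exact Nat.coprime_one_left _
        · rw [h1]; exact (Nat.Prime.coprime_iff_not_dvd hs).mpr hsx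
      have hcomm : Commute b x :=
        Cfsg.Agent.Helper25.commute_of_coprime_of_mem_nilpotent (sigmaCore M) hnil (hBσ hb) h.hx
          hcop
      have hbC : b ∈ centralizer ({x} : Set G) := by
        rw [Subgroup.mem_centralizer_iff]
        intro y hy
        rw [Set.mem_singleton_iff.mp hy]
        exact hcomm.eq.symm
      have hbNM : b ∈ N ⊓ M := ⟨h.hxN hbC, hBM hb⟩
      rw [h.hMN] at hbNM
      obtain ⟨u, hu, k, hk, hbuk⟩ :=
        Cfsg.Agent.Helper35.exists_mul_of_mem_sup_of_le_normalizer h.hKU.normal hbNM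
      have hkσ : k ∈ sigmaCore M := by
        have hk' : k = u⁻¹ * b := by rw [hbuk, inv_mul_cancel_left]
        rw [hk']
        exact mul_mem (inv_mem (h.hUσ hu)) (hBσ hb)
      have hk1 : k ∈ (M ⊓ L) ⊓ sigmaCore M := ⟨⟨hK_M hk, hK_L hk⟩, hkσ⟩
      rw [h.hE.2.2.1, Subgroup.mem_bot] at hk1
      rw [hbuk, hk1, mul_one]
      exact hu
    -- a Sylow `s`-subgroup of `U` containing `B`
    have hB'p : IsPGroup s ↥(B.subgroupOf U) := by
      intro b
      refine ⟨1, ?_⟩
      apply Subtype.ext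
      apply Subtype.ext
      rw [pow_one, Subgroup.coe_pow, Subgroup.coe_pow]
      exact hBe ((b : ↥U) : G) (Subgroup.mem_subgroupOf.mp b.2)
    obtain ⟨Q, hQ⟩ := hB'p.exists_le_sylow
    have h58 := (Cfsg.Agent.S1358.result hG N h.hN K U h.hKU s hs Q).2
    have hle := c9b_prank_apply h58 (A := B.subgroupOf U) hQ
      (by
        intro a ha b hb
        apply Subtype.ext
        exact hBc (a : G) (Subgroup.mem_subgroupOf.mp ha) (b : G) (Subgroup.mem_subgroupOf.mp hb))
      (by
        intro a ha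
        apply Subtype.ext
        rw [Subgroup.coe_pow]
        exact hBe (a : G) (Subgroup.mem_subgroupOf.mp ha))
    rwa [Cfsg.Agent.Helper35.card_subgroupOf_of_le hBU] at hle

end Cfsg.Agent.Helper73
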