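/-
helper73: CALL S1376 (helper1), piece G4 (double): `c9_Knorm`.
-/
import Cfsg.Agent.Helper1.C9Defs
import Cfsg.Agent.S1372
import Cfsg.Agent.S1403
import Cfsg.Agent.Helper22.BG10b
import Cfsg.Agent.Helper20.BG65SUBS
import Cfsg.Agent.Helper49.OddCyclic
import Cfsg.Agent.Helper1.BG147PCcore

set_option autoImplicit false

namespace Cfsg.Agent.Helper73

open Cfsg Subgroup
open Cfsg.Agent.Helper1 (C9)

universe u

variable {G : Type u} [Group G] [Finite G]

/-- G4. -/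
theorem c9_Knorm (hG : IsMinSimpleOddOrder G) {M N K U L : Subgroup G} {x : G}
    (h : C9 M N K U L x) (hk : Nat.card K ∉ tau2 M) {Q : Subgroup G}
    (hQ : IsPGroup (Nat.card K) Q) (hKQ : K ≤ Q) (hLQ : L ≤ normalizer (Q : Set G)) :
    M ⊓ L ≤ normalizer (K : Set G) := by
  have hU : Cfsg.Agent.Helper22.BGUniq G :=
    fun K hK h1 h2 => Cfsg.Agent.S1403.result hG K hK h1 h2
  have hkp : (Nat.card K).Prime :=
    (Cfsg.Agent.S1372.result hG N h.hN K U h.hKU h.hK1 h.hU1).1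
  have hF : Fact (Nat.card K).Prime := Fact.mk hkp
  have hk2 : Nat.card K ≠ 2 := by
    intro h2
    have hodd : Odd (Nat.card G) := hG.1
    have hdvd : Nat.card K ∣ Nat.card G := Subgroup.card_subgroup_dvd_card K
    rw [h2] at hdvd
    exact (Nat.not_even_iff_odd.mpr hodd) (even_iff_two_dvd.mpr hdvd)
  have hKσL : K ≤ sigmaCore L := (le_of_eq h.hKst).trans inf_le_left
  have hKL : K ≤ L := hKσL.trans (Cfsg.Agent.Helper23.piCoreOf_le _ _)
  have hKM : K ≤ M := (le_sup_right.trans (le_of_eq h.hMN.symm)).trans inf_le_right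
  have hkσ : Nat.card K ∉ sigma M := by
    intro hσ
    have hKσ : K ≤ sigmaCore M := Cfsg.Agent.Helper20.bg65_le_sigmaCore hG h.hM hKM
      (fun s hs hsK => by
        have h5 : s = Nat.card K := (Nat.prime_dvd_prime_iff_eq hs hkp).mp hsK
        rw [h5]
        exact hσ)
    apply h.hK1
    rw [eq_bot_iff, ← h.hE.2.2.1]
    exact le_inf (le_inf hKM hKL) hKσ
  have h2 : PRankLE (Nat.card K) 2 ↥M := by
    by_contra h2
    exact hkσ (Cfsg.Agent.Helper22.bg10_alpha_sub_sigma hG hU h.hM ⟨hkp, h2⟩)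
  have h1 : PRankLE (Nat.card K) 1 ↥M := by
    by_contra h1
    exact hk ⟨hkp, hkσ, h2, h1⟩
  -- `Q ⊓ M` is cyclic
  have hPp : IsPGroup (Nat.card K) ↥((Q ⊓ M).subgroupOf M) := by
    have h3 : IsPGroup (Nat.card K) ↥(Q ⊓ M) := hQ.to_le inf_le_left
    exact h3.of_equiv (Subgroup.subgroupOfEquivOfLe inf_le_right).symm
  have hcyc' : IsCyclic ↥((Q ⊓ M).subgroupOf M) :=
    Cfsg.Agent.Helper49.isCyclic_of_pRankLE_one hk2 hPp
      (Cfsg.Agent.Helper49.pRankLE_subgroup h1 _)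
  have hcyc : IsCyclic ↥(Q ⊓ M) :=
    (Subgroup.subgroupOfEquivOfLe (inf_le_right : Q ⊓ M ≤ M)).isCyclic.mp hcyc'
  intro e he
  have heM : e ∈ M := he.1
  have heL : e ∈ L := he.2
  have hconjQ : ∀ z ∈ Q, e * z * e⁻¹ ∈ Q := fun z hz =>
    (mem_normalizer_iff.mp (hLQ heL) z).mp hz
  have hKe : K.map (MulAut.conj e).toMonoidHom ≤ Q ⊓ M := by
    rintro _ ⟨z, hz, rfl⟩
    exact ⟨hconjQ z (hKQ hz), M.mul_mem (M.mul_mem heM (hKM hz)) (M.inv_mem heM)⟩
  have hcard : Nat.card K = Nat.card ↥(K.map (MulAut.conj e).toMonoidHom) :=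
    (Subgroup.card_map_of_injective (MulAut.conj e).injective).symm
  have heq : K = K.map (MulAut.conj e).toMonoidHom :=
    Cfsg.Agent.Helper1.bg147_eq_of_card_eq hcyc (le_inf hKQ hKM) hKe hcard
  rw [mem_normalizer_iff]
  intro z
  constructor
  · intro hz
    rw [heq]
    exact ⟨z, hz, rfl⟩
  · intro hz
    rw [heq] at hz
    obtain ⟨z', hz', hzz⟩ := hz
    have h5 : z' = z := by
      have h6 : e * z' * e⁻¹ = e * z * e⁻¹ := hzz
      have h7 : z' = e⁻¹ * (e * z' * e⁻¹) * e := by group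
      rw [h7, h6]
      group
    rw [← h5]
    exact hz'

end Cfsg.Agent.Helper73
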