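/-
helper73: CALL S1376 (helper1), piece TB (double): `c9_sigL`.
-/
import Cfsg.Agent.Helper1.C9Defs
import Cfsg.Agent.S1403
import Cfsg.Agent.S1417
import Cfsg.Agent.Helper22.BG10b
import Cfsg.Agent.Helper20.BG65SUBS
import Cfsg.Agent.Helper35.SZ

set_option autoImplicit false

namespace Cfsg.Agent.Helper73

open Cfsg Subgroup
open Cfsg.Agent.Helper1 (C9)

universe u

variable {G : Type u} [Group G] [Finite G]

/-- TB. -/
theorem c9_sigL (hG : IsMinSimpleOddOrder G) {M N K U L : Subgroup G} {x : G}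
    (h : C9 M N K U L x) (hML : M ≠ L) {r : ℕ} (hr : r ∈ tau2 M) {A : Subgroup G}
    (hA : A ≤ M ⊓ L ∧ IsElementaryAbelian r A ∧ Nat.card A = r ^ 2) :
    r ∈ sigma L ∧ A ≤ sigmaCore L := by
  have hU : Cfsg.Agent.Helper22.BGUniq G :=
    fun K hK h1 h2 => Cfsg.Agent.S1403.result hG K hK h1 h2
  have hrp : r.Prime := hr.1
  have hF : Fact r.Prime := Fact.mk hrp
  have hAL : A ≤ L := fun a ha => (hA.1 ha).2
  have hAM : A ≤ M := fun a ha => (hA.1 ha).1
  have hrσ : r ∈ sigma L := by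
    by_contra hrσ
    have h2 : PRankLE r 2 ↥L := by
      by_contra h2
      exact hrσ (Cfsg.Agent.Helper22.bg10_alpha_sub_sigma hG hU h.hL ⟨hrp, h2⟩)
    have h1 : ¬ PRankLE r 1 ↥L := by
      intro h1
      have hcomm : IsMulCommutative ↥(A.subgroupOf L) :=
        ⟨⟨fun a b => Subtype.ext (Subtype.ext (by
          have h3 := hA.2.1.1.is_comm.comm
            ⟨((a : ↥L) : G), Subgroup.mem_subgroupOf.mp a.2⟩
            ⟨((b : ↥L) : G), Subgroup.mem_subgroupOf.mp b.2⟩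
          have h4 : ((a : ↥L) : G) * ((b : ↥L) : G) = ((b : ↥L) : G) * ((a : ↥L) : G) :=
            congrArg Subtype.val h3
          exact h4))⟩⟩
      have hexp : ∀ a ∈ A.subgroupOf L, a ^ r = 1 := by
        intro a ha
        apply Subtype.ext
        rw [Subgroup.coe_pow]
        exact hA.2.1.2 (a : G) (Subgroup.mem_subgroupOf.mp ha)
      have hle := h1 (A.subgroupOf L) hcomm hexp
      rw [Cfsg.Agent.Helper35.card_subgroupOf_of_le hAL, hA.2.2, pow_one] at hle
      have h3 : r < r ^ 2 := by nlinarith [hrp.one_lt]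
      exact absurd hle (not_le.mpr h3)
    have hτ : r ∈ tau2 L := ⟨hrp, hrσ, h2, h1⟩
    have h17 := Cfsg.Agent.S1417.result hG L h.hL r hτ A ⟨hAL, hA.2.1, hA.2.2⟩
    have hbot := h17.2.2.2.2.1 M h.hM hML hAM
    have hKσ : K ≤ sigmaCore L := (le_of_eq h.hKst).trans inf_le_left
    have hKM : K ≤ M := (le_sup_right.trans (le_of_eq h.hMN.symm)).trans inf_le_right
    apply h.hK1
    rw [eq_bot_iff, ← hbot]
    exact le_inf hKσ hKM
  refine ⟨hrσ, Cfsg.Agent.Helper20.bg65_le_sigmaCore hG h.hL hAL (fun s hs hsA => ?_)⟩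
  rw [hA.2.2] at hsA
  have h5 : s = r := (Nat.prime_dvd_prime_iff_eq hs hrp).mp (hs.dvd_of_dvd_pow hsA)
  rw [h5]
  exact hrσ

end Cfsg.Agent.Helper73
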