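import Mathlib
import Cfsg.Prelude.Def_Characters
import Cfsg.Prelude.Def_Blocks
import Cfsg.Agent.Helper3.Induced
import Cfsg.Agent.Helper3.Artin
import Cfsg.Agent.Helper15.Solomon
import Cfsg.Agent.Helper15.Gallagher
import Cfsg.Agent.Helper15.CharInner

/-!
# Brauer induction, part A (helper73)

Spans of characters induced from `p`-elementary subgroups, with integer and with
algebraic-integer coefficients; closure under multiplication; the local Banaschewski
argument.  Everything is in `namespace Cfsg.Agent.Helper73`.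
-/

set_option autoImplicit false

namespace Cfsg.Agent.Helper73

open scoped ComplexConjugate

section BrauerA

variable {G : Type*} [Group G]

theorem extendByZero_smul (H : Subgroup G) (c : ℂ) (θ : H → ℂ) (g : G) :
    Cfsg.extendByZero H (c • θ) g = c * Cfsg.extendByZero H θ g := by
  by_cases hg : g ∈ H
  · rw [Cfsg.Agent.Helper3.extendByZero_of_mem H _ hg,
      Cfsg.Agent.Helper3.extendByZero_of_mem H _ hg]
    rfl
  · rw [Cfsg.Agent.Helper3.extendByZero_of_not_mem H _ hg,
      Cfsg.Agent.Helper3.extendByZero_of_not_mem H _ hg, mul_zero]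

theorem indFun_smul [Fintype G] (H : Subgroup G) (c : ℂ) (θ : H → ℂ) :
    Cfsg.indFun H (c • θ) = c • Cfsg.indFun H θ := by
  funext g
  simp only [Cfsg.indFun, Pi.smul_apply, smul_eq_mul, extendByZero_smul, ← Finset.mul_sum]
  ring

/-- Induction of functions as a `ℂ`-linear map. -/
noncomputable def indFunLin [Fintype G] (H : Subgroup G) : (H → ℂ) →ₗ[ℂ] (G → ℂ) where
  toFun := Cfsg.indFun H
  map_add' := Cfsg.Agent.Helper3.indFun_add H
  map_smul' := fun c θ => by rw [indFun_smul]; rfl

theorem indFunLin_apply [Fintype G] (H : Subgroup G) (θ : H → ℂ) :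
    indFunLin H θ = Cfsg.indFun H θ := rfl

theorem indFun_sum [Fintype G] (H : Subgroup G) {ι : Type*} (s : Finset ι) (f : ι → H → ℂ) :
    Cfsg.indFun H (∑ i ∈ s, f i) = ∑ i ∈ s, Cfsg.indFun H (f i) := by
  rw [← indFunLin_apply, map_sum]
  rfl

/-- The characters of `G` induced from characters of `p`-elementary subgroups. -/
def brGen (p : ℕ) (G : Type*) [Group G] [Fintype G] : Set (G → ℂ) :=
  {f | ∃ (E : Subgroup G) (φ : E → ℂ), Cfsg.IsElementary p E ∧ Cfsg.IsCharacter E φ ∧
    f = Cfsg.indFun E φ}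

theorem isCharacter_of_mem_brGen [Fintype G] {p : ℕ} {f : G → ℂ} (hf : f ∈ brGen p G) :
    Cfsg.IsCharacter G f := by
  obtain ⟨E, φ, -, hφ, rfl⟩ := hf
  exact Cfsg.Agent.Helper3.isCharacter_indFun E φ hφ

theorem brGen_mul [Fintype G] {p : ℕ} {f g : G → ℂ} (hf : f ∈ brGen p G)
    (hg : Cfsg.IsCharacter G g) : f * g ∈ brGen p G := by
  obtain ⟨E, φ, hE, hφ, rfl⟩ := hf
  refine ⟨E, fun h => φ h * g h, hE, ?_, ?_⟩
  · exact Cfsg.Agent.Helper79.isCharacter_mul hφ (Cfsg.Agent.Helper79.isCharacter_restrict hg E)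
  · rw [Cfsg.Agent.Helper15.indFun_mul_restrict E φ
      (Cfsg.Agent.Helper79.isCharacter_isClassFunction hg)]

/-- The span, with algebraic integer coefficients, of the characters induced from
`p`-elementary subgroups. -/
noncomputable def brSpanA (p : ℕ) (G : Type*) [Group G] [Fintype G] :
    Submodule Cfsg.AlgInt (G → ℂ) :=
  Submodule.span Cfsg.AlgInt (brGen p G)

/-- The span, with integer coefficients, of the characters induced from `p`-elementary
subgroups. -/
noncomputable def brSpanZ (p : ℕ) (G : Type*) [Group G] [Fintype G] :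
    Submodule ℤ (G → ℂ) :=
  Submodule.span ℤ (brGen p G)

theorem brSpanA_mul [Fintype G] {p : ℕ} {f g : G → ℂ} (hf : f ∈ brSpanA p G)
    (hg : g ∈ brSpanA p G) : f * g ∈ brSpanA p G := by
  unfold brSpanA at hf hg ⊢
  induction hf, hg using Submodule.span_induction₂ with
  | mem_mem x y hx hy =>
    exact Submodule.subset_span (brGen_mul hx (isCharacter_of_mem_brGen hy))
  | zero_left y hy => rw [zero_mul]; exact Submodule.zero_mem _
  | zero_right x hx => rw [mul_zero]; exact Submodule.zero_mem _
  | add_left x y z hx hy hz h1 h2 => rw [add_mul]; exact add_mem h1 h2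
  | add_right x y z hx hy hz h1 h2 => rw [mul_add]; exact add_mem h1 h2
  | smul_left r x y hx hy h => rw [smul_mul_assoc]; exact Submodule.smul_mem _ _ h
  | smul_right r x y hx hy h => rw [mul_smul_comm]; exact Submodule.smul_mem _ _ h

theorem brSpanZ_mul [Fintype G] {p : ℕ} {f g : G → ℂ} (hf : f ∈ brSpanZ p G)
    (hg : g ∈ brSpanZ p G) : f * g ∈ brSpanZ p G := by
  unfold brSpanZ at hf hg ⊢
  induction hf, hg using Submodule.span_induction₂ with
  | mem_mem x y hx hy =>
    exact Submodule.subset_span (brGen_mul hx (isCharacter_of_mem_brGen hy))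
  | zero_left y hy => rw [zero_mul]; exact Submodule.zero_mem _
  | zero_right x hx => rw [mul_zero]; exact Submodule.zero_mem _
  | add_left x y z hx hy hz h1 h2 => rw [add_mul]; exact add_mem h1 h2
  | add_right x y z hx hy hz h1 h2 => rw [mul_add]; exact add_mem h1 h2
  | smul_left r x y hx hy h => rw [smul_mul_assoc]; exact Submodule.smul_mem _ _ h
  | smul_right r x y hx hy h => rw [mul_smul_comm]; exact Submodule.smul_mem _ _ h

/-- Local Banaschewski argument: if for every `x` there is `ψ` in the span with `ψ x` an integer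
prime to `p`, then some constant prime to `p` lies in the span. -/
theorem exists_const_mem_brSpanA [Fintype G] {p : ℕ} (hp : p.Prime)
    (h : ∀ x : G, ∃ ψ ∈ brSpanA p G, ∃ c : ℤ, ψ x = (c : ℂ) ∧ ¬ (p : ℤ) ∣ c) :
    ∃ m : ℤ, ¬ (p : ℤ) ∣ m ∧ (fun _ : G => (m : ℂ)) ∈ brSpanA p G := by
  classical
  choose ψ hψ c hc hnd using h
  have key := Cfsg.Agent.Helper15.prod_sub_smul_one_mem ((brSpanA p G).restrictScalars ℤ)
    (fun f g hf hg => brSpanA_mul hf hg) ψ c hψ Finset.univ
  have hzero : ∏ x : G, (ψ x - c x • (1 : G → ℂ)) = 0 := by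
    funext w
    rw [Finset.prod_apply]
    apply Finset.prod_eq_zero (Finset.mem_univ w)
    simp [hc w]
  rw [hzero, zero_sub] at key
  have key2 := ((brSpanA p G).restrictScalars ℤ).neg_mem key
  rw [neg_neg] at key2
  refine ⟨∏ x : G, -c x, ?_, ?_⟩
  · intro hdvd
    obtain ⟨x, -, hx⟩ := (Nat.prime_iff_prime_int.mp hp).dvd_finsetProd_iff _ |>.mp hdvd
    rw [dvd_neg] at hx
    exact hnd x hx
  · have : (fun _ : G => ((∏ x : G, -c x : ℤ) : ℂ)) = (∏ x : G, -c x) • (1 : G → ℂ) := by
      funext w
      simp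
    rw [this]
    exact key2

end BrauerA

end Cfsg.Agent.Helper73
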