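import Mathlib
import Cfsg.Prelude.Def_Characters
import Cfsg.Prelude.Def_Blocks
import Cfsg.Agent.Helper3.Induced
import Cfsg.Agent.Helper15.CharInner
import Cfsg.Agent.Helper76.CharInt

/-!
# Descent from algebraic-integer coefficients to integer coefficients (helper73)

If a class function with integral inner products against the irreducible characters is a
combination of characters with algebraic integer coefficients, then it is a combination of the
same characters with integer coefficients.  Everything is in `namespace Cfsg.Agent.Helper73`.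
-/

set_option autoImplicit false

namespace Cfsg.Agent.Helper73

open scoped ComplexConjugate

/-- A finitely generated group of algebraic integers containing `1` has an additive
functional to `ℤ` taking the value `1` at `1`. -/
theorem exists_int_functional (N : Submodule ℤ ℂ) (hfg : N.FG)
    (hint : ∀ z ∈ N, IsIntegral ℤ z) (h1 : (1 : ℂ) ∈ N) :
    ∃ π : N →ₗ[ℤ] ℤ, π ⟨1, h1⟩ = 1 := by
  classical
  have hfin : Module.Finite ℤ N := Module.Finite.of_fg hfg
  have hfree : Module.Free ℤ N := Module.free_of_finite_type_torsion_free'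
  obtain ⟨b⟩ : Nonempty (Module.Basis (Module.Free.ChooseBasisIndex ℤ N) ℤ N) :=
    ⟨Module.Free.chooseBasis ℤ N⟩
  obtain ⟨one, hone⟩ : ∃ one : N, one = ⟨1, h1⟩ := ⟨_, rfl⟩
  obtain ⟨I, hI⟩ : ∃ I : Ideal ℤ,
      I = LinearMap.range (LinearMap.applyₗ one : (N →ₗ[ℤ] ℤ) →ₗ[ℤ] ℤ) := ⟨_, rfl⟩
  obtain ⟨d, hd⟩ : ∃ d : ℤ, I = Ideal.span {d} := (IsPrincipalIdealRing.principal I).principal
  have hdvd : ∀ j, d ∣ b.repr one j := by
    intro j
    have hmem : b.repr one j ∈ I := by
      rw [hI]
      exact ⟨b.coord j, rfl⟩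
    rw [hd] at hmem
    exact Ideal.mem_span_singleton.mp hmem
  choose k hk using hdvd
  have hsum : (1 : ℂ) = (d : ℂ) * ∑ j, (k j : ℂ) * ((b j : N) : ℂ) := by
    have h2 := b.sum_repr one
    have h3 := congrArg (Subtype.val : N → ℂ) h2
    rw [hone] at h3
    simp only at h3
    rw [← h3, Finset.mul_sum]
    rw [AddSubmonoidClass.coe_finsetSum]
    refine Finset.sum_congr rfl ?_
    intro j _
    rw [← hone, hk j]
    simp only [Submodule.coe_smul, zsmul_eq_mul]
    push_cast
    ring
  have hy : IsIntegral ℤ (∑ j, (k j : ℂ) * ((b j : N) : ℂ)) := by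
    apply IsIntegral.sum
    intro j _
    exact (isIntegral_algebraMap (R := ℤ) (A := ℂ) (x := k j)).mul (hint _ (b j).2)
  have hd1 : d.natAbs = 1 := by
    have hd0 : d ≠ 0 := by
      rintro rfl
      simp at hsum
    have hnat : d.natAbs ∣ 1 := by
      rcases Int.natAbs_eq d with h | h
      · apply Cfsg.Agent.Helper76.dvd_of_natCast_eq_mul_isIntegral 1 d.natAbs
          (Int.natAbs_ne_zero.mpr hd0) _ hy
        rw [Nat.cast_one]
        have : ((d.natAbs : ℕ) : ℂ) = (d : ℂ) := by
          conv_rhs => rw [h]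
          simp
        rw [this]
        exact hsum
      · apply Cfsg.Agent.Helper76.dvd_of_natCast_eq_mul_isIntegral 1 d.natAbs
          (Int.natAbs_ne_zero.mpr hd0) _ hy.neg
        rw [Nat.cast_one]
        have : ((d.natAbs : ℕ) : ℂ) = -(d : ℂ) := by
          conv_rhs => rw [h]
          simp
        rw [this, neg_mul_neg]
        exact hsum
    exact Nat.dvd_one.mp hnat
  have hunit : IsUnit d := Int.isUnit_iff_natAbs_eq.mpr hd1
  have htop : I = ⊤ := by
    rw [hd]
    exact Ideal.span_singleton_eq_top.mpr hunit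
  have h1I : (1 : ℤ) ∈ I := by rw [htop]; exact Submodule.mem_top
  rw [hI] at h1I
  obtain ⟨π, hπ⟩ := h1I
  refine ⟨π, ?_⟩
  rw [← hone]
  exact hπ

section Descent

variable {G : Type*} [Group G] [Fintype G]

/-- Descent: a function with integral inner products against the irreducible characters which is
an algebraic-integer combination of characters from `S` is an integer combination of them. -/
theorem mem_span_int_of_mem_span_algInt (S : Set (G → ℂ))
    (hS : ∀ f ∈ S, Cfsg.IsCharacter G f) (v : G → ℂ)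
    (hvZ : ∀ χ : Cfsg.IrrCharacter G, ∃ n : ℤ, Cfsg.classInner v χ = (n : ℂ))
    (hmem : v ∈ Submodule.span Cfsg.AlgInt S) : v ∈ Submodule.span ℤ S := by
  classical
  have : Fintype (Cfsg.IrrCharacter G) := Fintype.ofFinite _
  obtain ⟨f, t, htS, -, hsum⟩ := Submodule.mem_span_iff_exists_finset_subset.mp hmem
  -- the group of coefficients
  obtain ⟨N, hN⟩ : ∃ N : Submodule ℤ ℂ,
      N = Submodule.span ℤ (insert (1 : ℂ) ((t.image fun a => ((f a : Cfsg.AlgInt) : ℂ) : Finset ℂ) : Set ℂ)) :=
    ⟨_, rfl⟩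
  have hfg : N.FG := by
    rw [hN]
    exact Submodule.fg_span ((Finset.finite_toSet _).insert _)
  have hint : ∀ z ∈ N, IsIntegral ℤ z := by
    intro z hz
    rw [hN] at hz
    have hle : Submodule.span ℤ (insert (1 : ℂ)
        ((t.image fun a => ((f a : Cfsg.AlgInt) : ℂ) : Finset ℂ) : Set ℂ)) ≤
        Subalgebra.toSubmodule (integralClosure ℤ ℂ) := by
      apply Submodule.span_le.mpr
      intro w hw
      rcases hw with rfl | hw
      · exact isIntegral_one
      · obtain ⟨a, -, rfl⟩ := Finset.mem_image.mp (Finset.mem_coe.mp hw)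
        exact (f a).2
    exact hle hz
  have h1 : (1 : ℂ) ∈ N := by
    rw [hN]; exact Submodule.subset_span (Set.mem_insert _ _)
  have hfa : ∀ a ∈ t, ((f a : Cfsg.AlgInt) : ℂ) ∈ N := by
    intro a ha
    rw [hN]
    exact Submodule.subset_span (Set.mem_insert_of_mem _
      (Finset.mem_coe.mpr (Finset.mem_image_of_mem _ ha)))
  obtain ⟨π, hπ⟩ := exists_int_functional N hfg hint h1
  obtain ⟨r, hr⟩ : ∃ r : (G → ℂ) → N, r = fun a =>
      if h : ((f a : Cfsg.AlgInt) : ℂ) ∈ N then ⟨_, h⟩ else 0 := ⟨_, rfl⟩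
  have hra : ∀ a ∈ t, ((r a : N) : ℂ) = ((f a : Cfsg.AlgInt) : ℂ) := by
    intro a ha
    rw [hr]
    simp only
    rw [dif_pos (hfa a ha)]
  -- expansions of the characters in `t`
  have hexp : ∀ a ∈ t, a = ∑ χ : Cfsg.IrrCharacter G, Cfsg.classInner a χ • (χ : G → ℂ) := by
    intro a ha
    exact Cfsg.Agent.Helper3.classFunction_eq_sum a
      (Cfsg.Agent.Helper79.isCharacter_isClassFunction (hS a (htS ha)))
  have hcomb : ∀ c : (G → ℂ) → ℂ, ∑ a ∈ t, c a • a =
      ∑ χ : Cfsg.IrrCharacter G, (∑ a ∈ t, c a * Cfsg.classInner a χ) • (χ : G → ℂ) := by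
    intro c
    have h2 : ∑ a ∈ t, c a • a = ∑ a ∈ t, ∑ χ : Cfsg.IrrCharacter G,
        (c a * Cfsg.classInner a χ) • (χ : G → ℂ) := by
      refine Finset.sum_congr rfl ?_
      intro a ha
      have h3 : c a • a = c a • ∑ χ : Cfsg.IrrCharacter G, Cfsg.classInner a χ • (χ : G → ℂ) :=
        congrArg (fun z => c a • z) (hexp a ha)
      rw [h3, Finset.smul_sum]
      refine Finset.sum_congr rfl ?_
      intro χ _
      rw [smul_smul]
    rw [h2, Finset.sum_comm]
    refine Finset.sum_congr rfl ?_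
    intro χ _
    rw [Finset.sum_smul]
  have hv : v = ∑ a ∈ t, ((f a : Cfsg.AlgInt) : ℂ) • a := by
    rw [← hsum]
    rfl
  have hkey : ∀ χ : Cfsg.IrrCharacter G,
      ∑ a ∈ t, ((f a : Cfsg.AlgInt) : ℂ) * Cfsg.classInner a χ =
      ∑ a ∈ t, ((π (r a) : ℤ) : ℂ) * Cfsg.classInner a χ := by
    intro χ
    obtain ⟨n, hn⟩ := hvZ χ
    have hk : ∀ a ∈ t, ∃ k : ℕ, Cfsg.classInner a χ = (k : ℂ) := fun a ha =>
      Cfsg.Agent.Helper3.classInner_isCharacter_nat (hS a (htS ha))
        (Cfsg.Agent.Helper79.irr_isCharacter χ)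
    obtain ⟨k, hk⟩ : ∃ k : (G → ℂ) → ℕ, ∀ a ∈ t, Cfsg.classInner a χ = (k a : ℂ) := by
      refine ⟨fun a => if h : a ∈ t then (hk a h).choose else 0, ?_⟩
      intro a ha
      simp only [dif_pos ha]
      exact (hk a ha).choose_spec
    have hL : ∑ a ∈ t, ((f a : Cfsg.AlgInt) : ℂ) * Cfsg.classInner a χ = (n : ℂ) := by
      rw [← hn, hv, Cfsg.Agent.Helper15.classInner_sum_left]
      refine Finset.sum_congr rfl ?_
      intro a _
      rw [Cfsg.Agent.Helper15.classInner_smul_left]
    have hN2 : ∑ a ∈ t, (k a : ℤ) • r a = n • (⟨1, h1⟩ : N) := by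
      apply Subtype.ext
      rw [AddSubmonoidClass.coe_finsetSum]
      simp only [Submodule.coe_smul, zsmul_eq_mul, mul_one]
      rw [← hL]
      refine Finset.sum_congr rfl ?_
      intro a ha
      rw [hra a ha, hk a ha, mul_comm]
      simp
    have hπ2 := congrArg π hN2
    rw [map_sum, map_zsmul, hπ] at hπ2
    rw [hL]
    have h3 : (n : ℂ) = ((∑ a ∈ t, (k a : ℤ) * π (r a) : ℤ) : ℂ) := by
      congr 1
      have : ∑ a ∈ t, π ((k a : ℤ) • r a) = ∑ a ∈ t, (k a : ℤ) * π (r a) := by
        refine Finset.sum_congr rfl ?_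
        intro a _
        rw [map_zsmul, smul_eq_mul]
      rw [← this, hπ2]
      simp
    rw [h3, Int.cast_sum]
    refine Finset.sum_congr rfl ?_
    intro a ha
    rw [hk a ha]
    push_cast
    ring
  have hw : v = ∑ a ∈ t, (π (r a)) • a := by
    rw [hv, hcomb]
    have : ∑ a ∈ t, (π (r a)) • a = ∑ a ∈ t, ((π (r a) : ℤ) : ℂ) • a := by
      refine Finset.sum_congr rfl ?_
      intro a _
      rw [Int.cast_smul_eq_zsmul]
    rw [this, hcomb]
    refine Finset.sum_congr rfl ?_
    intro χ _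
    rw [hkey χ]
  rw [hw]
  exact Submodule.sum_mem _ fun a ha =>
    Submodule.smul_mem _ _ (Submodule.subset_span (htS ha))

end Descent

end Cfsg.Agent.Helper73
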