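import Mathlib
import Cfsg.Prelude.Def_Characters
import Cfsg.Prelude.Def_Blocks
import Cfsg.Agent.Helper73.BrauerA
import Cfsg.Agent.Helper73.BrauerDescent
import Cfsg.Agent.Helper73.ElemAb2
import Cfsg.Agent.Helper76.CentralChar
import Cfsg.Agent.Helper76.CharInt

/-!
# Brauer induction, local form (helper73)

For every element `x` of a finite group and every prime `p` there is a combination `ψ`, with
algebraic integer coefficients, of characters induced from `p`-elementary subgroups such that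
`ψ x` is an integer prime to `p`.  Consequently some integer constant prime to `p` is an integer
combination of characters induced from `p`-elementary subgroups.
Everything is in `namespace Cfsg.Agent.Helper73`.
-/

set_option autoImplicit false

namespace Cfsg.Agent.Helper73

open scoped ComplexConjugate

variable {G : Type*} [Group G]

/-- Decomposition of an element into commuting `p'`-part and `p`-part. -/
theorem exists_ppart_decomp [Finite G] {p : ℕ} (hp : p.Prime) (x : G) :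
    ∃ s u : G, x = s * u ∧ Commute s u ∧ (orderOf s).Coprime p ∧ ∃ k : ℕ, u ^ p ^ k = 1 := by
  have hn : orderOf x ≠ 0 := (orderOf_pos x).ne'
  obtain ⟨k, m, hm, hkm⟩ := Nat.exists_eq_pow_mul_and_not_dvd hn p hp.ne_one
  have hcop : Nat.Coprime (p ^ k) m := Nat.Coprime.pow_left k ((Nat.Prime.coprime_iff_not_dvd hp).mpr hm)
  obtain ⟨a, b, hab⟩ := (Nat.isCoprime_iff_coprime.mpr hcop)
  refine ⟨x ^ (a * (p ^ k : ℕ)), x ^ (b * (m : ℕ)), ?_, ?_, ?_, k, ?_⟩
  · rw [← zpow_add, hab, zpow_one]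
  · exact (Commute.refl x).zpow_zpow _ _
  · have h1 : (x ^ (a * (p ^ k : ℕ))) ^ m = 1 := by
      rw [← zpow_natCast, ← zpow_mul]
      have : a * ((p ^ k : ℕ) : ℤ) * (m : ℤ) = a * ((orderOf x : ℕ) : ℤ) := by
        rw [hkm]; push_cast; ring
      rw [this, zpow_mul', zpow_natCast, pow_orderOf_eq_one, one_zpow]
    have h2 : orderOf (x ^ (a * (p ^ k : ℕ))) ∣ m := orderOf_dvd_of_pow_eq_one h1
    exact Nat.Coprime.coprime_dvd_left h2 ((Nat.Prime.coprime_iff_not_dvd hp).mpr hm).symm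
  · rw [← zpow_natCast, ← zpow_mul]
    have : b * (m : ℤ) * ((p ^ k : ℕ) : ℤ) = b * ((orderOf x : ℕ) : ℤ) := by
      rw [hkm]; push_cast; ring
    rw [this, zpow_mul', zpow_natCast, pow_orderOf_eq_one, one_zpow]

/-- If a conjugate of `x = s u` lies in `s` times a `p`-element commuting with `s`, then the
conjugating element centralizes `s`. -/
theorem commute_of_conj_eq [Finite G] {p : ℕ} {x s u t y : G} (hx : x = s * u)
    (hsu : Commute s u) (hs : (orderOf s).Coprime p) {k j : ℕ} (hu : u ^ p ^ k = 1)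
    (hst : Commute s t) (ht : t ^ p ^ j = 1) (hy : y⁻¹ * x * y = s * t) : y * s = s * y := by
  have hN1 : u ^ p ^ (k + j) = 1 := by rw [pow_add, pow_mul, hu, one_pow]
  have hN2 : t ^ p ^ (k + j) = 1 := by rw [pow_add, mul_comm, pow_mul, ht, one_pow]
  have h1 : (y⁻¹ * x * y) ^ p ^ (k + j) = s ^ p ^ (k + j) := by
    rw [hy, hst.mul_pow, hN2, mul_one]
  have h2 : (y⁻¹ * x * y) ^ p ^ (k + j) = y⁻¹ * s ^ p ^ (k + j) * y := by
    have : y⁻¹ * x * y = y⁻¹ * x * y⁻¹⁻¹ := by rw [inv_inv]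
    rw [this, conj_pow, inv_inv, hx, hsu.mul_pow, hN1, mul_one]
  have hcop : Nat.Coprime (p ^ (k + j)) (orderOf s) := Nat.Coprime.pow_left _ hs.symm
  obtain ⟨b, hb⟩ := exists_pow_eq_self_of_coprime hcop
  have h3 : y⁻¹ * s * y = s := by
    have h4 : y⁻¹ * s ^ p ^ (k + j) * y = s ^ p ^ (k + j) := by rw [← h2, h1]
    have h5 : (y⁻¹ * s ^ p ^ (k + j) * y) ^ b = y⁻¹ * s * y := by
      have : y⁻¹ * s ^ p ^ (k + j) * y = y⁻¹ * s ^ p ^ (k + j) * y⁻¹⁻¹ := by rw [inv_inv]
      rw [this, conj_pow, inv_inv, hb]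
    rw [← h5, h4, hb]
  calc y * s = y * (y⁻¹ * s * y) := by rw [h3]
    _ = s * y := by group

/-- The permutation character on the cosets of a normal subgroup, shifted by a central element,
is a combination of (irreducible) characters with algebraic integer coefficients. -/
theorem shifted_perm_mem_span {E : Type*} [Group E] [Fintype E] (P : Subgroup E) [hPn : P.Normal]
    (s : E) (hs : s ∈ Subgroup.center E) (Θ : E → ℂ)
    (hΘ1 : ∀ e, s⁻¹ * e ∈ P → Θ e = (P.index : ℂ)) (hΘ0 : ∀ e, s⁻¹ * e ∉ P → Θ e = 0) :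
    Θ ∈ Submodule.span Cfsg.AlgInt {χ : E → ℂ | Cfsg.IsCharacter E χ} := by
  classical
  have : Fintype (Cfsg.IrrCharacter E) := Fintype.ofFinite _
  obtain ⟨ρ, hρ⟩ : ∃ ρ : E → ℂ, ρ = Cfsg.indFun P (fun _ => (1 : ℂ)) := ⟨_, rfl⟩
  have hρc : Cfsg.IsCharacter E ρ := by
    rw [hρ]
    exact Cfsg.Agent.Helper3.isCharacter_indFun P _ Cfsg.Agent.Helper79.isCharacter_one
  have hρv : ∀ e, ρ e = if e ∈ P then (P.index : ℂ) else 0 := by
    intro e
    rw [hρ]
    unfold Cfsg.indFun
    by_cases he : e ∈ P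
    · rw [if_pos he]
      have h1 : ∀ z : E, Cfsg.extendByZero P (fun _ => (1 : ℂ)) (z⁻¹ * e * z) = 1 := by
        intro z
        have hmem : z⁻¹ * e * z ∈ P := by
          have := hPn.conj_mem e he z⁻¹
          rwa [inv_inv] at this
        rw [Cfsg.Agent.Helper3.extendByZero_of_mem P _ hmem]
      simp only [h1, Finset.sum_const, Finset.card_univ, nsmul_eq_mul, mul_one]
      rw [← Nat.card_eq_fintype_card, ← P.card_mul_index]
      have hP0 : (Nat.card P : ℂ) ≠ 0 := by exact_mod_cast Nat.card_pos.ne'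
      push_cast
      field_simp
    · rw [if_neg he]
      have h0 : ∀ z : E, Cfsg.extendByZero P (fun _ => (1 : ℂ)) (z⁻¹ * e * z) = 0 := by
        intro z
        apply Cfsg.Agent.Helper3.extendByZero_of_not_mem
        intro h
        apply he
        have := hPn.conj_mem _ h z
        simpa [mul_assoc] using this
      simp [h0]
  have hexp := Cfsg.Agent.Helper3.classFunction_eq_sum ρ
    (Cfsg.Agent.Helper79.isCharacter_isClassFunction hρc)
  have hsc : ∀ χ : Cfsg.IrrCharacter E, ∃ c : ℂ, IsIntegral ℤ c ∧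
      ∀ e : E, (χ : E → ℂ) (s⁻¹ * e) = c * (χ : E → ℂ) e := by
    intro χ
    obtain ⟨c, hc⟩ := Cfsg.Agent.Helper76.exists_central_scalar (Subgroup.center E).subtype
      (fun z => z.2) χ
    obtain ⟨h1, hmul⟩ := Cfsg.Agent.Helper76.scalar_mul (Subgroup.center E).subtype (χ : E → ℂ)
      (Cfsg.Agent.Helper76.irr_one_ne_zero χ) c hc
    obtain ⟨z, hz⟩ : ∃ z : Subgroup.center E, z = ⟨s⁻¹, inv_mem hs⟩ := ⟨_, rfl⟩
    refine ⟨c z, ?_, ?_⟩
    · apply Cfsg.Agent.Helper76.isIntegral_of_pow_eq_one' (m := orderOf z) (orderOf_pos z).ne'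
      rw [← Cfsg.Agent.Helper76.scalar_pow c h1 hmul, pow_orderOf_eq_one, h1]
    · intro e
      have h2 := hc z e
      have hcomm : s⁻¹ * e = e * s⁻¹ := (Subgroup.mem_center_iff.mp (inv_mem hs) e).symm
      rw [hcomm]
      rw [hz] at h2 ⊢
      exact h2
  choose c hcint hc using hsc
  have hn : ∀ χ : Cfsg.IrrCharacter E, ∃ n : ℕ, Cfsg.classInner ρ χ = n := fun χ =>
    Cfsg.Agent.Helper3.classInner_isCharacter_nat hρc (Cfsg.Agent.Helper79.irr_isCharacter χ)
  choose n hn using hn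
  have hmemA : ∀ χ : Cfsg.IrrCharacter E, (n χ : ℂ) * c χ ∈ Cfsg.AlgInt := by
    intro χ
    have h := (isIntegral_algebraMap (R := ℤ) (A := ℂ) (x := (n χ : ℤ))).mul (hcint χ)
    have h2 : IsIntegral ℤ ((n χ : ℂ) * c χ) := by simpa using h
    exact h2
  have hΘ : Θ =
      ∑ χ : Cfsg.IrrCharacter E, (⟨(n χ : ℂ) * c χ, hmemA χ⟩ : Cfsg.AlgInt) • (χ : E → ℂ) := by
    funext e
    have hΘe : Θ e = ρ (s⁻¹ * e) := by
      rw [hρv]
      by_cases h : s⁻¹ * e ∈ P
      · rw [if_pos h, hΘ1 e h]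
      · rw [if_neg h, hΘ0 e h]
    rw [hΘe]
    have h3 := congrFun hexp (s⁻¹ * e)
    rw [h3]
    simp only [Finset.sum_apply, Pi.smul_apply, smul_eq_mul, hc, hn]
    refine Finset.sum_congr rfl ?_
    intro χ _
    show _ = (n χ : ℂ) * c χ * _
    ring
  rw [hΘ]
  exact Submodule.sum_mem _ fun χ _ =>
    Submodule.smul_mem _ _ (Submodule.subset_span (Cfsg.Agent.Helper79.irr_isCharacter χ))

/-- The subgroup generated by a `p'`-element `s` and a `p`-subgroup centralizing it is
elementary, of order `|s| |P|`; `s` is central in it and `P` is normal in it. -/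
theorem elementary_sup [Finite G] {p : ℕ} (hp : p.Prime) (s : G) (P : Subgroup G)
    (hcop : (orderOf s).Coprime p) (hP : IsPGroup p P) (hcomm : ∀ t ∈ P, s * t = t * s) :
    Cfsg.IsElementary p ((Subgroup.zpowers s ⊔ P : Subgroup G)) ∧
    Nat.card (Subgroup.zpowers s ⊔ P : Subgroup G) = orderOf s * Nat.card P ∧
    (∀ e ∈ (Subgroup.zpowers s ⊔ P : Subgroup G), e * s = s * e) ∧
    (∀ e ∈ (Subgroup.zpowers s ⊔ P : Subgroup G), ∀ t ∈ P, e * t * e⁻¹ ∈ P) := by
  have hpf : Fact p.Prime := ⟨hp⟩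
  obtain ⟨j, hj⟩ := (IsPGroup.iff_card.mp hP)
  have hcommC : ∀ h ∈ Subgroup.zpowers s, ∀ k ∈ P, h * k = k * h := by
    intro h hh k hk
    obtain ⟨i, rfl⟩ := Subgroup.mem_zpowers_iff.mp hh
    have : Commute s k := hcomm k hk
    exact this.zpow_left i
  have hdisj : Subgroup.zpowers s ⊓ P = ⊥ := by
    apply (Subgroup.disjoint_of_coprime_natCard _).eq_bot
    rw [Nat.card_zpowers, hj]
    exact Nat.Coprime.pow_right j hcop
  have hcard : Nat.card (Subgroup.zpowers s ⊔ P : Subgroup G) = orderOf s * Nat.card P := by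
    rw [card_sup_of_commute _ _ hcommC hdisj, Nat.card_zpowers]
  have hsE : s ∈ (Subgroup.zpowers s ⊔ P : Subgroup G) :=
    (le_sup_left : Subgroup.zpowers s ≤ _) (Subgroup.mem_zpowers s)
  have hcent : ∀ e ∈ (Subgroup.zpowers s ⊔ P : Subgroup G), e * s = s * e := by
    have hle : (Subgroup.zpowers s ⊔ P : Subgroup G) ≤ Subgroup.centralizer ({s} : Set G) := by
      apply sup_le
      · rw [Subgroup.zpowers_le]
        rw [Subgroup.mem_centralizer_iff]
        intro h hh
        rw [Set.mem_singleton_iff.mp hh]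
      · intro t ht
        rw [Subgroup.mem_centralizer_iff]
        intro h hh
        rw [Set.mem_singleton_iff.mp hh]
        exact hcomm t ht
    intro e he
    have := Subgroup.mem_centralizer_iff.mp (hle he) s (Set.mem_singleton s)
    exact this.symm
  have hnorm : ∀ e ∈ (Subgroup.zpowers s ⊔ P : Subgroup G), ∀ t ∈ P, e * t * e⁻¹ ∈ P := by
    have hle : (Subgroup.zpowers s ⊔ P : Subgroup G) ≤ Subgroup.normalizer (P : Set G) := by
      apply sup_le
      · apply le_normalizer_of_conj_mem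
        intro g hg b hb
        rw [hcommC g hg b hb, mul_inv_cancel_right]
        exact hb
      · exact Subgroup.le_normalizer
    intro e he t ht
    exact (Subgroup.mem_normalizer_iff.mp (hle he) t).mp ht
  refine ⟨?_, hcard, hcent, hnorm⟩
  refine ⟨⟨s, hsE⟩, ?_, ?_, j, ?_⟩
  · rw [Subgroup.mem_center_iff]
    intro g
    apply Subtype.ext
    exact hcent g g.2
  · rw [Subgroup.orderOf_mk]
    exact hcop
  · have h1 := Subgroup.card_mul_index (Subgroup.zpowers (⟨s, hsE⟩ : (Subgroup.zpowers s ⊔ P : Subgroup G)))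
    rw [Nat.card_zpowers, Subgroup.orderOf_mk, hcard, hj] at h1
    exact Nat.eq_of_mul_eq_mul_left (orderOf_pos s) h1

/-- Counting lemma: for `x = s u` there is a `p`-subgroup `P` centralizing `s` such that the number
of `y` with `y⁻¹ x y ∈ s P` is `|P|` times a number prime to `p`. -/
theorem card_conj_mem_coset [Finite G] {p : ℕ} (hp : p.Prime) {x s u : G} (hx : x = s * u)
    (hsu : Commute s u) (hs : (orderOf s).Coprime p) {k : ℕ} (hu : u ^ p ^ k = 1) :
    ∃ (P : Subgroup G) (f : ℕ), IsPGroup p P ∧ (∀ t ∈ P, s * t = t * s) ∧ ¬ p ∣ f ∧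
      Nat.card {y : G | s⁻¹ * (y⁻¹ * x * y) ∈ P} = Nat.card P * f := by
  have hpf : Fact p.Prime := ⟨hp⟩
  obtain ⟨Z, hZ⟩ : ∃ Z : Subgroup G, Z = Subgroup.centralizer ({s} : Set G) := ⟨_, rfl⟩
  have hmemZ : ∀ g : G, g ∈ Z ↔ g * s = s * g := by
    intro g
    rw [hZ, Subgroup.mem_centralizer_iff]
    constructor
    · intro h
      exact (h s (Set.mem_singleton s)).symm
    · intro h t ht
      rw [Set.mem_singleton_iff.mp ht]
      exact h.symm
  have huZ : u ∈ Z := (hmemZ u).mpr hsu.eq.symm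
  obtain ⟨u', hu'⟩ : ∃ u' : Z, u' = ⟨u, huZ⟩ := ⟨_, rfl⟩
  have hu'pow : u' ^ p ^ k = 1 := by
    rw [hu']
    apply Subtype.ext
    simpa using hu
  have hzp : IsPGroup p (Subgroup.zpowers u') := by
    obtain ⟨i, -, hi⟩ := (Nat.dvd_prime_pow hp).mp (orderOf_dvd_of_pow_eq_one hu'pow)
    apply IsPGroup.of_card (n := i)
    rw [Nat.card_zpowers, hi]
  obtain ⟨Q, hQ⟩ := hzp.exists_le_sylow
  obtain ⟨P, hPdef⟩ : ∃ P : Subgroup G, P = (Q : Subgroup Z).map Z.subtype := ⟨_, rfl⟩
  have hmemP : ∀ g : G, g ∈ P ↔ ∃ h : g ∈ Z, (⟨g, h⟩ : Z) ∈ (Q : Subgroup Z) := by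
    intro g
    rw [hPdef, Subgroup.mem_map]
    constructor
    · rintro ⟨z, hz, rfl⟩
      exact ⟨z.2, hz⟩
    · rintro ⟨h, hq⟩
      exact ⟨⟨g, h⟩, hq, rfl⟩
  have hPp : IsPGroup p P := by
    rw [hPdef]
    exact Q.2.map _
  have hPcomm : ∀ t ∈ P, s * t = t * s := by
    intro t ht
    obtain ⟨h, -⟩ := (hmemP t).mp ht
    exact ((hmemZ t).mp h).symm
  have hPcard : Nat.card P = Nat.card (Q : Subgroup Z) := by
    rw [hPdef]
    exact Subgroup.card_map_of_injective Z.subtype_injective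
  obtain ⟨F, hF⟩ : ∃ F : Set (Z ⧸ (Q : Subgroup Z)),
      F = MulAction.fixedPoints (Subgroup.zpowers u') (Z ⧸ (Q : Subgroup Z)) := ⟨_, rfl⟩
  have hmod := hzp.card_modEq_card_fixedPoints (Z ⧸ (Q : Subgroup Z))
  have hnd : ¬ p ∣ Nat.card F := by
    rw [hF]
    intro hdvd
    have h1 := (Nat.ModEq.dvd_iff hmod (dvd_refl p)).mpr hdvd
    exact Q.not_dvd_index h1
  have hFmem : ∀ y : Z, (QuotientGroup.mk y : Z ⧸ (Q : Subgroup Z)) ∈ F ↔
      y⁻¹ * u' * y ∈ (Q : Subgroup Z) := by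
    intro y
    rw [hF, MulAction.mem_fixedPoints]
    constructor
    · intro h
      have h1 := h ⟨u', Subgroup.mem_zpowers u'⟩
      have h2 : (QuotientGroup.mk (u' * y) : Z ⧸ (Q : Subgroup Z)) = QuotientGroup.mk y := h1
      rw [QuotientGroup.eq] at h2
      have h3 : (y⁻¹ * u' * y)⁻¹ ∈ (Q : Subgroup Z) := by
        have : (y⁻¹ * u' * y)⁻¹ = (u' * y)⁻¹ * y := by group
        rw [this]
        exact h2
      exact inv_mem_iff.mp h3
    · intro h g
      have hle : Subgroup.zpowers u' ≤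
          MulAction.stabilizer Z (QuotientGroup.mk y : Z ⧸ (Q : Subgroup Z)) := by
        rw [Subgroup.zpowers_le, MulAction.mem_stabilizer_iff]
        show (QuotientGroup.mk (u' * y) : Z ⧸ (Q : Subgroup Z)) = QuotientGroup.mk y
        rw [QuotientGroup.eq]
        have h3 : (y⁻¹ * u' * y)⁻¹ ∈ (Q : Subgroup Z) := inv_mem h
        have : (y⁻¹ * u' * y)⁻¹ = (u' * y)⁻¹ * y := by group
        rw [← this]
        exact h3
      exact MulAction.mem_stabilizer_iff.mp (hle g.2)
  have hset : {y : G | s⁻¹ * (y⁻¹ * x * y) ∈ P} = Z.subtype '' (QuotientGroup.mk ⁻¹' F) := by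
    ext y
    simp only [Set.mem_ofPred_eq, Set.mem_image, Set.mem_preimage]
    constructor
    · intro hy
      obtain ⟨j, hj⟩ := hPp ⟨_, hy⟩
      have htpow : (s⁻¹ * (y⁻¹ * x * y)) ^ p ^ j = 1 := by
        simpa using congrArg Subtype.val hj
      have hyZ : y ∈ Z := by
        rw [hmemZ]
        exact commute_of_conj_eq hx hsu hs hu (hPcomm _ hy) htpow (by group)
      refine ⟨⟨y, hyZ⟩, ?_, rfl⟩
      rw [hFmem]
      have heq : s⁻¹ * (y⁻¹ * x * y) = y⁻¹ * u * y := by
        have h1 := (hmemZ y).mp hyZ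
        have h2 : y⁻¹ * s * y = s := by
          rw [mul_assoc, ← h1, inv_mul_cancel_left]
        calc s⁻¹ * (y⁻¹ * x * y) = s⁻¹ * ((y⁻¹ * s * y) * (y⁻¹ * u * y)) := by
              rw [hx]; group
          _ = y⁻¹ * u * y := by rw [h2, inv_mul_cancel_left]
      rw [heq] at hy
      obtain ⟨h, hq⟩ := (hmemP _).mp hy
      have : (⟨y, hyZ⟩ : Z)⁻¹ * u' * ⟨y, hyZ⟩ = ⟨y⁻¹ * u * y, h⟩ := by
        rw [hu']
        rfl
      rw [this]
      exact hq
    · rintro ⟨y', hy', rfl⟩
      rw [hFmem] at hy'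
      have h1 := (hmemZ _).mp y'.2
      have h2 : (y' : G)⁻¹ * s * y' = s := by
        rw [mul_assoc, ← h1, inv_mul_cancel_left]
      have heq : s⁻¹ * ((Z.subtype y')⁻¹ * x * Z.subtype y') = (y' : G)⁻¹ * u * y' := by
        calc s⁻¹ * ((Z.subtype y')⁻¹ * x * Z.subtype y')
            = s⁻¹ * (((y' : G)⁻¹ * s * y') * ((y' : G)⁻¹ * u * y')) := by
              rw [hx]; simp only [Subgroup.coe_subtype]; group
          _ = (y' : G)⁻¹ * u * y' := by rw [h2, inv_mul_cancel_left]
      rw [heq, hmemP]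
      have hcoe : ((y'⁻¹ * u' * y' : Z) : G) = (y' : G)⁻¹ * u * y' := by
        rw [hu']
        rfl
      have hZmem : (y' : G)⁻¹ * u * y' ∈ Z := hcoe ▸ (y'⁻¹ * u' * y').2
      refine ⟨hZmem, ?_⟩
      have : (⟨(y' : G)⁻¹ * u * y', hZmem⟩ : Z) = y'⁻¹ * u' * y' := Subtype.ext hcoe.symm
      rw [this]
      exact hy'
  refine ⟨P, Nat.card F, hPp, hPcomm, hnd, ?_⟩
  rw [hset, Nat.card_image_of_injective Z.subtype_injective, QuotientGroup.card_preimage_mk,
    hPcard]

/-- For every `x` there is an algebraic-integer combination of characters induced from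
`p`-elementary subgroups whose value at `x` is an integer prime to `p`. -/
theorem exists_local_fun [Fintype G] {p : ℕ} (hp : p.Prime) (x : G) :
    ∃ ψ ∈ brSpanA p G, ∃ c : ℤ, ψ x = (c : ℂ) ∧ ¬ (p : ℤ) ∣ c := by
  classical
  obtain ⟨s, u, hx, hsu, hs, k, hu⟩ := exists_ppart_decomp hp x
  obtain ⟨P, f, hPp, hPcomm, hnd, hcount⟩ := card_conj_mem_coset hp hx hsu hs hu
  obtain ⟨hEl, hEcard, hEcent, hEnorm⟩ := elementary_sup hp s P hs hPp hPcomm
  obtain ⟨E, hE⟩ : ∃ E : Subgroup G, E = Subgroup.zpowers s ⊔ P := ⟨_, rfl⟩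
  rw [← hE] at hEl hEcard hEcent hEnorm
  have hsE : s ∈ E := by
    rw [hE]
    exact (le_sup_left : Subgroup.zpowers s ≤ _) (Subgroup.mem_zpowers s)
  have hPE : P ≤ E := by
    rw [hE]
    exact le_sup_right
  obtain ⟨Θ, hΘ⟩ : ∃ Θ : E → ℂ,
      Θ = fun e : E => if s⁻¹ * (e : G) ∈ P then (orderOf s : ℂ) else 0 := ⟨_, rfl⟩
  have hnormal : (P.subgroupOf E).Normal := by
    constructor
    intro n hn g
    rw [Subgroup.mem_subgroupOf] at hn ⊢
    exact hEnorm g g.2 n hn
  have hindex : (P.subgroupOf E).index = orderOf s := by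
    have h1 := Subgroup.card_mul_index (P.subgroupOf E)
    have h2 : Nat.card (P.subgroupOf E) = Nat.card P :=
      Nat.card_congr (Subgroup.subgroupOfEquivOfLe hPE).toEquiv
    rw [h2, hEcard, mul_comm] at h1
    exact Nat.eq_of_mul_eq_mul_right Nat.card_pos h1
  have hΘspan : Θ ∈ Submodule.span Cfsg.AlgInt {χ : E → ℂ | Cfsg.IsCharacter E χ} := by
    apply shifted_perm_mem_span (P.subgroupOf E) (⟨s, hsE⟩ : E)
    · rw [Subgroup.mem_center_iff]
      intro g
      apply Subtype.ext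
      exact hEcent g g.2
    · intro e he
      rw [hΘ, hindex]
      simp only
      rw [if_pos]
      exact he
    · intro e he
      rw [hΘ]
      simp only
      rw [if_neg]
      exact he
  refine ⟨Cfsg.indFun E Θ, ?_, (f : ℤ), ?_, ?_⟩
  · have h1 := Submodule.apply_mem_span_image_of_mem_span
      ((indFunLin E).restrictScalars Cfsg.AlgInt) hΘspan
    refine Submodule.span_mono ?_ h1
    rintro _ ⟨χ, hχ, rfl⟩
    exact ⟨E, χ, hEl, hχ, rfl⟩
  · have hext : ∀ g : G, Cfsg.extendByZero E Θ g =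
        if s⁻¹ * g ∈ P then (orderOf s : ℂ) else 0 := by
      intro g
      by_cases hg : g ∈ E
      · rw [Cfsg.Agent.Helper3.extendByZero_of_mem E _ hg, hΘ]
      · rw [Cfsg.Agent.Helper3.extendByZero_of_not_mem E _ hg, if_neg]
        intro h
        apply hg
        have : g = s * (s⁻¹ * g) := by group
        rw [this]
        exact E.mul_mem hsE (hPE h)
    unfold Cfsg.indFun
    simp only [hext]
    rw [← Finset.sum_filter, Finset.sum_const, nsmul_eq_mul]
    have hcard : (Finset.univ.filter (fun y : G => s⁻¹ * (y⁻¹ * x * y) ∈ P)).card =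
        Nat.card P * f := by
      rw [← hcount, Nat.card_eq_fintype_card, Fintype.card_subtype]
      rfl
    rw [hcard, hEcard]
    have h1 : (orderOf s : ℂ) ≠ 0 := by exact_mod_cast (orderOf_pos s).ne'
    have h2 : (Nat.card P : ℂ) ≠ 0 := by exact_mod_cast Nat.card_pos.ne'
    push_cast
    field_simp
  · exact_mod_cast hnd

/-- Brauer's induction theorem, local form with algebraic integer coefficients. -/
theorem exists_const_mem_brSpanA' [Fintype G] {p : ℕ} (hp : p.Prime) :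
    ∃ m : ℤ, ¬ (p : ℤ) ∣ m ∧ (fun _ : G => (m : ℂ)) ∈ brSpanA p G :=
  exists_const_mem_brSpanA hp (fun x => exists_local_fun hp x)

/-- Inner products of a constant function with the irreducible characters are integers. -/
theorem classInner_const_int [Fintype G] (m : ℤ) (χ : Cfsg.IrrCharacter G) :
    ∃ n : ℤ, Cfsg.classInner (fun _ : G => (m : ℂ)) χ = (n : ℂ) := by
  obtain ⟨k, hk⟩ := Cfsg.Agent.Helper3.classInner_isCharacter_nat
    (Cfsg.Agent.Helper79.isCharacter_one (G := G)) (Cfsg.Agent.Helper79.irr_isCharacter χ)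
  refine ⟨m * k, ?_⟩
  have : (fun _ : G => (m : ℂ)) = (m : ℂ) • (fun _ : G => (1 : ℂ)) := by
    funext g
    simp
  rw [this, Cfsg.Agent.Helper15.classInner_smul_left, hk]
  push_cast
  ring

/-- Brauer's induction theorem, local form: some integer constant prime to `p` is an integer
combination of characters induced from `p`-elementary subgroups. -/
theorem exists_const_mem_brSpanZ [Fintype G] {p : ℕ} (hp : p.Prime) :
    ∃ m : ℤ, ¬ (p : ℤ) ∣ m ∧ (fun _ : G => (m : ℂ)) ∈ brSpanZ p G := by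
  obtain ⟨m, hm, hmem⟩ := exists_const_mem_brSpanA' (G := G) hp
  refine ⟨m, hm, ?_⟩
  exact mem_span_int_of_mem_span_algInt (brGen p G) (fun f hf => isCharacter_of_mem_brGen hf) _
    (classInner_const_int m) hmem

end Cfsg.Agent.Helper73
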