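import Mathlib
import Cfsg.Prelude.Def_Characters
import Cfsg.Prelude.Def_Blocks
import Cfsg.Agent.Helper73.BrauerA
import Cfsg.Agent.Helper3.Induced
import Cfsg.Agent.Helper15.CharInner

/-!
# Spans of characters with integer and algebraic-integer coefficients (helper73)

`genSpanZ G` is the group of generalized characters, `genSpanA G` the module of combinations of
characters with algebraic integer coefficients.  Everything is in
`namespace Cfsg.Agent.Helper73`.
-/

set_option autoImplicit false

namespace Cfsg.Agent.Helper73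

open scoped ComplexConjugate

section GenSpan

variable {G : Type*} [Group G]

/-- The integer span of the characters of `G`. -/
noncomputable def genSpanZ (G : Type*) [Group G] : Submodule ℤ (G → ℂ) :=
  Submodule.span ℤ {χ : G → ℂ | Cfsg.IsCharacter G χ}

/-- The span of the characters of `G` with algebraic integer coefficients. -/
noncomputable def genSpanA (G : Type*) [Group G] : Submodule Cfsg.AlgInt (G → ℂ) :=
  Submodule.span Cfsg.AlgInt {χ : G → ℂ | Cfsg.IsCharacter G χ}

theorem isCharacter_mem_genSpanZ {χ : G → ℂ} (h : Cfsg.IsCharacter G χ) : χ ∈ genSpanZ G :=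
  Submodule.subset_span h

theorem isCharacter_mem_genSpanA {χ : G → ℂ} (h : Cfsg.IsCharacter G χ) : χ ∈ genSpanA G :=
  Submodule.subset_span h

theorem mem_genSpanZ_of_isGeneralizedCharacter {θ : G → ℂ}
    (h : Cfsg.IsGeneralizedCharacter G θ) : θ ∈ genSpanZ G := by
  obtain ⟨χ, ψ, hχ, hψ, rfl⟩ := h
  exact sub_mem (isCharacter_mem_genSpanZ hχ) (isCharacter_mem_genSpanZ hψ)

theorem isGeneralizedCharacter_of_mem_genSpanZ {θ : G → ℂ} (h : θ ∈ genSpanZ G) :
    Cfsg.IsGeneralizedCharacter G θ := by
  unfold genSpanZ at h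
  induction h using Submodule.span_induction with
  | mem x hx => exact ⟨x, 0, hx, Cfsg.Agent.Helper79.isCharacter_zero, by simp⟩
  | zero => exact ⟨0, 0, Cfsg.Agent.Helper79.isCharacter_zero,
      Cfsg.Agent.Helper79.isCharacter_zero, by simp⟩
  | add x y hx hy h1 h2 =>
    obtain ⟨a, b, ha, hb, rfl⟩ := h1
    obtain ⟨c, d, hc, hd, rfl⟩ := h2
    exact ⟨a + c, b + d, Cfsg.Agent.Helper79.isCharacter_add ha hc,
      Cfsg.Agent.Helper79.isCharacter_add hb hd, by abel⟩
  | smul n x hx h =>
    obtain ⟨a, b, ha, hb, rfl⟩ := h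
    rcases Int.eq_nat_or_neg n with ⟨k, rfl | rfl⟩
    · refine ⟨k • a, k • b, Cfsg.Agent.Helper79.isCharacter_nsmul ha k,
        Cfsg.Agent.Helper79.isCharacter_nsmul hb k, ?_⟩
      rw [natCast_zsmul, smul_sub]
    · refine ⟨k • b, k • a, Cfsg.Agent.Helper79.isCharacter_nsmul hb k,
        Cfsg.Agent.Helper79.isCharacter_nsmul ha k, ?_⟩
      rw [neg_smul, natCast_zsmul, smul_sub]
      abel

theorem isGeneralizedCharacter_iff_mem_genSpanZ {θ : G → ℂ} :
    Cfsg.IsGeneralizedCharacter G θ ↔ θ ∈ genSpanZ G :=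
  ⟨mem_genSpanZ_of_isGeneralizedCharacter, isGeneralizedCharacter_of_mem_genSpanZ⟩

theorem genSpanZ_mul {θ φ : G → ℂ} (hθ : θ ∈ genSpanZ G) (hφ : φ ∈ genSpanZ G) :
    θ * φ ∈ genSpanZ G := by
  unfold genSpanZ at hθ hφ ⊢
  induction hθ, hφ using Submodule.span_induction₂ with
  | mem_mem x y hx hy =>
    exact Submodule.subset_span (Cfsg.Agent.Helper79.isCharacter_mul hx hy)
  | zero_left y hy => rw [zero_mul]; exact Submodule.zero_mem _
  | zero_right x hx => rw [mul_zero]; exact Submodule.zero_mem _
  | add_left x y z hx hy hz h1 h2 => rw [add_mul]; exact add_mem h1 h2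
  | add_right x y z hx hy hz h1 h2 => rw [mul_add]; exact add_mem h1 h2
  | smul_left r x y hx hy h => rw [smul_mul_assoc]; exact Submodule.smul_mem _ _ h
  | smul_right r x y hx hy h => rw [mul_smul_comm]; exact Submodule.smul_mem _ _ h

theorem genSpanA_mul {θ φ : G → ℂ} (hθ : θ ∈ genSpanA G) (hφ : φ ∈ genSpanA G) :
    θ * φ ∈ genSpanA G := by
  unfold genSpanA at hθ hφ ⊢
  induction hθ, hφ using Submodule.span_induction₂ with
  | mem_mem x y hx hy =>
    exact Submodule.subset_span (Cfsg.Agent.Helper79.isCharacter_mul hx hy)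
  | zero_left y hy => rw [zero_mul]; exact Submodule.zero_mem _
  | zero_right x hx => rw [mul_zero]; exact Submodule.zero_mem _
  | add_left x y z hx hy hz h1 h2 => rw [add_mul]; exact add_mem h1 h2
  | add_right x y z hx hy hz h1 h2 => rw [mul_add]; exact add_mem h1 h2
  | smul_left r x y hx hy h => rw [smul_mul_assoc]; exact Submodule.smul_mem _ _ h
  | smul_right r x y hx hy h => rw [mul_smul_comm]; exact Submodule.smul_mem _ _ h

/-- Every integer combination is an algebraic integer combination. -/
theorem genSpanZ_le_genSpanA {θ : G → ℂ} (hθ : θ ∈ genSpanZ G) : θ ∈ genSpanA G := by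
  unfold genSpanZ at hθ
  induction hθ using Submodule.span_induction with
  | mem x hx => exact isCharacter_mem_genSpanA hx
  | zero => exact Submodule.zero_mem _
  | add x y hx hy h1 h2 => exact add_mem h1 h2
  | smul n x hx h =>
    have : n • x = (n : Cfsg.AlgInt) • x := by
      funext g
      simp [Subalgebra.smul_def]
    rw [this]
    exact Submodule.smul_mem _ _ h

theorem restrict_mem_genSpanZ {θ : G → ℂ} (hθ : θ ∈ genSpanZ G) (H : Subgroup G) :
    (fun h : H => θ h) ∈ genSpanZ H := by
  unfold genSpanZ at hθ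
  induction hθ using Submodule.span_induction with
  | mem x hx => exact isCharacter_mem_genSpanZ (Cfsg.Agent.Helper79.isCharacter_restrict hx H)
  | zero => exact Submodule.zero_mem _
  | add x y hx hy h1 h2 => exact add_mem h1 h2
  | smul n x hx h => exact Submodule.smul_mem _ n h

theorem restrict_mem_genSpanA {θ : G → ℂ} (hθ : θ ∈ genSpanA G) (H : Subgroup G) :
    (fun h : H => θ h) ∈ genSpanA H := by
  unfold genSpanA at hθ
  induction hθ using Submodule.span_induction with
  | mem x hx => exact isCharacter_mem_genSpanA (Cfsg.Agent.Helper79.isCharacter_restrict hx H)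
  | zero => exact Submodule.zero_mem _
  | add x y hx hy h1 h2 => exact add_mem h1 h2
  | smul n x hx h => exact Submodule.smul_mem _ n h

theorem indFun_mem_genSpanZ [Fintype G] (E : Subgroup G) {θ : E → ℂ} (hθ : θ ∈ genSpanZ E) :
    Cfsg.indFun E θ ∈ genSpanZ G := by
  have h1 := Submodule.apply_mem_span_image_of_mem_span
    ((indFunLin E).restrictScalars ℤ) hθ
  refine Submodule.span_mono ?_ h1
  rintro _ ⟨χ, hχ, rfl⟩
  exact Cfsg.Agent.Helper3.isCharacter_indFun E χ hχ

theorem indFun_mem_genSpanA [Fintype G] (E : Subgroup G) {θ : E → ℂ} (hθ : θ ∈ genSpanA E) :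
    Cfsg.indFun E θ ∈ genSpanA G := by
  have h1 := Submodule.apply_mem_span_image_of_mem_span
    ((indFunLin E).restrictScalars Cfsg.AlgInt) hθ
  refine Submodule.span_mono ?_ h1
  rintro _ ⟨χ, hχ, rfl⟩
  exact Cfsg.Agent.Helper3.isCharacter_indFun E χ hχ

/-- Elements of the spans are class functions. -/
theorem isClassFunction_of_mem_genSpanA {θ : G → ℂ} (hθ : θ ∈ genSpanA G) :
    Cfsg.IsClassFunction G θ := by
  unfold genSpanA at hθ
  induction hθ using Submodule.span_induction with
  | mem x hx => exact Cfsg.Agent.Helper79.isCharacter_isClassFunction hx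
  | zero => intro g h; rfl
  | add x y hx hy h1 h2 =>
    intro g h
    show x _ + y _ = x g + y g
    rw [h1 g h, h2 g h]
  | smul n x hx h =>
    intro g k
    show n • x _ = n • x g
    rw [h g k]

theorem isClassFunction_of_mem_genSpanZ {θ : G → ℂ} (hθ : θ ∈ genSpanZ G) :
    Cfsg.IsClassFunction G θ :=
  isClassFunction_of_mem_genSpanA (genSpanZ_le_genSpanA hθ)

/-- Inner products of generalized characters with irreducible characters are integers. -/
theorem classInner_int_of_mem_genSpanZ [Fintype G] {θ : G → ℂ} (hθ : θ ∈ genSpanZ G)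
    (χ : Cfsg.IrrCharacter G) : ∃ n : ℤ, Cfsg.classInner θ χ = (n : ℂ) := by
  unfold genSpanZ at hθ
  induction hθ using Submodule.span_induction with
  | mem x hx =>
    obtain ⟨k, hk⟩ := Cfsg.Agent.Helper3.classInner_isCharacter_nat hx
      (Cfsg.Agent.Helper79.irr_isCharacter χ)
    exact ⟨k, by rw [hk]; simp⟩
  | zero => exact ⟨0, by rw [Cfsg.Agent.Helper15.classInner_zero_left]; simp⟩
  | add x y hx hy h1 h2 =>
    obtain ⟨a, ha⟩ := h1
    obtain ⟨b, hb⟩ := h2
    exact ⟨a + b, by rw [Cfsg.Agent.Helper15.classInner_add_left, ha, hb]; simp⟩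
  | smul n x hx h =>
    obtain ⟨a, ha⟩ := h
    refine ⟨n * a, ?_⟩
    have : n • x = (n : ℂ) • x := by rw [Int.cast_smul_eq_zsmul]
    rw [this, Cfsg.Agent.Helper15.classInner_smul_left, ha]
    simp

/-- Inner products of algebraic integer combinations of characters with irreducible characters
are algebraic integers. -/
theorem classInner_algInt_of_mem_genSpanA [Fintype G] {θ : G → ℂ} (hθ : θ ∈ genSpanA G)
    (χ : Cfsg.IrrCharacter G) : Cfsg.classInner θ χ ∈ Cfsg.AlgInt := by
  unfold genSpanA at hθ
  induction hθ using Submodule.span_induction with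
  | mem x hx =>
    obtain ⟨k, hk⟩ := Cfsg.Agent.Helper3.classInner_isCharacter_nat hx
      (Cfsg.Agent.Helper79.irr_isCharacter χ)
    rw [hk]
    exact natCast_mem _ k
  | zero => rw [Cfsg.Agent.Helper15.classInner_zero_left]; exact zero_mem _
  | add x y hx hy h1 h2 =>
    rw [Cfsg.Agent.Helper15.classInner_add_left]
    exact add_mem h1 h2
  | smul a x hx h =>
    have : a • x = (a : ℂ) • x := rfl
    rw [this, Cfsg.Agent.Helper15.classInner_smul_left]
    exact mul_mem a.2 h

/-- A class function with integral inner products against the irreducible characters is a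
generalized character. -/
theorem mem_genSpanZ_of_classInner_int [Fintype G] {θ : G → ℂ}
    (hθ : Cfsg.IsClassFunction G θ)
    (h : ∀ χ : Cfsg.IrrCharacter G, ∃ n : ℤ, Cfsg.classInner θ χ = (n : ℂ)) :
    θ ∈ genSpanZ G := by
  classical
  have : Fintype (Cfsg.IrrCharacter G) := Fintype.ofFinite _
  choose n hn using h
  rw [Cfsg.Agent.Helper3.classFunction_eq_sum θ hθ]
  apply Submodule.sum_mem
  intro χ _
  rw [hn χ, Int.cast_smul_eq_zsmul]
  exact Submodule.smul_mem _ _ (isCharacter_mem_genSpanZ (Cfsg.Agent.Helper79.irr_isCharacter χ))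

/-- A class function whose inner products against the irreducible characters are algebraic
integers is an algebraic integer combination of characters. -/
theorem mem_genSpanA_of_classInner_algInt [Fintype G] {θ : G → ℂ}
    (hθ : Cfsg.IsClassFunction G θ)
    (h : ∀ χ : Cfsg.IrrCharacter G, Cfsg.classInner θ χ ∈ Cfsg.AlgInt) :
    θ ∈ genSpanA G := by
  classical
  have : Fintype (Cfsg.IrrCharacter G) := Fintype.ofFinite _
  rw [Cfsg.Agent.Helper3.classFunction_eq_sum θ hθ]
  apply Submodule.sum_mem
  intro χ _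
  have : Cfsg.classInner θ χ • (χ : G → ℂ) =
      (⟨Cfsg.classInner θ χ, h χ⟩ : Cfsg.AlgInt) • (χ : G → ℂ) := rfl
  rw [this]
  exact Submodule.smul_mem _ _ (isCharacter_mem_genSpanA (Cfsg.Agent.Helper79.irr_isCharacter χ))

/-- Descent for the full spans: an algebraic integer combination of characters with integral
inner products against the irreducible characters is a generalized character. -/
theorem mem_genSpanZ_of_mem_genSpanA [Fintype G] {θ : G → ℂ} (hθ : θ ∈ genSpanA G)
    (h : ∀ χ : Cfsg.IrrCharacter G, ∃ n : ℤ, Cfsg.classInner θ χ = (n : ℂ)) :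
    θ ∈ genSpanZ G :=
  mem_genSpanZ_of_classInner_int (isClassFunction_of_mem_genSpanA hθ) h

end GenSpan

end Cfsg.Agent.Helper73
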