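import Mathlib
import Cfsg.Prelude.Def_Characters
import Cfsg.Prelude.Def_Blocks
import Cfsg.Agent.Helper73.BrauerA
import Cfsg.Agent.Helper73.BrauerLocal
import Cfsg.Agent.Helper73.GenSpan

/-!
# Brauer's induction theorem and characterization of characters (helper73)

* `one_mem_span_brGenAll`: the trivial character is an integer combination of characters induced
  from elementary subgroups.
* `brauer_characterization`: a class function whose restrictions to all elementary subgroups are
  generalized characters is a generalized character (and the versions `_Z`, `_A` for the spans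
  `genSpanZ`, `genSpanA`).
* `brauer_local_characterization_Z`: the local form, with `p`-elementary subgroups only.

Everything is in `namespace Cfsg.Agent.Helper73`.
-/

set_option autoImplicit false

namespace Cfsg.Agent.Helper73

open scoped ComplexConjugate

section BrauerChar

variable {G : Type*} [Group G] [Fintype G]

/-- The characters induced from characters of elementary subgroups, for all primes. -/
def brGenAll (G : Type*) [Group G] [Fintype G] : Set (G → ℂ) :=
  {f | ∃ p : ℕ, p.Prime ∧ f ∈ brGen p G}

theorem brSpanZ_le_span_brGenAll {p : ℕ} (hp : p.Prime) :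
    brSpanZ p G ≤ Submodule.span ℤ (brGenAll G) :=
  Submodule.span_mono fun _ hf => ⟨p, hp, hf⟩

/-- Brauer's induction theorem: the trivial character is an integer combination of characters
induced from characters of elementary subgroups. -/
theorem one_mem_span_brGenAll :
    (fun _ : G => (1 : ℂ)) ∈ Submodule.span ℤ (brGenAll G) := by
  obtain ⟨I, hI⟩ : ∃ I : Ideal ℤ, I = (Submodule.span ℤ (brGenAll G)).comap
      (LinearMap.toSpanSingleton ℤ (G → ℂ) (fun _ => (1 : ℂ))) := ⟨_, rfl⟩
  have hmemI : ∀ m : ℤ, m ∈ I ↔ (fun _ : G => (m : ℂ)) ∈ Submodule.span ℤ (brGenAll G) := by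
    intro m
    rw [hI, Submodule.mem_comap]
    have : (LinearMap.toSpanSingleton ℤ (G → ℂ) (fun _ => (1 : ℂ))) m = fun _ : G => (m : ℂ) := by
      funext g
      simp [LinearMap.toSpanSingleton_apply]
    rw [this]
  obtain ⟨d, hd⟩ : ∃ d : ℤ, I = Ideal.span {d} := (IsPrincipalIdealRing.principal I).principal
  have hunit : IsUnit d := by
    rw [Int.isUnit_iff_natAbs_eq]
    by_contra hne
    obtain ⟨p, hp, hpd⟩ := Nat.exists_prime_and_dvd hne
    obtain ⟨m, hm, hmem⟩ := exists_const_mem_brSpanZ (G := G) hp
    have h1 : m ∈ I := (hmemI m).mpr (brSpanZ_le_span_brGenAll hp hmem)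
    rw [hd, Ideal.mem_span_singleton] at h1
    apply hm
    have h2 : (p : ℤ) ∣ d := by
      rw [← Int.natCast_dvd_natCast] at hpd
      exact (Int.dvd_natAbs.mp hpd)
    exact h2.trans h1
  have h1I : (1 : ℤ) ∈ I := by
    rw [hd, Ideal.span_singleton_eq_top.mpr hunit]
    exact Submodule.mem_top
  have := (hmemI 1).mp h1I
  simpa using this

/-- Multiplying an integer combination of characters induced from elementary subgroups by a
class function whose restrictions to elementary subgroups are generalized characters gives a
generalized character. -/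
theorem mul_mem_genSpanZ_of_mem_span_brGenAll {f θ : G → ℂ}
    (hf : f ∈ Submodule.span ℤ (brGenAll G)) (hθ : Cfsg.IsClassFunction G θ)
    (h : ∀ (E : Subgroup G) (p : ℕ), p.Prime → Cfsg.IsElementary p E →
      (fun e : E => θ e) ∈ genSpanZ E) : f * θ ∈ genSpanZ G := by
  induction hf using Submodule.span_induction with
  | mem x hx =>
    obtain ⟨p, hp, E, φ, hE, hφ, rfl⟩ := hx
    rw [← Cfsg.Agent.Helper15.indFun_mul_restrict E φ hθ]
    apply indFun_mem_genSpanZ
    exact genSpanZ_mul (isCharacter_mem_genSpanZ hφ) (h E p hp hE)
  | zero => rw [zero_mul]; exact Submodule.zero_mem _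
  | add x y hx hy h1 h2 => rw [add_mul]; exact add_mem h1 h2
  | smul n x hx h1 => rw [smul_mul_assoc]; exact Submodule.smul_mem _ _ h1

/-- Brauer's characterization of characters, span form. -/
theorem brauer_characterization_Z {θ : G → ℂ} (hθ : Cfsg.IsClassFunction G θ)
    (h : ∀ (E : Subgroup G) (p : ℕ), p.Prime → Cfsg.IsElementary p E →
      (fun e : E => θ e) ∈ genSpanZ E) : θ ∈ genSpanZ G := by
  have h1 := mul_mem_genSpanZ_of_mem_span_brGenAll one_mem_span_brGenAll hθ h
  have h2 : (fun _ : G => (1 : ℂ)) * θ = θ := by
    funext g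
    simp
  rwa [h2] at h1

/-- Brauer's characterization of characters: a class function whose restrictions to all
elementary subgroups are generalized characters is a generalized character. -/
theorem brauer_characterization {θ : G → ℂ} (hθ : Cfsg.IsClassFunction G θ)
    (h : ∀ (E : Subgroup G) (p : ℕ), p.Prime → Cfsg.IsElementary p E →
      Cfsg.IsGeneralizedCharacter E (fun e : E => θ e)) : Cfsg.IsGeneralizedCharacter G θ :=
  isGeneralizedCharacter_of_mem_genSpanZ (brauer_characterization_Z hθ fun E p hp hE =>
    mem_genSpanZ_of_isGeneralizedCharacter (h E p hp hE))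

theorem mul_mem_genSpanA_of_mem_span_brGenAll {f θ : G → ℂ}
    (hf : f ∈ Submodule.span ℤ (brGenAll G)) (hθ : Cfsg.IsClassFunction G θ)
    (h : ∀ (E : Subgroup G) (p : ℕ), p.Prime → Cfsg.IsElementary p E →
      (fun e : E => θ e) ∈ genSpanA E) : f * θ ∈ genSpanA G := by
  induction hf using Submodule.span_induction with
  | mem x hx =>
    obtain ⟨p, hp, E, φ, hE, hφ, rfl⟩ := hx
    rw [← Cfsg.Agent.Helper15.indFun_mul_restrict E φ hθ]
    apply indFun_mem_genSpanA
    exact genSpanA_mul (isCharacter_mem_genSpanA hφ) (h E p hp hE)
  | zero => rw [zero_mul]; exact Submodule.zero_mem _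
  | add x y hx hy h1 h2 => rw [add_mul]; exact add_mem h1 h2
  | smul n x hx h1 =>
    rw [smul_mul_assoc]
    have : n • (x * θ) = (n : Cfsg.AlgInt) • (x * θ) := by
      funext g
      simp [Subalgebra.smul_def]
    rw [this]
    exact Submodule.smul_mem _ _ h1

/-- Brauer's characterization with algebraic integer coefficients: a class function whose
restrictions to all elementary subgroups are algebraic integer combinations of characters is an
algebraic integer combination of characters. -/
theorem brauer_characterization_A {θ : G → ℂ} (hθ : Cfsg.IsClassFunction G θ)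
    (h : ∀ (E : Subgroup G) (p : ℕ), p.Prime → Cfsg.IsElementary p E →
      (fun e : E => θ e) ∈ genSpanA E) : θ ∈ genSpanA G := by
  have h1 := mul_mem_genSpanA_of_mem_span_brGenAll one_mem_span_brGenAll hθ h
  have h2 : (fun _ : G => (1 : ℂ)) * θ = θ := by
    funext g
    simp
  rwa [h2] at h1

/-- Local form of Brauer's characterization: if the restrictions of a class function to all
`p`-elementary subgroups are generalized characters, then some multiple of it by an integer prime
to `p` is a generalized character. -/
theorem brauer_local_characterization_Z {p : ℕ} (hp : p.Prime) {θ : G → ℂ}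
    (hθ : Cfsg.IsClassFunction G θ)
    (h : ∀ (E : Subgroup G), Cfsg.IsElementary p E → (fun e : E => θ e) ∈ genSpanZ E) :
    ∃ m : ℤ, ¬ (p : ℤ) ∣ m ∧ (m : ℂ) • θ ∈ genSpanZ G := by
  obtain ⟨m, hm, hmem⟩ := exists_const_mem_brSpanZ (G := G) hp
  refine ⟨m, hm, ?_⟩
  have key : ∀ f ∈ brSpanZ p G, f * θ ∈ genSpanZ G := by
    intro f hf
    unfold brSpanZ at hf
    induction hf using Submodule.span_induction with
    | mem x hx =>
      obtain ⟨E, φ, hE, hφ, rfl⟩ := hx
      rw [← Cfsg.Agent.Helper15.indFun_mul_restrict E φ hθ]
      apply indFun_mem_genSpanZ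
      exact genSpanZ_mul (isCharacter_mem_genSpanZ hφ) (h E hE)
    | zero => rw [zero_mul]; exact Submodule.zero_mem _
    | add x y hx hy h1 h2 => rw [add_mul]; exact add_mem h1 h2
    | smul n x hx h1 => rw [smul_mul_assoc]; exact Submodule.smul_mem _ _ h1
  have h1 := key _ hmem
  have h2 : (fun _ : G => (m : ℂ)) * θ = (m : ℂ) • θ := by
    funext g
    simp
  rwa [h2] at h1

end BrauerChar

end Cfsg.Agent.Helper73
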