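import Mathlib
import Cfsg.Prelude.Def_Blocks

set_option autoImplicit false
open Cfsg Matrix
open scoped ComplexConjugate

universe u

namespace Cfsg.Agent.Helper73

/-- LD1 -/
theorem d1_isAlgClosed (𝔐 : Ideal Cfsg.AlgInt) [𝔐.IsMaximal] :
    @IsAlgClosed (Cfsg.AlgInt ⧸ 𝔐) (Ideal.Quotient.field 𝔐) := by
  letI : Field (Cfsg.AlgInt ⧸ 𝔐) := Ideal.Quotient.field 𝔐
  refine @IsAlgClosed.of_exists_root (Cfsg.AlgInt ⧸ 𝔐) (Ideal.Quotient.field 𝔐) ?_
  intro p hp hirr
  have hlift : p ∈ Polynomial.lifts (Ideal.Quotient.mk 𝔐) := by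
    rw [Polynomial.mem_lifts]
    exact Polynomial.map_surjective _ Ideal.Quotient.mk_surjective p
  obtain ⟨f, hfmap, hfdeg, hfmonic⟩ := Polynomial.lifts_and_natDegree_eq_and_monic hlift hp
  have hpos : 0 < f.natDegree := by
    rw [hfdeg]
    exact hirr.natDegree_pos
  -- a complex root
  have hdeg : (f.map (algebraMap Cfsg.AlgInt ℂ)).degree ≠ 0 := by
    rw [hfmonic.degree_map, Polynomial.degree_eq_natDegree hfmonic.ne_zero]
    intro h
    have : f.natDegree = 0 := by exact_mod_cast h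
    omega
  obtain ⟨α, hα⟩ := IsAlgClosed.exists_root _ hdeg
  have hα' : Polynomial.eval₂ (algebraMap Cfsg.AlgInt ℂ) α f = 0 := by
    rw [← Polynomial.eval_map]
    exact hα
  have hint : IsIntegral Cfsg.AlgInt α := ⟨f, hfmonic, hα'⟩
  have hintZ : IsIntegral ℤ α := isIntegral_trans α hint
  let b : Cfsg.AlgInt := ⟨α, hintZ⟩
  have hb : Polynomial.eval b f = 0 := by
    have h1 : (algebraMap Cfsg.AlgInt ℂ) (Polynomial.eval b f) =
        Polynomial.eval₂ (algebraMap Cfsg.AlgInt ℂ) ((algebraMap Cfsg.AlgInt ℂ) b) f :=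
      (Polynomial.eval₂_at_apply _ _).symm
    have h2 : (algebraMap Cfsg.AlgInt ℂ) b = α := rfl
    rw [h2, hα'] at h1
    have h3 : (algebraMap Cfsg.AlgInt ℂ) (Polynomial.eval b f) = (algebraMap Cfsg.AlgInt ℂ) 0 := by
      rw [h1, map_zero]
    exact Subtype.val_injective h3
  refine ⟨Ideal.Quotient.mk 𝔐 b, ?_⟩
  rw [← hfmap, Polynomial.eval_map, Polynomial.eval₂_at_apply, hb, map_zero]

end Cfsg.Agent.Helper73
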