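import Mathlib

set_option autoImplicit false
open Matrix

universe u

namespace Cfsg.Agent.Helper73

/-- LD2c (cyclic vector) -/
theorem d1_cyclic {k : Type*} [Field k] {a : ℕ}
    (𝒜 : Subalgebra k (Matrix (Fin a) (Fin a) k)) (W : Submodule k (Fin a → k))
    (hB : ∀ g : W →ₗ[k] W, ∃ M ∈ 𝒜, ∀ w : W, M *ᵥ (w : Fin a → k) = ((g w : W) : Fin a → k)) :
    ∃ M ∈ 𝒜, ∃ w ∈ W, (∀ i : ℕ, (M ^ i) *ᵥ w ∈ W) ∧
      LinearIndependent k (fun i : Fin (Module.finrank k W) => (M ^ (i : ℕ)) *ᵥ w) := by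
  classical
  obtain ⟨s, hs⟩ : ∃ s : ℕ, s = Module.finrank k W := ⟨_, rfl⟩
  rw [← hs]
  let b : Module.Basis (Fin s) k W := (Module.finBasis k W).reindex (finCongr hs.symm)
  let g : W →ₗ[k] W :=
    b.constr k (fun i => if h : (i : ℕ) + 1 < s then b ⟨(i : ℕ) + 1, h⟩ else 0)
  obtain ⟨M, hM, hMg⟩ := hB g
  refine ⟨M, hM, ?_⟩
  have hstab : ∀ u ∈ W, M *ᵥ u ∈ W := by
    intro u hu
    have h1 := hMg ⟨u, hu⟩
    rw [h1]
    exact (g ⟨u, hu⟩).2
  have hpow : ∀ u ∈ W, ∀ i : ℕ, (M ^ i) *ᵥ u ∈ W := by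
    intro u hu i
    induction i with
    | zero => simpa using hu
    | succ n ih =>
      rw [pow_succ', ← Matrix.mulVec_mulVec]
      exact hstab _ ih
  by_cases h0 : s = 0
  · refine ⟨0, W.zero_mem, fun i => hpow 0 W.zero_mem i, ?_⟩
    have : IsEmpty (Fin s) := by rw [h0]; infer_instance
    exact linearIndependent_empty_type
  · have hpos : 0 < s := Nat.pos_of_ne_zero h0
    refine ⟨(b ⟨0, hpos⟩ : Fin a → k), (b ⟨0, hpos⟩).2, fun i => hpow _ (b ⟨0, hpos⟩).2 i, ?_⟩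
    have key : ∀ i : ℕ, ∀ h : i < s,
        (M ^ i) *ᵥ (b ⟨0, hpos⟩ : Fin a → k) = (b ⟨i, h⟩ : Fin a → k) := by
      intro i
      induction i with
      | zero => intro h; simp
      | succ n ih =>
        intro h
        rw [pow_succ', ← Matrix.mulVec_mulVec, ih (by omega), hMg]
        congr 1
        show b.constr k _ (b ⟨n, by omega⟩) = _
        rw [Module.Basis.constr_basis]
        simp [h]
    have hli := b.linearIndependent.map' W.subtype (Submodule.ker_subtype W)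
    have heq : (fun i : Fin s => (M ^ (i : ℕ)) *ᵥ (b ⟨0, hpos⟩ : Fin a → k)) =
        W.subtype ∘ b := by
      funext i
      exact key i i.2
    rw [heq]
    exact hli

end Cfsg.Agent.Helper73
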