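/-
helper73: Bender–Glauberman Theorem 14.4(d).  Let `x ≠ 1` in `M_σ` with `C_G(x) ≰ M`, and `N` the
maximal subgroup over `C_G(x)`.  Then every prime `q ∈ σ(N)` dividing `|M|` lies in `β(N)`
(`bg144_mem_beta`), and hence `C_G(z) ≤ N` for every `z ∈ N_σ` of order `q` (`bg144_cent_le`).
-/
import Mathlib
import Cfsg.Agent.S1350
import Cfsg.Agent.S1375
import Cfsg.Agent.S1378
import Cfsg.Agent.S1408
import Cfsg.Agent.S1414
import Cfsg.Agent.S1417
import Cfsg.Agent.Helper22.Fitting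
import Cfsg.Agent.Helper23.Trans
import Cfsg.Agent.Helper54.BG14T
import Cfsg.Agent.Helper62.BG72B
import Cfsg.Agent.Helper72.BG12Cor

set_option autoImplicit false

namespace Cfsg.Agent.Helper73

open Cfsg Subgroup

universe u

/-- If `g ^ m ∈ H` with `m` prime to the order of `g`, then `g ∈ H`. -/
theorem bg144_mem_of_pow_mem {Γ : Type u} [Group Γ] {H : Subgroup Γ} {g : Γ} {m : ℕ}
    (h : g ^ m ∈ H) (hcop : Nat.Coprime m (orderOf g)) (ho : 1 < orderOf g) : g ∈ H := by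
  obtain ⟨j, -, hj⟩ := Nat.exists_mul_mod_eq_one_of_coprime hcop ho
  have h1 : g = (g ^ m) ^ j := by
    rw [← pow_mul, ← pow_mod_orderOf, hj, pow_one]
  rw [h1]
  exact H.pow_mem h j

/-- A `p`-group `A` mapping the coset `W t` to itself by conjugation, `p ∤ |W|`, centralizes an
element of `W t`. -/
theorem bg144_fixed_point {Γ : Type u} [Group Γ] [Finite Γ] {p : ℕ} [Fact p.Prime]
    {A W : Subgroup Γ} (hA : IsPGroup p A) (hW : ¬ p ∣ Nat.card W) (t : Γ)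
    (hcl : ∀ a ∈ A, ∀ w ∈ W, a * w * t * a⁻¹ * t⁻¹ ∈ W) :
    ∃ w ∈ W, ∀ a ∈ A, a * (w * t) = (w * t) * a := by
  classical
  let _inst : MulAction ↥A ↥W :=
    { smul := fun a w => ⟨(a : Γ) * w * t * (a : Γ)⁻¹ * t⁻¹, hcl a a.2 w w.2⟩
      one_smul := fun w => by
        apply Subtype.ext
        show ((1 : ↥A) : Γ) * w * t * ((1 : ↥A) : Γ)⁻¹ * t⁻¹ = w
        simp
      mul_smul := fun a b w => by
        apply Subtype.ext
        show ((a * b : ↥A) : Γ) * w * t * ((a * b : ↥A) : Γ)⁻¹ * t⁻¹ =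
          (a : Γ) * ((b : Γ) * w * t * (b : Γ)⁻¹ * t⁻¹) * t * (a : Γ)⁻¹ * t⁻¹
        simp only [Subgroup.coe_mul]
        group }
  obtain ⟨w, hw⟩ := hA.nonempty_fixed_point_of_prime_not_dvd_card ↥W hW
  refine ⟨w, w.2, fun a ha => ?_⟩
  have h1 := hw ⟨a, ha⟩
  have h2 : a * (w : Γ) * t * a⁻¹ * t⁻¹ = w := congrArg Subtype.val h1
  calc a * (w * t) = (a * w * t * a⁻¹ * t⁻¹) * t * a := by group
    _ = w * t * a := by rw [h2]

/-- `(w t) ^ k ≡ t ^ k` modulo a subgroup `W ∋ w` normalized by `t`. -/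
theorem bg144_pow_coset {Γ : Type u} [Group Γ] {W : Subgroup Γ} {w t : Γ} (hw : w ∈ W)
    (ht : t ∈ normalizer (W : Set Γ)) (k : ℕ) : (w * t) ^ k * (t ^ k)⁻¹ ∈ W := by
  induction k with
  | zero => simp
  | succ k ih =>
    have h1 : t ^ k * w * (t ^ k)⁻¹ ∈ W := (mem_normalizer_iff.mp (pow_mem ht k) w).mp hw
    have h2 : (w * t) ^ (k + 1) * (t ^ (k + 1))⁻¹ =
        ((w * t) ^ k * (t ^ k)⁻¹) * (t ^ k * w * (t ^ k)⁻¹) := by
      rw [pow_succ, pow_succ]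
      group
    rw [h2]
    exact W.mul_mem ih h1

variable {G : Type u} [Group G] [Finite G]

/-- `O_{r'}(X)` as a subgroup of `G`, with the facts used below. -/
theorem bg144_core_facts (X : Subgroup G) (r : ℕ) :
    ∃ T : Subgroup G, T ≤ X ∧ (∀ n ∈ X, ∀ g ∈ T, n * g * n⁻¹ ∈ T) ∧ (Nat.card T).Coprime r ∧
      ∀ g ∈ X, g ^ (pPrimeCore r ↥X).index ∈ T := by
  refine ⟨(pPrimeCore r ↥X).map X.subtype, ?_, ?_, ?_, ?_⟩
  · rintro _ ⟨g, -, rfl⟩
    exact g.2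
  · rintro n hn _ ⟨g, hg, rfl⟩
    exact ⟨⟨n, hn⟩ * g * ⟨n, hn⟩⁻¹,
      (inferInstance : (pPrimeCore r ↥X).Normal).conj_mem g hg ⟨n, hn⟩, rfl⟩
  · rw [Subgroup.card_map_of_injective X.subtype_injective]
    exact Cfsg.Agent.Helper22.card_pPrimeCore_coprime r ↥X
  · intro g hg
    exact ⟨⟨g, hg⟩ ^ (pPrimeCore r ↥X).index, Subgroup.pow_index_mem _ _, rfl⟩

/-- **B&G 14.4(d)**: `π(M) ∩ σ(N) ⊆ β(N)`. -/
theorem bg144_mem_beta (hG : IsMinSimpleOddOrder G) {M N : Subgroup G} (hM : IsCoatom M) {x : G}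
    (hx : x ∈ sigmaCore M) (hx1 : x ≠ 1) (hxM : ¬ centralizer ({x} : Set G) ≤ M)
    (hN : IsCoatom N) (hxN : centralizer ({x} : Set G) ≤ N) {q : ℕ} (hq : q ∈ sigma N)
    (hqM : q ∣ Nat.card M) : q ∈ beta N := by
  classical
  obtain ⟨L, p, Y, hL, -, hLconj, hpσ, hpτ, -, hYx, hYc, hYN, hCL, hcompl, -, -, -⟩ :=
    Cfsg.Agent.Helper54.bg14t_core hG hM hx hx1 hxM
  obtain ⟨N₀, -, huniq, -⟩ := Cfsg.Agent.S1375.result hG M hM x hx hx1 hxM
  have hLN : L = N := by rw [huniq L hL hCL, huniq N hN hxN]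
  rw [hLN] at hLconj hpτ hYN hcompl
  have hqp : q.Prime := hq.1
  have hpp : p.Prime := hpσ.1
  have hFp : Fact p.Prime := Fact.mk hpp
  have hFq : Fact q.Prime := Fact.mk hqp
  have hpN : p ∉ sigma N := hpτ.2.1
  have hpq : p ≠ q := fun h => hpN (h ▸ hq)
  have hqσM : q ∉ sigma M := by
    intro h
    obtain ⟨g, hg⟩ := (Cfsg.Agent.S1378.result hG).2 M N hM hN ⟨q, h, hq⟩
    exact hLconj g hg
  have h50N := Cfsg.Agent.S1350.result hG N hN
  have hσN : sigmaCore N ≤ N := h50N.1.1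
  have hσM : sigmaCore M ≤ M := Cfsg.Agent.Helper23.piCoreOf_le _ _
  have hmul : ∀ {H K : Subgroup G}, H ≤ K → H.relIndex K * Nat.card H = Nat.card K := by
    intro H K hle
    have h := Subgroup.relIndex_mul_relIndex ⊥ H K bot_le hle
    rw [Subgroup.relIndex_bot_left, Subgroup.relIndex_bot_left] at h
    rw [mul_comm]
    exact h
  have hrelN : (sigmaCore N).relIndex N * Nat.card (sigmaCore N) = Nat.card N := hmul hσN
  have hqNσ : q ∣ Nat.card (sigmaCore N) := by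
    have h2 : q ∣ Nat.card N := hq.2.1
    rw [← hrelN] at h2
    rcases (Nat.Prime.dvd_mul hqp).mp h2 with h | h
    · exact absurd h (h50N.1.2.2 q hqp hq)
    · exact h
  have hEq : ¬ q ∣ Nat.card ↥(M ⊓ N) := by
    have hcard := Cfsg.Agent.Helper62.bg72_card_compl hcompl
    have hpos : 0 < Nat.card (sigmaCore N) := Nat.card_pos
    have h1 : (sigmaCore N).relIndex N * Nat.card (sigmaCore N) =
        Nat.card ↥(M ⊓ N) * Nat.card (sigmaCore N) := by rw [hrelN, hcard]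
    have h2 : (sigmaCore N).relIndex N = Nat.card ↥(M ⊓ N) := Nat.eq_of_mul_eq_mul_right hpos h1
    rw [← h2]
    exact h50N.1.2.2 q hqp hq
  have hpNσ : ¬ p ∣ Nat.card (sigmaCore N) := fun h =>
    hpN (Cfsg.Agent.Helper23.mem_of_dvd_card_piCoreOf (sigma N) N hpp h)
  have hqMσ : ¬ q ∣ Nat.card (sigmaCore M) := fun h =>
    hqσM (Cfsg.Agent.Helper23.mem_of_dvd_card_piCoreOf (sigma M) M hqp h)
  have hNnormσ : ∀ n ∈ N, ∀ g ∈ sigmaCore N, n * g * n⁻¹ ∈ sigmaCore N := fun n hn g hg =>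
    (mem_normalizer_iff.mp (Cfsg.Agent.Helper23.le_normalizer_piCoreOf (sigma N) N hn) g).mp hg
  have hMnormσ : ∀ n ∈ M, ∀ g ∈ sigmaCore M, n * g * n⁻¹ ∈ sigmaCore M := fun n hn g hg =>
    (mem_normalizer_iff.mp (Cfsg.Agent.Helper23.le_normalizer_piCoreOf (sigma M) M hn) g).mp hg
  -- the elementary abelian subgroup of order `p ^ 2` of `N`
  obtain ⟨A, hAN, hAel, hAcard⟩ := Cfsg.Agent.Helper72.b12c_exists_elemAb hpτ
  have h17 := Cfsg.Agent.S1417.result hG N hN p hpτ A ⟨hAN, hAel, hAcard⟩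
  have hCA : sigmaCore N ⊓ centralizer (A : Set G) = ⊥ := h17.2.2.2.1
  have hApg : IsPGroup p A := by
    intro a
    refine ⟨1, ?_⟩
    rw [pow_one]
    exact Subtype.ext (hAel.2 a a.2)
  have h08 := Cfsg.Agent.S1408.result hG N hN p hpN hpτ.2.2.1 hpτ.2.2.2
  have hpβM : p ∉ beta M := fun h => h08.1 h.2
  have h14M := (Cfsg.Agent.S1414.result hG M hM).2.2.2.2 p hpp hpσ.2.1 hpβM
  by_contra hqβ
  have h14N := (Cfsg.Agent.S1414.result hG N hN).2.2.2.2 q hqp hq.2.1 hqβ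
  -- Step 4: `p` divides `|N : O_{q'}(N)|`
  have hstep4 : p ∣ (pPrimeCore q ↥N).index := by
    by_contra hnd
    obtain ⟨T, hTN, hTnorm, hTcop, hTpow⟩ := bg144_core_facts N q
    have hcopidx : Nat.Coprime (pPrimeCore q ↥N).index p :=
      ((Nat.Prime.coprime_iff_not_dvd hpp).mpr hnd).symm
    have hAT : ∀ a ∈ A, a ∈ T := by
      intro a ha
      by_cases ha1 : a = 1
      · rw [ha1]
        exact T.one_mem
      · have hoa : orderOf a = p := orderOf_eq_prime (hAel.2 a ha) ha1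
        exact bg144_mem_of_pow_mem (hTpow a (hAN ha)) (by rw [hoa]; exact hcopidx)
          (by rw [hoa]; exact hpp.one_lt)
    obtain ⟨y', hy'⟩ := exists_prime_orderOf_dvd_card' (G := ↥(sigmaCore N)) q hqNσ
    have hyσ : (y' : G) ∈ sigmaCore N := y'.2
    have hyo : orderOf (y' : G) = q := by
      rw [Subgroup.orderOf_coe]
      exact hy'
    have hyN : (y' : G) ∈ N := hσN hyσ
    have hWp : ¬ p ∣ Nat.card ↥(sigmaCore N ⊓ T) := fun h =>
      hpNσ (h.trans (Subgroup.card_dvd_of_le inf_le_left))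
    have hcl : ∀ a ∈ A, ∀ w ∈ sigmaCore N ⊓ T,
        a * w * (y' : G) * a⁻¹ * (y' : G)⁻¹ ∈ sigmaCore N ⊓ T := by
      intro a ha w hw
      have haN := hAN ha
      have haT := hAT a ha
      have e : a * w * (y' : G) * a⁻¹ * (y' : G)⁻¹ =
          (a * w * a⁻¹) * (a * ((y' : G) * a⁻¹ * (y' : G)⁻¹)) := by group
      rw [e]
      refine (sigmaCore N ⊓ T).mul_mem ⟨hNnormσ a haN w hw.1, hTnorm a haN w hw.2⟩ ⟨?_, ?_⟩
      · have e2 : a * ((y' : G) * a⁻¹ * (y' : G)⁻¹) = (a * (y' : G) * a⁻¹) * (y' : G)⁻¹ := by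
          group
        rw [e2]
        exact (sigmaCore N).mul_mem (hNnormσ a haN _ hyσ) ((sigmaCore N).inv_mem hyσ)
      · exact T.mul_mem haT (hTnorm _ hyN _ (T.inv_mem haT))
    obtain ⟨w, hw, hfix⟩ := bg144_fixed_point hApg hWp (y' : G) hcl
    have hc : w * (y' : G) ∈ sigmaCore N ⊓ centralizer (A : Set G) :=
      ⟨(sigmaCore N).mul_mem hw.1 hyσ, Subgroup.mem_centralizer_iff.mpr (fun a ha => hfix a ha)⟩
    rw [hCA, Subgroup.mem_bot] at hc
    have hyT : (y' : G) ∈ T := by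
      have h1 : w⁻¹ = (y' : G) := inv_eq_of_mul_eq_one_right hc
      rw [← h1]
      exact T.inv_mem hw.2
    have hdvd : q ∣ Nat.card T := by
      rw [← hyo]
      exact Subgroup.orderOf_dvd_natCard T hyT
    have h5 := Nat.dvd_gcd hdvd (dvd_refl q)
    have h6 : Nat.gcd (Nat.card T) q = 1 := hTcop
    rw [h6] at h5
    exact hqp.one_lt.ne' (Nat.dvd_one.mp h5)
  have hpleq : p ≤ q := h14N.2.2 p hpp hstep4
  have hpltq : p < q := lt_of_le_of_ne hpleq hpq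
  have hstep5 : ¬ q ∣ (pPrimeCore p ↥M).index := fun h =>
    absurd (h14M.2.2 q hqp h) (not_le.mpr hpltq)
  -- Step 5: an element of order `q` of `M` centralizing `Y`
  obtain ⟨T, hTM, hTnorm, hTcop, hTpow⟩ := bg144_core_facts M p
  obtain ⟨t', ht'⟩ := exists_prime_orderOf_dvd_card' (G := ↥M) q hqM
  have htM : (t' : G) ∈ M := t'.2
  have hto : orderOf (t' : G) = q := by
    rw [Subgroup.orderOf_coe]
    exact ht'
  have hcopidx : Nat.Coprime (pPrimeCore p ↥M).index q :=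
    ((Nat.Prime.coprime_iff_not_dvd hqp).mpr hstep5).symm
  have htT : (t' : G) ∈ T :=
    bg144_mem_of_pow_mem (hTpow _ htM) (by rw [hto]; exact hcopidx) (by rw [hto]; exact hqp.one_lt)
  have hYσ : Y ≤ sigmaCore M := hYx.trans (zpowers_le.mpr hx)
  have hYpg : IsPGroup p Y := IsPGroup.of_card (n := 1) (by rw [hYc, pow_one])
  have hWp : ¬ p ∣ Nat.card ↥(T ⊓ sigmaCore M) := by
    intro h
    have h1 : p ∣ Nat.card T := h.trans (Subgroup.card_dvd_of_le inf_le_left)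
    have h2 := Nat.dvd_gcd h1 (dvd_refl p)
    have h3 : Nat.gcd (Nat.card T) p = 1 := hTcop
    rw [h3] at h2
    exact hpp.one_lt.ne' (Nat.dvd_one.mp h2)
  have hcl : ∀ a ∈ Y, ∀ w ∈ T ⊓ sigmaCore M,
      a * w * (t' : G) * a⁻¹ * (t' : G)⁻¹ ∈ T ⊓ sigmaCore M := by
    intro a ha w hw
    have haσ := hYσ ha
    have haM := hσM haσ
    have e : a * w * (t' : G) * a⁻¹ * (t' : G)⁻¹ =
        (a * w * a⁻¹) * (a * ((t' : G) * a⁻¹ * (t' : G)⁻¹)) := by group
    rw [e]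
    refine (T ⊓ sigmaCore M).mul_mem ⟨hTnorm a haM w hw.1, hMnormσ a haM w hw.2⟩ ⟨?_, ?_⟩
    · have e2 : a * ((t' : G) * a⁻¹ * (t' : G)⁻¹) = (a * (t' : G) * a⁻¹) * (t' : G)⁻¹ := by
        group
      rw [e2]
      exact T.mul_mem (hTnorm a haM _ htT) (T.inv_mem htT)
    · exact (sigmaCore M).mul_mem haσ (hMnormσ _ htM _ ((sigmaCore M).inv_mem haσ))
  obtain ⟨w, hw, hfix⟩ := bg144_fixed_point hYpg hWp (t' : G) hcl
  have hcM : w * (t' : G) ∈ M := M.mul_mem (hσM hw.2) htM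
  have hcC : w * (t' : G) ∈ centralizer (Y : Set G) :=
    Subgroup.mem_centralizer_iff.mpr (fun a ha => hfix a ha)
  have hcN : w * (t' : G) ∈ N := hYN (Subgroup.centralizer_le_normalizer _ hcC)
  have hco : ¬ q ∣ orderOf (w * (t' : G)) := fun h =>
    hEq (h.trans (Subgroup.orderOf_dvd_natCard (M ⊓ N) ⟨hcM, hcN⟩))
  have htnorm : (t' : G) ∈ normalizer ((T ⊓ sigmaCore M : Subgroup G) : Set G) := by
    rw [mem_normalizer_iff]
    intro g
    constructor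
    · intro hg
      exact ⟨hTnorm _ htM g hg.1, hMnormσ _ htM g hg.2⟩
    · intro hg
      have e3 : g = (t' : G)⁻¹ * ((t' : G) * g * (t' : G)⁻¹) * (t' : G)⁻¹⁻¹ := by group
      rw [e3]
      exact ⟨hTnorm _ (M.inv_mem htM) _ hg.1, hMnormσ _ (M.inv_mem htM) _ hg.2⟩
  have hpowc := bg144_pow_coset hw htnorm (orderOf (w * (t' : G)))
  rw [pow_orderOf_eq_one, one_mul] at hpowc
  have htmW : (t' : G) ^ orderOf (w * (t' : G)) ∈ T ⊓ sigmaCore M := by
    have h1 := (T ⊓ sigmaCore M).inv_mem hpowc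
    rwa [inv_inv] at h1
  have hcop2 : Nat.Coprime (orderOf (w * (t' : G))) (orderOf (t' : G)) := by
    rw [hto]
    exact ((Nat.Prime.coprime_iff_not_dvd hqp).mpr hco).symm
  have htW : (t' : G) ∈ T ⊓ sigmaCore M :=
    bg144_mem_of_pow_mem htmW hcop2 (by rw [hto]; exact hqp.one_lt)
  exact hqMσ (by rw [← hto]; exact Subgroup.orderOf_dvd_natCard _ htW.2)

/-- **B&G 14.4(d), second form**: for a prime `q ∈ σ(N)` dividing `|M|`, the centralizer of every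
element of order `q` of `N_σ` lies in `N`. -/
theorem bg144_cent_le (hG : IsMinSimpleOddOrder G) {M N : Subgroup G} (hM : IsCoatom M) {x : G}
    (hx : x ∈ sigmaCore M) (hx1 : x ≠ 1) (hxM : ¬ centralizer ({x} : Set G) ≤ M)
    (hN : IsCoatom N) (hxN : centralizer ({x} : Set G) ≤ N) {q : ℕ} (hq : q ∈ sigma N)
    (hqM : q ∣ Nat.card M) {z : G} (hz : z ∈ sigmaCore N) (hzq : orderOf z = q) :
    centralizer ({z} : Set G) ≤ N := by
  by_contra hC
  have hβ := bg144_mem_beta hG hM hx hx1 hxM hN hxN hq hqM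
  have hz1 : z ≠ 1 := by
    intro h
    rw [h, orderOf_one] at hzq
    exact hq.1.one_lt.ne hzq
  obtain ⟨L, p, Y, hL, -, -, -, hpτ, hpd, -⟩ := Cfsg.Agent.Helper54.bg14t_core hG hN hz hz1 hC
  have hpq : p = q := by
    rw [hzq] at hpd
    exact (Nat.prime_dvd_prime_iff_eq hpτ.1 hq.1).mp hpd
  rw [hpq] at hpτ
  have hFq : Fact q.Prime := Fact.mk hq.1
  exact (Cfsg.Agent.S1408.result hG L hL q hpτ.2.1 hpτ.2.2.1 hpτ.2.2.2).1 hβ.2

end Cfsg.Agent.Helper73
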