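import Mathlib
import Cfsg.Prelude.Def_Characters
import Cfsg.Prelude.Def_Blocks
import Cfsg.Agent.Helper73.BrauerChar
import Cfsg.Agent.Helper73.GenSpan

/-!
# Truncation to `p`-regular elements (helper73)

* `exists_normal_pcomplement_of_isElementary`: elementary groups have normal `p`-complements.
* `pRegular_mem_genSpanZ`: for a generalized character `θ` of `G` and `p^a` the `p`-part of `|G|`,
  the function equal to `p^a θ` on `p`-regular elements and `0` elsewhere is a generalized
  character; `pRegular_mem_genSpanA` is the version with algebraic integer coefficients.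

Everything is in `namespace Cfsg.Agent.Helper73`.
-/

set_option autoImplicit false

namespace Cfsg.Agent.Helper73

open scoped ComplexConjugate

/-- Elementary groups have normal `p`-complements, for every prime `p`. -/
theorem exists_normal_pcomplement_of_isElementary {E : Type*} [Group E] [Finite E] {q p : ℕ}
    (hq : q.Prime) (hp : p.Prime) (hE : Cfsg.IsElementary q E) :
    ∃ K : Subgroup E, K.Normal ∧ (Nat.card K).Coprime p ∧ ∃ j : ℕ, K.index = p ^ j := by
  obtain ⟨x, hxc, hxq, k, hk⟩ := hE
  have hCn : (Subgroup.zpowers x).Normal := by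
    constructor
    intro n hn g
    obtain ⟨i, rfl⟩ := Subgroup.mem_zpowers_iff.mp hn
    have hc : Commute g x := Subgroup.mem_center_iff.mp hxc g
    have : g * x ^ i * g⁻¹ = x ^ i := by
      rw [(hc.zpow_right i).eq, mul_inv_cancel_right]
    rw [this]
    exact Subgroup.zpow_mem_zpowers x i
  by_cases hpq : p = q
  · subst hpq
    exact ⟨Subgroup.zpowers x, hCn, by rw [Nat.card_zpowers]; exact hxq, k, hk⟩
  · have hpf : Fact p.Prime := ⟨hp⟩
    obtain ⟨P⟩ : Nonempty (Sylow p E) := inferInstance
    have hPle : (P : Subgroup E) ≤ Subgroup.zpowers x := by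
      intro e he
      have h1 : e ^ (q ^ k) ∈ Subgroup.zpowers x := by
        rw [← hk]
        exact Subgroup.pow_index_mem _ e
      obtain ⟨i, hi⟩ := P.2 ⟨e, he⟩
      have hord : orderOf e ∣ p ^ i :=
        orderOf_dvd_of_pow_eq_one (by simpa using congrArg Subtype.val hi)
      have hcop : Nat.Coprime (q ^ k) (orderOf e) := by
        apply Nat.Coprime.coprime_dvd_right hord
        exact Nat.Coprime.pow _ _ ((Nat.coprime_primes hq hp).mpr (Ne.symm hpq))
      obtain ⟨b, hb⟩ := exists_pow_eq_self_of_coprime hcop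
      rw [← hb]
      exact Subgroup.pow_mem _ h1 b
    have hPc : (P : Subgroup E) ≤ Subgroup.center E := fun e he => by
      obtain ⟨i, rfl⟩ := Subgroup.mem_zpowers_iff.mp (hPle he)
      exact Subgroup.zpow_mem _ hxc i
    have hP : Subgroup.normalizer (P : Set E) ≤ Subgroup.centralizer (P : Set E) := by
      intro g _
      rw [Subgroup.mem_centralizer_iff]
      intro h hh
      exact (Subgroup.mem_center_iff.mp (hPc hh) g).symm
    have hcompl := MonoidHom.ker_transferSylow_isComplement' P hP
    have h1 := hcompl.card_mul_card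
    refine ⟨(MonoidHom.transferSylow P hP).ker, inferInstance, ?_, ?_⟩
    · have h2 := Subgroup.card_mul_index (P : Subgroup E)
      have h3 : Nat.card (MonoidHom.transferSylow P hP).ker = (P : Subgroup E).index := by
        rw [← h1, mul_comm] at h2
        exact (Nat.eq_of_mul_eq_mul_right Nat.card_pos h2).symm
      rw [h3]
      exact ((Nat.Prime.coprime_iff_not_dvd hp).mpr P.not_dvd_index).symm
    · obtain ⟨j, hj⟩ := IsPGroup.iff_card.mp P.2
      refine ⟨j, ?_⟩
      have h2 := Subgroup.card_mul_index (MonoidHom.transferSylow P hP).ker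
      rw [← h1] at h2
      rw [← hj]
      exact Nat.eq_of_mul_eq_mul_left Nat.card_pos h2

/-- A normal `p`-complement consists exactly of the `p`-regular elements. -/
theorem mem_iff_not_dvd_orderOf_of_normal_pcomplement {E : Type*} [Group E] [Finite E] {p : ℕ}
    (hp : p.Prime) (K : Subgroup E) [K.Normal] (hK : (Nat.card K).Coprime p) {j : ℕ}
    (hj : K.index = p ^ j) (e : E) : e ∈ K ↔ ¬ p ∣ orderOf e := by
  constructor
  · intro he hdvd
    have h1 := K.orderOf_dvd_natCard he
    have h2 : p ∣ Nat.card K := hdvd.trans h1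
    exact hp.ne_one (Nat.Coprime.eq_one_of_dvd hK.symm h2)
  · intro hnd
    have h1 : e ^ (p ^ j) ∈ K := by
      rw [← hj]
      exact K.pow_index_mem e
    have hcop : Nat.Coprime (p ^ j) (orderOf e) :=
      Nat.Coprime.pow_left _ ((Nat.Prime.coprime_iff_not_dvd hp).mpr hnd)
    obtain ⟨b, hb⟩ := exists_pow_eq_self_of_coprime hcop
    rw [← hb]
    exact K.pow_mem h1 b

/-- The permutation character on the cosets of a normal subgroup. -/
theorem indFun_one_of_normal {E : Type*} [Group E] [Fintype E] (K : Subgroup E) [hKn : K.Normal]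
    (e : E) : (e ∈ K → Cfsg.indFun K (fun _ => (1 : ℂ)) e = (K.index : ℂ)) ∧
      (e ∉ K → Cfsg.indFun K (fun _ => (1 : ℂ)) e = 0) := by
  constructor
  · intro he
    unfold Cfsg.indFun
    have h1 : ∀ z : E, Cfsg.extendByZero K (fun _ => (1 : ℂ)) (z⁻¹ * e * z) = 1 := by
      intro z
      have hmem : z⁻¹ * e * z ∈ K := by
        have := hKn.conj_mem e he z⁻¹
        rwa [inv_inv] at this
      rw [Cfsg.Agent.Helper3.extendByZero_of_mem K _ hmem]
    simp only [h1, Finset.sum_const, Finset.card_univ, nsmul_eq_mul, mul_one]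
    rw [← Nat.card_eq_fintype_card, ← K.card_mul_index]
    have hP0 : (Nat.card K : ℂ) ≠ 0 := by exact_mod_cast Nat.card_pos.ne'
    push_cast
    field_simp
  · intro he
    unfold Cfsg.indFun
    have h0 : ∀ z : E, Cfsg.extendByZero K (fun _ => (1 : ℂ)) (z⁻¹ * e * z) = 0 := by
      intro z
      apply Cfsg.Agent.Helper3.extendByZero_of_not_mem
      intro h
      apply he
      have := hKn.conj_mem _ h z
      simpa [mul_assoc] using this
    simp [h0]

section PRegular

variable {G : Type*} [Group G] [Fintype G]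

/-- On an elementary subgroup, the `p`-regular truncation scaled by the `p`-part of `|G|` is a
natural multiple of the product with a permutation character. -/
theorem pRegular_restrict_eq {p q : ℕ} (hp : p.Prime) (hq : q.Prime) (E : Subgroup G)
    (hE : Cfsg.IsElementary q E) (θ Θ : G → ℂ)
    (h1 : ∀ x, ¬ p ∣ orderOf x → Θ x = ((p ^ (Nat.card G).factorization p : ℕ) : ℂ) * θ x)
    (h0 : ∀ x, p ∣ orderOf x → Θ x = 0) :
    ∃ (π : E → ℂ) (n : ℕ), Cfsg.IsCharacter E π ∧
      (fun e : E => Θ e) = n • (π * fun e : E => θ e) := by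
  have : Fintype E := Fintype.ofFinite E
  obtain ⟨K, hKn, hKc, j, hj⟩ := exists_normal_pcomplement_of_isElementary hq hp hE
  have hja : j ≤ (Nat.card G).factorization p := by
    rw [← Nat.Prime.pow_dvd_iff_le_factorization hp Nat.card_pos.ne', ← hj]
    exact (K.index_dvd_card).trans (Subgroup.card_subgroup_dvd_card E)
  refine ⟨Cfsg.indFun K (fun _ => (1 : ℂ)), p ^ ((Nat.card G).factorization p - j),
    Cfsg.Agent.Helper3.isCharacter_indFun K _ Cfsg.Agent.Helper79.isCharacter_one, ?_⟩
  funext e
  have hmem := mem_iff_not_dvd_orderOf_of_normal_pcomplement hp K hKc hj e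
  have hord : orderOf (e : G) = orderOf e := Subgroup.orderOf_coe e
  simp only [Pi.smul_apply, Pi.mul_apply, nsmul_eq_mul]
  by_cases hd : p ∣ orderOf (e : G)
  · rw [h0 _ hd]
    have heK : e ∉ K := by
      rw [hmem, ← hord]
      exact not_not.mpr hd
    rw [(indFun_one_of_normal K e).2 heK]
    ring
  · rw [h1 _ hd]
    have heK : e ∈ K := by
      rw [hmem, ← hord]
      exact hd
    rw [(indFun_one_of_normal K e).1 heK, hj]
    have : (p ^ (Nat.card G).factorization p : ℕ) =
        p ^ ((Nat.card G).factorization p - j) * p ^ j := by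
      rw [← pow_add, Nat.sub_add_cancel hja]
    rw [this]
    push_cast
    ring

omit [Fintype G] in
/-- The `p`-regular truncation of a class function is a class function. -/
theorem pRegular_isClassFunction {p : ℕ} {θ Θ : G → ℂ} (hθ : Cfsg.IsClassFunction G θ) (c : ℂ)
    (h1 : ∀ x, ¬ p ∣ orderOf x → Θ x = c * θ x) (h0 : ∀ x, p ∣ orderOf x → Θ x = 0) :
    Cfsg.IsClassFunction G Θ := by
  intro g h
  have hord : orderOf (h * g * h⁻¹) = orderOf g := by
    have := (MulAut.conj h).orderOf_eq g
    rwa [MulAut.conj_apply] at this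
  by_cases hd : p ∣ orderOf g
  · rw [h0 g hd, h0 _ (hord ▸ hd)]
  · rw [h1 g hd, h1 _ (hord ▸ hd), hθ g h]

/-- For a generalized character `θ` and `p^a` the `p`-part of the group order, the function equal
to `p^a θ` on the `p`-regular elements and `0` elsewhere is a generalized character. -/
theorem pRegular_mem_genSpanZ {p : ℕ} (hp : p.Prime) {θ : G → ℂ} (hθ : θ ∈ genSpanZ G)
    (Θ : G → ℂ)
    (h1 : ∀ x, ¬ p ∣ orderOf x → Θ x = ((p ^ (Nat.card G).factorization p : ℕ) : ℂ) * θ x)
    (h0 : ∀ x, p ∣ orderOf x → Θ x = 0) : Θ ∈ genSpanZ G := by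
  apply brauer_characterization_Z
    (pRegular_isClassFunction (isClassFunction_of_mem_genSpanZ hθ) _ h1 h0)
  intro E q hq hE
  obtain ⟨π, n, hπ, heq⟩ := pRegular_restrict_eq hp hq E hE θ Θ h1 h0
  rw [heq]
  exact nsmul_mem (genSpanZ_mul (isCharacter_mem_genSpanZ hπ) (restrict_mem_genSpanZ hθ E)) n

/-- The same with algebraic integer coefficients. -/
theorem pRegular_mem_genSpanA {p : ℕ} (hp : p.Prime) {θ : G → ℂ} (hθ : θ ∈ genSpanA G)
    (Θ : G → ℂ)
    (h1 : ∀ x, ¬ p ∣ orderOf x → Θ x = ((p ^ (Nat.card G).factorization p : ℕ) : ℂ) * θ x)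
    (h0 : ∀ x, p ∣ orderOf x → Θ x = 0) : Θ ∈ genSpanA G := by
  apply brauer_characterization_A
    (pRegular_isClassFunction (isClassFunction_of_mem_genSpanA hθ) _ h1 h0)
  intro E q hq hE
  obtain ⟨π, n, hπ, heq⟩ := pRegular_restrict_eq hp hq E hE θ Θ h1 h0
  rw [heq]
  exact nsmul_mem (genSpanA_mul (isCharacter_mem_genSpanA hπ) (restrict_mem_genSpanA hθ E)) n

end PRegular

end Cfsg.Agent.Helper73
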