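import Mathlib
import Cfsg.Agent.Helper87.MC3e
import Cfsg.Agent.Helper87.OddFix

/-!
# The structure of a group of order `p ^ 4` with an element whose centralizer has order `p ^ 2`
(helper73, PIECE M4 of CALL S5289 BATCH 2)
-/

set_option autoImplicit false

namespace Cfsg.Agent.Helper73

open scoped commutatorElement Pointwise
open Cfsg.Agent.Helper87

theorem mc3_four {G : Type*} [Group G] {p : ℕ} {x : G} (h : MC3 G p 4 x) (hp2 : p ≠ 2) :
    (Subgroup.upperCentralSeries G 2 ⊔ Subgroup.zpowers x).Normal ∧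
    (∀ a ∈ Subgroup.upperCentralSeries G 2, a ^ p = 1) ∧
    (∀ y : G, y * x * y⁻¹ ∈ Subgroup.centralizer ({x} : Set G) →
      y ∈ Subgroup.upperCentralSeries G 2 ⊔ Subgroup.zpowers x) ∧
    ∃ g : G,
      (∀ a ∈ Subgroup.upperCentralSeries G 2, g * a = a * g) ∧
      g ∉ Subgroup.upperCentralSeries G 2 ⊔ Subgroup.zpowers x ∧
      g ^ p ∈ Subgroup.upperCentralSeries G 2 ∧
      (∀ y : G, ∃ i : ℕ, ∃ q ∈ Subgroup.upperCentralSeries G 2 ⊔ Subgroup.zpowers x, y = g ^ i * q) ∧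
      ⁅g, x⁆ ∈ Subgroup.upperCentralSeries G 2 ∧ ⁅g, x⁆ ∉ Subgroup.upperCentralSeries G 1 ∧
      ⁅⁅g, x⁆, x⁆ ≠ 1 ∧
      (∀ q ∈ Subgroup.upperCentralSeries G 2 ⊔ Subgroup.zpowers x, ∃ i j : ℕ,
        ∃ c ∈ Subgroup.upperCentralSeries G 1, q = ⁅g, x⁆ ^ i * x ^ j * c) := by
  classical
  have hfin := h.fin
  have hpf : Fact p.Prime := ⟨h.prime⟩
  have hZ1 : Subgroup.upperCentralSeries G 1 = Subgroup.center G := Subgroup.upperCentralSeries_one G
  have hZ0 : Subgroup.upperCentralSeries G 0 = ⊥ := Subgroup.upperCentralSeries_zero G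
  have hxZ2 : x ∉ Subgroup.upperCentralSeries G 2 := h.x_not_mem (k := 2) (by norm_num)
  have hcZ1 : Nat.card (Subgroup.upperCentralSeries G 1) = p := by
    have := h.card_Z (k := 1) (by norm_num)
    rwa [pow_one] at this
  have hcZ2 : Nat.card (Subgroup.upperCentralSeries G 2) = p ^ 2 := h.card_Z (k := 2) (by norm_num)
  have htop : ∀ g g' : G, ⁅g, g'⁆ ∈ Subgroup.upperCentralSeries G 2 := fun g g' => h.top_comm g g'
  set Q := Subgroup.upperCentralSeries G 2 ⊔ Subgroup.zpowers x with hQ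
  have hZ2Q : Subgroup.upperCentralSeries G 2 ≤ Q := le_sup_left
  have hxQ : x ∈ Q := le_sup_right (a := Subgroup.upperCentralSeries G 2) (Subgroup.mem_zpowers x)
  -- (1) normality
  have hQn : Q.Normal := by
    constructor
    intro q hq y
    have : y * q * y⁻¹ = ⁅y, q⁆ * q := by rw [commutatorElement_def]; group
    rw [this]
    exact Q.mul_mem (hZ2Q (htop y q)) hq
  have hcen : ∀ c ∈ Subgroup.upperCentralSeries G 1, ∀ y : G, c * y = y * c := by
    intro c hc y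
    rw [hZ1] at hc
    exact (Subgroup.mem_center_iff.mp hc y).symm
  have hZ1pow : ∀ c ∈ Subgroup.upperCentralSeries G 1, c ^ p = 1 := by
    intro c hc
    have h1 : (⟨c, hc⟩ : Subgroup.upperCentralSeries G 1) ^ Nat.card (Subgroup.upperCentralSeries G 1) = 1 :=
      pow_card_eq_one'
    rw [hcZ1] at h1
    have h2 := congrArg Subtype.val h1
    simpa using h2
  -- (2) exponent of `Z₂`
  have hexp : ∀ a ∈ Subgroup.upperCentralSeries G 2, a ^ p = 1 := by
    intro a ha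
    have h1 : (a * x) ^ p = x ^ p := h.mul_x_pow (a := a) ha
    have hc1 : ⁅x, a⁆ ∈ Subgroup.upperCentralSeries G 1 := MC3.comm_mem_succ' ha x
    have h2 := mul_pow_class_two a x (hcen _ hc1 a) (hcen _ hc1 x) p
    have h3 : ⁅x, a⁆ ^ (p.choose 2) = 1 := by
      obtain ⟨m, hm⟩ := h.prime.dvd_choose_self (k := 2) (by norm_num)
        (lt_of_le_of_ne h.prime.two_le (Ne.symm hp2))
      rw [hm, pow_mul, hZ1pow _ hc1, one_pow]
    rw [h2, h3, mul_one] at h1
    exact mul_eq_right.mp h1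
  -- (3) the normalizer-type condition
  have hcx : ∀ y : G, y * x * y⁻¹ ∈ Subgroup.centralizer ({x} : Set G) → y ∈ Q := by
    intro y hy
    by_contra hyQ
    have h1 : ⁅y, x⁆ ∉ Subgroup.upperCentralSeries G 1 := h.top_not_mem (g := x) (v := y) hxZ2 hyQ
    have h2 : ⁅y, x⁆ ∈ Subgroup.upperCentralSeries G 2 := htop y x
    have hu := h.uniserial (j := 0) (by norm_num) (a := ⁅y, x⁆) h2 h1
    apply hu.2
    rw [hZ0, Subgroup.mem_bot, commutatorElement_eq_one_iff_commute]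
    have h4 : Commute x (y * x * y⁻¹) :=
      Subgroup.mem_centralizer_iff.mp hy x (Set.mem_singleton x)
    rw [commutatorElement_def]
    exact h4.mul_right (Commute.inv_right (Commute.refl x))
  refine ⟨hQn, hexp, hcx, ?_⟩
  -- (4) the element `g`
  obtain ⟨a₀, ha₀, ha₀'⟩ : ∃ a : G, a ∈ Subgroup.upperCentralSeries G 2 ∧ a ∉ Subgroup.upperCentralSeries G 1 :=
    h.exists_top_elt
  obtain ⟨v, hv⟩ : ∃ v : G, v ∉ Q := h.exists_top_not_mem (g := x) hxZ2
  have hu := h.uniserial (j := 0) (by norm_num) (a := a₀) ha₀ ha₀'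
  have hcomZ1 : ∀ y : G, ⁅y, a₀⁆ ∈ Subgroup.upperCentralSeries G 1 := fun y => MC3.comm_mem_succ' ha₀ y
  have hmul : ∀ u w : G, ⁅u * w, a₀⁆ = ⁅u, a₀⁆ * ⁅w, a₀⁆ := by
    intro u w
    have e : ⁅u * w, a₀⁆ = u * ⁅w, a₀⁆ * u⁻¹ * ⁅u, a₀⁆ := by
      simp only [commutatorElement_def]; group
    rw [e, ← hcen _ (hcomZ1 w) u, mul_inv_cancel_right, hcen _ (hcomZ1 w)]
  have hpowc : ∀ m : ℕ, ⁅x ^ m, a₀⁆ = ⁅x, a₀⁆ ^ m := by
    intro m
    induction m with
    | zero => simp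
    | succ m ih => rw [pow_succ, hmul, ih, pow_succ]
  obtain ⟨e, z, hz, hve⟩ := h.step_decomp (k := 0) (by norm_num) hu.1 hu.2 (hcomZ1 v)
  have hz1 : z = 1 := by rwa [hZ0, Subgroup.mem_bot] at hz
  obtain ⟨g, hg⟩ : ∃ g : G, g = v * x ^ ((p - 1) * e) := ⟨_, rfl⟩
  have hga : ⁅g, a₀⁆ = 1 := by
    rw [hg, hmul, hpowc, hve, hz1, mul_one, ← pow_add]
    have h1 : e + (p - 1) * e = p * e := by
      have := h.prime.one_le
      obtain ⟨k, rfl⟩ : ∃ k, p = k + 1 := ⟨p - 1, by omega⟩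
      simp only [Nat.add_sub_cancel]
      ring
    rw [h1, pow_mul, hZ1pow _ hu.1, one_pow]
  have hgK : g ∈ mc3K G 4 := (h.mem_K_iff (by norm_num) ha₀ ha₀').mpr (by
    rw [hga]; exact Subgroup.one_mem _)
  have hgcomm : ∀ a ∈ Subgroup.upperCentralSeries G 2, g * a = a * g := by
    intro a ha
    have h1 : ⁅g, a⁆ ∈ Subgroup.upperCentralSeries G 0 := (mem_mc3K.mp hgK) a ha
    rw [hZ0, Subgroup.mem_bot, commutatorElement_eq_one_iff_mul_comm] at h1
    exact h1
  have hgQ : g ∉ Q := by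
    intro hgQ
    apply hv
    have : v = g * (x ^ ((p - 1) * e))⁻¹ := by rw [hg]; group
    rw [this]
    exact Q.mul_mem hgQ (Q.inv_mem (Q.pow_mem hxQ _))
  have hgZ2 : g ∉ Subgroup.upperCentralSeries G 2 := fun hh => hgQ (hZ2Q hh)
  -- `g ^ p ∈ Z₂`
  have hgp : g ^ p ∈ Subgroup.upperCentralSeries G 2 := by
    have hlt1 : Subgroup.upperCentralSeries G 2 < Subgroup.upperCentralSeries G 2 ⊔ Subgroup.zpowers g := by
      refine lt_of_le_of_ne le_sup_left ?_
      intro heq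
      apply hgZ2
      rw [heq]
      exact le_sup_right (a := Subgroup.upperCentralSeries G 2) (Subgroup.mem_zpowers g)
    have hne : Subgroup.upperCentralSeries G 2 ⊔ Subgroup.zpowers g ≠ ⊤ := h.top_sup_ne_top hgZ2
    have c1 := mc3_card_le_of_lt h.isPGroup hlt1
    have c2 := mc3_card_le_of_lt h.isPGroup (lt_top_iff_ne_top.mpr hne)
    rw [hcZ2] at c1
    rw [Subgroup.card_top, h.card] at c2
    have hcK : Nat.card (Subgroup.upperCentralSeries G 2 ⊔ Subgroup.zpowers g : Subgroup G) = p ^ 3 := by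
      have hp0 := h.prime.pos
      have c3 : p * Nat.card (Subgroup.upperCentralSeries G 2 ⊔ Subgroup.zpowers g : Subgroup G) ≤ p * p ^ 3 := by
        calc _ ≤ p ^ 4 := c2
          _ = p * p ^ 3 := by ring
      have c4 := Nat.le_of_mul_le_mul_left c3 hp0
      have c5 : p ^ 3 ≤ Nat.card (Subgroup.upperCentralSeries G 2 ⊔ Subgroup.zpowers g : Subgroup G) := by
        calc p ^ 3 = p * p ^ 2 := by ring
          _ ≤ _ := c1
      exact le_antisymm c4 c5
    have hle : Subgroup.upperCentralSeries G 2 ≤ Subgroup.upperCentralSeries G 2 ⊔ Subgroup.zpowers g :=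
      le_sup_left
    have hidx : ((Subgroup.upperCentralSeries G 2).subgroupOf
        (Subgroup.upperCentralSeries G 2 ⊔ Subgroup.zpowers g)).index = p := by
      have h1 := Subgroup.card_mul_index ((Subgroup.upperCentralSeries G 2).subgroupOf
        (Subgroup.upperCentralSeries G 2 ⊔ Subgroup.zpowers g))
      rw [Nat.card_congr (Subgroup.subgroupOfEquivOfLe hle).toEquiv, hcZ2, hcK] at h1
      have h2 : p ^ 2 * ((Subgroup.upperCentralSeries G 2).subgroupOf
        (Subgroup.upperCentralSeries G 2 ⊔ Subgroup.zpowers g)).index = p ^ 2 * p := by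
        rw [h1]; ring
      exact Nat.eq_of_mul_eq_mul_left (pow_pos h.prime.pos 2) h2
    have hgm : g ∈ Subgroup.upperCentralSeries G 2 ⊔ Subgroup.zpowers g :=
      le_sup_right (a := Subgroup.upperCentralSeries G 2) (Subgroup.mem_zpowers g)
    have h2 := Subgroup.pow_index_mem ((Subgroup.upperCentralSeries G 2).subgroupOf
        (Subgroup.upperCentralSeries G 2 ⊔ Subgroup.zpowers g))
      (⟨g, hgm⟩ : (Subgroup.upperCentralSeries G 2 ⊔ Subgroup.zpowers g : Subgroup G))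
    rw [hidx, Subgroup.mem_subgroupOf] at h2
    exact h2
  -- `G = ⟨g⟩ Q`
  have hdec : ∀ y : G, ∃ i : ℕ, ∃ q ∈ Q, y = g ^ i * q := by
    have hlt1 : Subgroup.upperCentralSeries G 2 < Q := by
      refine lt_of_le_of_ne le_sup_left ?_
      intro heq
      apply hxZ2
      rw [heq]
      exact hxQ
    have hlt2 : Q < Q ⊔ Subgroup.zpowers g := by
      refine lt_of_le_of_ne le_sup_left ?_
      intro heq
      apply hgQ
      rw [heq]
      exact le_sup_right (a := Q) (Subgroup.mem_zpowers g)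
    have c1 := mc3_card_le_of_lt h.isPGroup hlt1
    have c2 := mc3_card_le_of_lt h.isPGroup hlt2
    rw [hcZ2] at c1
    have c3 : Nat.card G ≤ Nat.card (Q ⊔ Subgroup.zpowers g : Subgroup G) := by
      rw [h.card]
      calc p ^ 4 = p * (p * p ^ 2) := by ring
        _ ≤ p * Nat.card Q := Nat.mul_le_mul_left p c1
        _ ≤ _ := c2
    have htopQ := Subgroup.eq_top_of_le_card _ c3
    intro y
    have hy : y ∈ ((Subgroup.zpowers g ⊔ Q : Subgroup G) : Set G) := by
      rw [sup_comm, htopQ]; exact Subgroup.mem_top y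
    rw [Subgroup.mul_normal] at hy
    obtain ⟨u, hu', q, hq, rfl⟩ := Set.mem_mul.mp hy
    obtain ⟨e', rfl⟩ := Subgroup.mem_zpowers_iff.mp hu'
    obtain ⟨e'', he''⟩ := mc3_zpow_eq_pow g e'
    exact ⟨e'', q, hq, by rw [he'']⟩
  have hgx2 : ⁅g, x⁆ ∈ Subgroup.upperCentralSeries G 2 := htop g x
  have hgx1 : ⁅g, x⁆ ∉ Subgroup.upperCentralSeries G 1 := h.top_not_mem (g := x) (v := g) hxZ2 hgQ
  have hgxx : ⁅⁅g, x⁆, x⁆ ≠ 1 := by
    have hu2 := h.uniserial (j := 0) (by norm_num) (a := ⁅g, x⁆) hgx2 hgx1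
    intro h1
    apply hu2.2
    rw [hZ0, Subgroup.mem_bot, ← commutatorElement_inv, h1, inv_one]
  refine ⟨g, hgcomm, hgQ, hgp, hdec, hgx2, hgx1, hgxx, ?_⟩
  intro q hq
  have hq' : q ∈ ((Subgroup.upperCentralSeries G 2 ⊔ Subgroup.zpowers x : Subgroup G) : Set G) := hq
  rw [Subgroup.normal_mul] at hq'
  obtain ⟨a, ha, u, hu', rfl⟩ := Set.mem_mul.mp hq'
  obtain ⟨e', rfl⟩ := Subgroup.mem_zpowers_iff.mp hu'
  obtain ⟨j, hj⟩ := mc3_zpow_eq_pow x e'
  obtain ⟨i, c, hc, hac⟩ := h.step_decomp (k := 1) (by norm_num) hgx2 hgx1 ha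
  refine ⟨i, j, c, hc, ?_⟩
  rw [hj, hac, mul_assoc, hcen c hc, ← mul_assoc]

end Cfsg.Agent.Helper73
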