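import Mathlib

set_option autoImplicit false

namespace Cfsg.Agent.Helper73

open Pointwise

/-- A finite group is not the union of the conjugates of a proper subgroup. -/
theorem exists_not_mem_conj {G : Type*} [Group G] [Finite G] (M : Subgroup G) (hM : M ≠ ⊤) :
    ∃ g : G, ∀ h : G, g ∉ MulAut.conj h • M := by
  classical
  by_contra hcon
  push Not at hcon
  have : Fintype G := Fintype.ofFinite G
  let X := G ⧸ M
  have : Fintype X := Fintype.ofFinite X
  have : ∀ g : G, Fintype (MulAction.fixedBy X g) := fun g => Fintype.ofFinite _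
  have : Fintype (Quotient (MulAction.orbitRel G X)) := Fintype.ofFinite _
  have hB := MulAction.sum_card_fixedBy_eq_card_orbits_mul_card_group G X
  have hΩ : Fintype.card (Quotient (MulAction.orbitRel G X)) = 1 := by
    rw [Fintype.card_eq_one_iff]
    refine ⟨Quotient.mk'' ((1 : G) : X), ?_⟩
    intro y
    induction y using Quotient.inductionOn' with
    | h a =>
      apply Quotient.sound'
      exact MulAction.exists_smul_eq G _ _
  rw [hΩ, one_mul] at hB
  have h1 : ∀ g : G, 1 ≤ Fintype.card (MulAction.fixedBy X g) := by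
    intro g
    obtain ⟨h, hh⟩ := hcon g
    rw [Subgroup.mem_pointwise_smul_iff_inv_smul_mem] at hh
    refine Fintype.card_pos_iff.2 ⟨⟨(h : X), ?_⟩⟩
    rw [MulAction.mem_fixedBy]
    change ((g * h : G) : X) = (h : X)
    rw [QuotientGroup.eq]
    have : (MulAut.conj h)⁻¹ • g = h⁻¹ * g * h := by
      simp [MulAut.smul_def]
    rw [this] at hh
    have h2 : (g * h)⁻¹ * h = (h⁻¹ * g * h)⁻¹ := by group
    rw [h2]
    exact M.inv_mem hh
  have hone : Fintype.card (MulAction.fixedBy X (1 : G)) = Fintype.card X := by
    apply Fintype.card_of_subtype (Finset.univ)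
    intro x
    simp
  have hX : 2 ≤ Fintype.card X := by
    have hidx : M.index ≠ 1 := fun h => hM (Subgroup.index_eq_one.1 h)
    have hidx0 : M.index ≠ 0 := Subgroup.index_ne_zero_of_finite
    have : Fintype.card X = M.index := by
      rw [Subgroup.index, Nat.card_eq_fintype_card]
    omega
  have hsum : Fintype.card G + 1 ≤ ∑ g : G, Fintype.card (MulAction.fixedBy X g) := by
    have hsplit := Finset.add_sum_erase Finset.univ (fun g : G => Fintype.card (MulAction.fixedBy X g))
      (Finset.mem_univ (1 : G))
    rw [← hsplit, hone]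
    have h3 : ∑ g ∈ Finset.univ.erase (1 : G), 1 ≤
        ∑ g ∈ Finset.univ.erase (1 : G), Fintype.card (MulAction.fixedBy X g) :=
      Finset.sum_le_sum (fun g _ => h1 g)
    rw [Finset.sum_const, Finset.card_erase_of_mem (Finset.mem_univ _), Finset.card_univ,
      smul_eq_mul, mul_one] at h3
    have hG : 1 ≤ Fintype.card G := Fintype.card_pos
    omega
  omega

end Cfsg.Agent.Helper73
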