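import Cfsg.Agent.Helper62.BG12c
import Cfsg.Agent.Helper23.Uniq3
set_option autoImplicit false
namespace Cfsg.Agent.Helper73
open Cfsg Subgroup Cfsg.Agent.Helper22 Cfsg.Agent.Helper23 Cfsg.Agent.Helper35 Cfsg.Agent.Helper62.BG12
universe u
variable {G : Type u} [Group G] [Finite G]

/-- Abstract form: if `N` is a normal complement of `P` in `K`, then `P ∩ K' ≤ P'`. -/
theorem q1_aux {K : Type u} [Group K] {N P : Subgroup K} [hNn : N.Normal]
    (hc : N.IsComplement' P) : P ⊓ _root_.commutator K ≤ ⁅P, P⁆ := by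
  intro x hx
  obtain ⟨hxP, hxK⟩ := Subgroup.mem_inf.mp hx
  have hmapP : P.map (QuotientGroup.mk' N) = ⊤ := by
    rw [eq_top_iff]
    intro y _
    obtain ⟨k, rfl⟩ := QuotientGroup.mk'_surjective N y
    obtain ⟨⟨⟨n, hn⟩, ⟨t, ht⟩⟩, hnt⟩ := hc.2 k
    simp only at hnt
    subst hnt
    refine ⟨t, ht, ?_⟩
    rw [map_mul]
    have : QuotientGroup.mk' N n = 1 := by
      rw [← MonoidHom.mem_ker, QuotientGroup.ker_mk']; exact hn
    rw [this, one_mul]
  have hmapT : (⊤ : Subgroup K).map (QuotientGroup.mk' N) = ⊤ := by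
    rw [eq_top_iff]; rw [← hmapP]; exact Subgroup.map_mono le_top
  have h1 : (_root_.commutator K).map (QuotientGroup.mk' N)
      = (⁅P, P⁆ : Subgroup K).map (QuotientGroup.mk' N) := by
    rw [_root_.commutator_def, Subgroup.map_commutator, Subgroup.map_commutator, hmapP, hmapT]
  have h2 : QuotientGroup.mk' N x ∈ (⁅P, P⁆ : Subgroup K).map (QuotientGroup.mk' N) := by
    rw [← h1]; exact ⟨x, hxK, rfl⟩
  obtain ⟨c, hcc, hcx⟩ := h2
  have hcP : c ∈ P := by
    have : (⁅P, P⁆ : Subgroup K) ≤ P := by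
      rw [Subgroup.commutator_le]
      intro a ha b hb
      rw [commutatorElement_def]
      exact P.mul_mem (P.mul_mem (P.mul_mem ha hb) (P.inv_mem ha)) (P.inv_mem hb)
    exact this hcc
  have h3 : c⁻¹ * x ∈ N := by
    rw [← QuotientGroup.ker_mk' N, MonoidHom.mem_ker, map_mul, map_inv, hcx, inv_mul_cancel]
  have h4 : c⁻¹ * x ∈ P := P.mul_mem (P.inv_mem hcP) hxP
  have h5 : c⁻¹ * x = 1 := by
    have : c⁻¹ * x ∈ N ⊓ P := Subgroup.mem_inf.mpr ⟨h3, h4⟩
    rw [hc.disjoint.eq_bot] at this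
    exact Subgroup.mem_bot.mp this
  have h6 : x = c := by
    have := congrArg (fun z => c * z) h5
    simpa using this
  rw [h6]; exact hcc

/-- (Q1) normal `p`-complement implies that the focal subgroup is `T'`. -/
theorem q1_comm_sylow_of_npc {p : ℕ} [Fact p.Prime] {K T : Subgroup G}
    (hN : HasNormalPComplement p ↥K) (hT : IsSylowOf p T K) :
    T ⊓ ⁅K, K⁆ ≤ ⁅T, T⁆ := by
  obtain ⟨P, N, hNn, hc⟩ := hN
  obtain ⟨P', hP'⟩ := hT.exists_sylow
  -- `N` is a complement of `P'` as well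
  have hcardP : Nat.card (P' : Subgroup ↥K) = Nat.card (P : Subgroup ↥K) := by
    rw [Sylow.card_eq_multiplicity, Sylow.card_eq_multiplicity]
  have hmul : Nat.card N * Nat.card (P' : Subgroup ↥K) = Nat.card ↥K := by
    rw [hcardP]; exact hc.card_mul_card
  have hcop : Nat.Coprime (Nat.card N) (Nat.card (P' : Subgroup ↥K)) := by
    have hp : p.Prime := Fact.out
    have hidx : (P : Subgroup ↥K).index = Nat.card N := by
      have h1 := Subgroup.card_mul_index (P : Subgroup ↥K)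
      have h2 := hc.card_mul_card
      have hpos : 0 < Nat.card (P : Subgroup ↥K) := Nat.card_pos
      rw [mul_comm] at h2
      exact Nat.eq_of_mul_eq_mul_left hpos (h1.trans h2.symm)
    have hnd : ¬ p ∣ Nat.card N := by
      rw [← hidx]; exact P.not_dvd_index
    obtain ⟨n, hn⟩ := IsPGroup.iff_card.mp P'.2
    rw [hn]
    exact Nat.Coprime.pow_right n ((Nat.Prime.coprime_iff_not_dvd hp).mpr hnd).symm
  have hc' : N.IsComplement' (P' : Subgroup ↥K) := Subgroup.isComplement'_of_coprime hmul hcop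
  have haux := q1_aux hc'
  intro x hx
  obtain ⟨hxT, hxK⟩ := Subgroup.mem_inf.mp hx
  rw [← Subgroup.map_subtype_commutator] at hxK
  obtain ⟨y, hy, rfl⟩ := hxK
  have hyP : y ∈ (P' : Subgroup ↥K) := by
    rw [hP', Subgroup.mem_subgroupOf]; exact hxT
  have h1 : y ∈ (⁅(P' : Subgroup ↥K), (P' : Subgroup ↥K)⁆ : Subgroup ↥K) :=
    haux (Subgroup.mem_inf.mpr ⟨hyP, hy⟩)
  have h2 : K.subtype y ∈ (⁅(P' : Subgroup ↥K), (P' : Subgroup ↥K)⁆ : Subgroup ↥K).map K.subtype :=
    ⟨y, h1, rfl⟩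
  rw [Subgroup.map_commutator, hP', Subgroup.map_subgroupOf_eq_of_le hT.1] at h2
  exact h2

end Cfsg.Agent.Helper73
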