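/-
helper73: CALL S1382 (helper1), piece KAPN: `bg16c_kappa_nonempty`.
-/
import Mathlib
import Cfsg.Agent.S1350
import Cfsg.Agent.S1355
import Cfsg.Agent.Helper23.BG157KAP
import Cfsg.Agent.Helper62.BG72B

set_option autoImplicit false

namespace Cfsg.Agent.Helper73

open Cfsg Subgroup

universe u

variable {G : Type u} [Group G] [Finite G]

/-- KAPN. A subgroup of type P has `κ(M) ≠ ∅`. -/
theorem bg16c_kappa_nonempty (hG : IsMinSimpleOddOrder G) {M W₁ U' W₂ : Subgroup G}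
    (hM : IsCoatom M) (hP : IsTypePWith M W₁ U' W₂)
    (hrk : ∀ r : ℕ, r.Prime → r ∣ Nat.card W₁ → PRankLE r 1 ↥M) : (kappa M).Nonempty := by
  have hc1 : Nat.card W₁ ≠ 1 := fun e => hP.W₁_ne (Subgroup.card_eq_one.mp e)
  obtain ⟨r, hr, hrW⟩ := Nat.exists_prime_and_dvd hc1
  have : Fact r.Prime := Fact.mk hr
  obtain ⟨x', hx'⟩ := exists_prime_orderOf_dvd_card' (G := ↥W₁) r hrW
  have hxW : (x' : G) ∈ W₁ := x'.2
  have hxo : orderOf (x' : G) = r := by rw [Subgroup.orderOf_coe]; exact hx'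
  have hW₁M : W₁ ≤ M := hP.W₁_compl.2.1
  have hxM : (x' : G) ∈ M := hW₁M hxW
  have hx1 : (x' : G) ≠ 1 := by
    intro h
    rw [h, orderOf_one] at hxo
    exact hr.one_lt.ne hxo
  have h50 := Cfsg.Agent.S1350.result hG M hM
  have h55 := Cfsg.Agent.S1355.result hG M hM
  have hcard := Cfsg.Agent.Helper62.bg72_card_compl hP.W₁_compl
  have hmul : ∀ {H K : Subgroup G}, H ≤ K → H.relIndex K * Nat.card H = Nat.card K := by
    intro H K hle
    have h := Subgroup.relIndex_mul_relIndex ⊥ H K bot_le hle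
    rw [Subgroup.relIndex_bot_left, Subgroup.relIndex_bot_left] at h
    rw [mul_comm]
    exact h
  have hrel : W₁.relIndex M * Nat.card W₁ = Nat.card M := hmul hW₁M
  have hWpos : 0 < Nat.card W₁ := Nat.card_pos
  have hrelM : W₁.relIndex M = Nat.card ↥⁅M, M⁆ := by
    have h1 : W₁.relIndex M * Nat.card W₁ = Nat.card ↥⁅M, M⁆ * Nat.card W₁ := by
      rw [hrel, hcard]
    exact Nat.eq_of_mul_eq_mul_right hWpos h1
  have hrσ : r ∉ sigma M := by
    intro hσ
    have hσM : sigmaCore M ≤ M := h50.1.1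
    have h1 : (sigmaCore M).relIndex M * Nat.card (sigmaCore M) = Nat.card M :=
      hmul hσM
    have h2 : r ∣ Nat.card M := hrW.trans (Subgroup.card_dvd_of_le hW₁M)
    rw [← h1] at h2
    have h3 : r ∣ Nat.card (sigmaCore M) := by
      rcases (Nat.Prime.dvd_mul hr).mp h2 with h | h
      · exact absurd h (h50.1.2.2 r hr hσ)
      · exact h
    have h4 : r ∣ Nat.card ↥⁅M, M⁆ := h3.trans (Subgroup.card_dvd_of_le h55.2.2.1)
    rw [← hrelM] at h4
    have h5 := Nat.dvd_gcd hrW h4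
    have h6 : Nat.gcd (Nat.card W₁) (W₁.relIndex M) = 1 := hP.W₁_hall
    rw [h6] at h5
    exact hr.one_lt.ne' (Nat.dvd_one.mp h5)
  have hr2 : r ∉ tau2 M := fun h => h.2.2.2 (hrk r hr hrW)
  obtain ⟨⟨w, hw⟩, hw1⟩ := (Subgroup.ne_bot_iff_exists_ne_one).mp hP.selfNormalizing.2.1
  have hw1' : w ≠ 1 := fun h => hw1 (Subtype.ext h)
  have hwσ : w ∈ sigmaCore M := h55.2.1 (hP.W₂_le hw).1
  have hcen := hP.W₂_centralizer (x' : G) hxW hx1
  have hwc : w ∈ ⁅M, M⁆ ⊓ Subgroup.centralizer ({(x' : G)} : Set G) := by rw [hcen]; exact hw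
  have hxw : (x' : G) * w = w * (x' : G) :=
    (Subgroup.mem_centralizer_iff.mp hwc.2) (x' : G) (Set.mem_singleton _)
  exact ⟨r, Cfsg.Agent.Helper23.bg157_mem_kappa hG hM hr hrσ hr2 hxM hxo hwσ hw1' hxw⟩

end Cfsg.Agent.Helper73
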