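/-
helper73: CALL S1382 (helper1), piece MEMZ: `bg16c_mem_Z`.
-/
import Mathlib
import Cfsg.Agent.S1430
import Cfsg.Agent.Helper1.BG147PCcore

set_option autoImplicit false

namespace Cfsg.Agent.Helper73

open Cfsg Subgroup

universe u

variable {G : Type u} [Group G] [Finite G]

/-- MEMZ. -/
theorem bg16c_mem_Z (hG : IsMinSimpleOddOrder G) {M K U : Subgroup G} (hM : IsCoatom M)
    (hKU : IsSigmaDecomposition M K U) (hK1 : K ≠ ⊥) {g x : G} (hg : g ∈ M) (hx : x ∈ K)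
    (hx1 : x ≠ 1) (hgx : g * x * g⁻¹ ∈ K) :
    g ∈ K ⊔ (sigmaCore M ⊓ centralizer (K : Set G)) := by
  obtain ⟨-, -, h3⟩ := Cfsg.Agent.S1430.result hG M hM K hKU.hall hK1
  have hord : orderOf x ≠ 1 := fun h => hx1 (orderOf_eq_one_iff.mp h)
  have hpos : 0 < orderOf x := orderOf_pos x
  obtain ⟨r, hr⟩ : ∃ r, r = (orderOf x).minFac := ⟨_, rfl⟩
  have hrp : r.Prime := by rw [hr]; exact Nat.minFac_prime hord
  have hrd : r ∣ orderOf x := by rw [hr]; exact Nat.minFac_dvd _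
  obtain ⟨x₀, hx₀⟩ : ∃ x₀, x₀ = x ^ (orderOf x / r) := ⟨_, rfl⟩
  have ho : orderOf x₀ = r := by
    rw [hx₀, orderOf_pow_orderOf_div hpos.ne' hrd]
  have hx₀K : x₀ ∈ K := by rw [hx₀]; exact K.pow_mem hx _
  have hXK : zpowers x₀ ≤ K := (zpowers_le).mpr hx₀K
  have hcard : (Nat.card (zpowers x₀)).Prime := by rw [Nat.card_zpowers, ho]; exact hrp
  obtain ⟨hN, -, -⟩ := h3 (zpowers x₀) hXK hcard
  rw [← hN]
  refine ⟨hg, ?_⟩
  have hgx₀ : g * x₀ * g⁻¹ = (g * x * g⁻¹) ^ (orderOf x / r) := by rw [hx₀, conj_pow]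
  have hgx₀K : g * x₀ * g⁻¹ ∈ K := by rw [hgx₀]; exact K.pow_mem hgx _
  have hYK : zpowers (g * x₀ * g⁻¹) ≤ K := zpowers_le.mpr hgx₀K
  have hcardY : Nat.card (zpowers x₀) = Nat.card (zpowers (g * x₀ * g⁻¹)) := by
    rw [Nat.card_zpowers, Nat.card_zpowers]
    exact SemiconjBy.orderOf_eq g (show SemiconjBy g x₀ (g * x₀ * g⁻¹) by
      unfold SemiconjBy; group)
  have heq := Cfsg.Agent.Helper1.bg147_eq_of_card_eq hKU.cyclic hXK hYK hcardY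
  have hfwd : ∀ z, z ∈ zpowers x₀ → g * z * g⁻¹ ∈ zpowers x₀ := by
    intro z hz
    obtain ⟨i, rfl⟩ := mem_zpowers_iff.mp hz
    rw [heq, ← conj_zpow]
    exact zpow_mem_zpowers _ _
  have hx₀' : g⁻¹ * x₀ * g ∈ zpowers x₀ := by
    have h1 : x₀ ∈ zpowers (g * x₀ * g⁻¹) := by rw [← heq]; exact mem_zpowers x₀
    obtain ⟨j, hj⟩ := mem_zpowers_iff.mp h1
    have h2 : g⁻¹ * x₀ * g = x₀ ^ j := by
      calc g⁻¹ * x₀ * g = g⁻¹ * (g * x₀ ^ j * g⁻¹) * g := by rw [← conj_zpow, hj]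
        _ = x₀ ^ j := by group
    rw [h2]
    exact zpow_mem_zpowers _ _
  show g ∈ normalizer ((zpowers x₀ : Subgroup G) : Set G)
  rw [mem_normalizer_iff]
  intro z
  refine ⟨hfwd z, fun h => ?_⟩
  obtain ⟨i, hi⟩ := mem_zpowers_iff.mp h
  have h4 : z = (g⁻¹ * x₀ * g) ^ i := by
    have h5 : (g⁻¹ * x₀ * g) ^ i = g⁻¹ * x₀ ^ i * g := by
      have h6 := conj_zpow (a := g⁻¹) (b := x₀) (i := i)
      rw [inv_inv] at h6
      exact h6
    rw [h5, hi]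
    group
  rw [h4]
  exact zpow_mem hx₀' i

end Cfsg.Agent.Helper73
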