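/-
helper73: CALL BG36 (helper2, row S1436), piece T4 (double): `bg36_step1`.
-/
import Cfsg.Agent.S1432
import Cfsg.Agent.Helper54.BG14T4

set_option autoImplicit false

namespace Cfsg.Agent.Helper73

open Cfsg Subgroup

universe u

variable {G : Type u} [Group G] [Finite G]

/-- PIECE T4 (step 1): an element `z ∈ M` of order `q` acts fixed-point-freely on `M_σ`
(else S1432 + `κ(M) = ∅` make `M` the only maximal subgroup over `C_G(z)`, but
`g⁻¹ N g ⊇ C_G(z)` and `σ(g⁻¹ N g) = σ(N) ∋ q ∉ σ(M)`). -/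
theorem bg36_step1 (hG : IsMinSimpleOddOrder G) {M N : Subgroup G} (hM : IsCoatom M)
    (hN : IsCoatom N) (hκ : kappa M = ∅) {q : ℕ} (hq : q ∈ sigma N) (hqσ : q ∉ sigma M)
    {z g : G} (hzM : z ∈ M) (hzq : orderOf z = q)
    (hgC : centralizer ({g * z * g⁻¹} : Set G) ≤ N) :
    sigmaCore M ⊓ centralizer ({z} : Set G) = ⊥ := by
  rw [eq_bot_iff]
  intro y hy
  rw [Subgroup.mem_bot]
  by_contra hy1
  have hz1 : z ≠ 1 := by
    intro h
    rw [h, orderOf_one] at hzq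
    exact hq.1.one_lt.ne hzq
  have hyz : z * y = y * z := Cfsg.Agent.Helper54.bg14t_mem_cent.mp hy.2
  have hzC : z ∈ M ⊓ centralizer ({y} : Set G) :=
    ⟨hzM, Cfsg.Agent.Helper54.bg14t_mem_cent.mpr hyz.symm⟩
  have hσ : ∀ p : ℕ, p.Prime → p ∣ orderOf z → p ∉ sigma M := by
    intro p hp hpd
    rw [hzq] at hpd
    have hpq : p = q := (Nat.prime_dvd_prime_iff_eq hp hq.1).mp hpd
    rw [hpq]; exact hqσ
  rcases Cfsg.Agent.S1432.result hG M hM y hy.1 hy1 z hzC hz1 hσ with h1 | h2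
  · have hqκ : q ∈ kappa M := h1.1 q hq.1 (by rw [hzq])
    rw [hκ] at hqκ
    exact hqκ
  · obtain ⟨-, -, -, huniq⟩ := h2
    have hN' : IsCoatom (N.map (MulAut.conj g⁻¹).toMonoidHom) :=
      Cfsg.Agent.Helper47.isCoatom_map_conj hN g⁻¹
    have hle : centralizer ({z} : Set G) ≤ N.map (MulAut.conj g⁻¹).toMonoidHom := by
      intro c hc
      rw [Cfsg.Agent.Helper54.bg14t_mem_map_conj, inv_inv]
      apply hgC
      rw [Cfsg.Agent.Helper54.bg14t_mem_cent_conj]
      have e : g⁻¹ * (g * c * g⁻¹) * g = c := by group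
      rw [e]
      exact hc
    have hEq := huniq _ hN' hle
    have hσeq : sigma (N.map (MulAut.conj g⁻¹).toMonoidHom) = sigma N :=
      Cfsg.Agent.Helper54.bg14t_sigma_conj N g⁻¹
    rw [hEq] at hσeq
    exact hqσ (hσeq ▸ hq)

end Cfsg.Agent.Helper73
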