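/-
helper73: CALL BG36 (helper2, row S1436), piece T5 (double): `bg36_step2`.
-/
import Cfsg.Agent.S1355
import Cfsg.Agent.Helper22.Generation
import Cfsg.Agent.Helper23.Trans

set_option autoImplicit false

namespace Cfsg.Agent.Helper73

open Cfsg Subgroup

universe u

/-- Proving a `p`-rank bound of a subgroup through subgroups of the ambient group. -/
theorem bg36t5_prank_intro {X : Type u} [Group X] {H : Subgroup X} {s k : ℕ}
    (hr : ∀ A : Subgroup X, A ≤ H → (∀ a ∈ A, ∀ b ∈ A, a * b = b * a) → (∀ a ∈ A, a ^ s = 1) →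
      Nat.card A ≤ s ^ k) : PRankLE s k ↥H := by
  intro B hBc hBe
  have hcard : Nat.card ↥(B.map H.subtype) = Nat.card ↥B :=
    Subgroup.card_map_of_injective H.subtype_injective
  rw [← hcard]
  refine hr (B.map H.subtype) (Subgroup.map_subtype_le B) ?_ ?_
  · rintro _ ⟨a, ha, rfl⟩ _ ⟨b, hb, rfl⟩
    have h1 := hBc.is_comm.comm ⟨a, ha⟩ ⟨b, hb⟩
    have h2 : a * b = b * a := congrArg Subtype.val h1
    have h3 : ((a * b : ↥H) : X) = ((b * a : ↥H) : X) := congrArg Subtype.val h2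
    simpa using h3
  · rintro _ ⟨a, ha, rfl⟩
    have h1 := hBe a ha
    have h2 : ((a ^ s : ↥H) : X) = ((1 : ↥H) : X) := congrArg Subtype.val h1
    simpa using h2

variable {G : Type u} [Group G] [Finite G]

/-- PIECE T5 (step 2): if `q ∈ τ₂(M)`, take commuting `a, b ∈ M` of order `q` with `b ∉ ⟨a⟩` (from
`¬ PRankLE q 1 M`); `X = M_σ ≠ 1` (S1355) is solvable, `q ∤ |X|`, normalized by `a, b`; then
`Helper22.le_of_centralizer_le_of_commuting` (file Helper22/Generation.lean) with `S = ⊥` and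
`hreg` for `a` and the `a ^ k * b` gives `M_σ ≤ ⊥`. -/
theorem bg36_step2 (hG : IsMinSimpleOddOrder G) {M : Subgroup G} (hM : IsCoatom M) {q : ℕ}
    (hqσ : q ∉ sigma M)
    (hreg : ∀ z ∈ M, orderOf z = q → sigmaCore M ⊓ centralizer ({z} : Set G) = ⊥) :
    q ∉ tau2 M := by
  rintro ⟨hqp, -, -, hr1⟩
  have hF : Fact q.Prime := ⟨hqp⟩
  apply hr1
  apply bg36t5_prank_intro
  intro B hBM hBc hBe
  rw [pow_one]
  by_contra hlt
  have hlt' : q < Nat.card ↥B := not_le.mp hlt
  have hBne : B ≠ ⊥ := by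
    intro h
    rw [h, Subgroup.card_bot] at hlt'
    have := hqp.one_lt
    omega
  obtain ⟨⟨a, haB⟩, ha1'⟩ := Subgroup.ne_bot_iff_exists_ne_one.mp hBne
  have ha1 : a ≠ 1 := fun h => ha1' (Subtype.ext h)
  have haq : a ^ q = 1 := hBe a haB
  have hoa : orderOf a = q := orderOf_eq_prime haq ha1
  have hex : ∃ b ∈ B, b ∉ Subgroup.zpowers a := by
    by_contra hno
    have hBz : B ≤ Subgroup.zpowers a := fun b hb => by
      by_contra hb'
      exact hno ⟨b, hb, hb'⟩
    have h1 : Nat.card ↥B ≤ Nat.card ↥(Subgroup.zpowers a) := Subgroup.card_le_of_le hBz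
    rw [Nat.card_zpowers, hoa] at h1
    omega
  obtain ⟨b, hbB, hbz⟩ := hex
  have hab : a * b = b * a := hBc a haB b hbB
  have hbq : b ^ q = 1 := hBe b hbB
  have haM : a ∈ M := hBM haB
  have hbM : b ∈ M := hBM hbB
  have hord : ∀ k : ℕ, orderOf (a ^ k * b) = q := by
    intro k
    have hc : Commute (a ^ k) b := (show Commute a b from hab).pow_left k
    have h1 : (a ^ k * b) ^ q = 1 := by
      rw [hc.mul_pow, ← pow_mul, mul_comm k q, pow_mul, haq, one_pow, hbq, one_mul]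
    have h2 : a ^ k * b ≠ 1 := by
      intro h
      apply hbz
      rw [eq_inv_of_mul_eq_one_right h]
      exact inv_mem (pow_mem (Subgroup.mem_zpowers a) k)
    exact orderOf_eq_prime h1 h2
  have hXM : sigmaCore M ≤ M := Subgroup.map_subtype_le _
  have hXtop : sigmaCore M ≠ ⊤ := fun h => hM.1 (top_le_iff.mp (h ▸ hXM))
  have hsolv : Group.IsSolvable ↥(sigmaCore M) := hG.2.2.2 _ hXtop
  have hqX : ¬ q ∣ Nat.card ↥(sigmaCore M) := fun h =>
    hqσ (Cfsg.Agent.Helper23.mem_of_dvd_card_piCoreOf (sigma M) M hqp h)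
  have hnorm : M ≤ normalizer ((sigmaCore M : Subgroup G) : Set G) :=
    Cfsg.Agent.Helper23.le_normalizer_piCoreOf (sigma M) M
  have hle : sigmaCore M ≤ ⊥ :=
    Cfsg.Agent.Helper22.le_of_centralizer_le_of_commuting q a b hab haq hbq ⊥
      (Nat.card ↥(sigmaCore M)) (sigmaCore M) le_rfl hsolv hqX (hnorm haM) (hnorm hbM)
      (le_of_eq (hreg a haM hoa))
      (fun k => le_of_eq (hreg (a ^ k * b) (mul_mem (pow_mem haM k) hbM) (hord k)))
  obtain ⟨hF1, hF2, -⟩ := Cfsg.Agent.S1355.result hG M hM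
  exact hF1 (le_bot_iff.mp (hF2.trans hle))

end Cfsg.Agent.Helper73
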