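-- helper73 library: piece MZ of helper49's CALL S1351C.
import Cfsg.Agent.Helper49.BGCDefs2

set_option autoImplicit false

namespace Cfsg.Agent.Helper73

open Cfsg Subgroup Cfsg.Agent.Helper49

universe u

variable {G : Type u} [Group G] [Finite G]

/-- MZ. `Z = C_{M_σ}(P) ≠ 1` (prime action at a generator of `P`). -/
theorem starc_Z {M E P : Subgroup G} {p : ℕ} (c : StarCtx M E P p) :
    starZ M E = sigmaCore M ⊓ centralizer (P : Set G) ∧ starZ M E ≠ ⊥ := by
  have hp : p.Prime := c.tau3.1
  have hPcard : Nat.card P = p := c.cardP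
  have : Fact p.Prime := ⟨hp⟩
  have hcyc : IsCyclic ↥P := isCyclic_of_prime_card hPcard
  obtain ⟨⟨y, hyP⟩, hy⟩ := hcyc.exists_generator
  have hy1 : y ≠ 1 := by
    rintro rfl
    have hsub : Subsingleton ↥P := ⟨fun a b => by
      have ha := hy a
      have hb := hy b
      rw [Subgroup.mem_zpowers_iff] at ha hb
      obtain ⟨i, hi⟩ := ha
      obtain ⟨j, hj⟩ := hb
      rw [← hi, ← hj]
      have h1 : (⟨1, hyP⟩ : ↥P) = 1 := rfl
      rw [h1, one_zpow, one_zpow]⟩
    have h1 : Nat.card P = 1 := Nat.card_unique
    rw [hPcard] at h1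
    exact hp.one_lt.ne' h1
  have hcent : centralizer (P : Set G) = centralizer ({y} : Set G) := by
    apply le_antisymm
    · exact centralizer_le (Set.singleton_subset_iff.mpr hyP)
    · intro g hg
      rw [mem_centralizer_iff] at hg ⊢
      intro x hx
      have hx' := hy ⟨x, hx⟩
      rw [Subgroup.mem_zpowers_iff] at hx'
      obtain ⟨i, hi⟩ := hx'
      have hx'' : x = y ^ i := by
        have := congrArg Subtype.val hi
        simpa using this.symm
      have hgy : Commute y g := hg y (Set.mem_singleton y)
      rw [hx'']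
      exact (hgy.zpow_left i).eq
  have hpa := c.prime_act y (c.PE hyP) hy1
  constructor
  · unfold starZ
    rw [hcent, hpa]
  · unfold starZ
    rw [← hpa, ← hcent]
    exact c.nonreg

end Cfsg.Agent.Helper73
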