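import Mathlib
import Cfsg.Prelude.Def_Characters
import Cfsg.Prelude.Def_Blocks
import Cfsg.Agent.Helper73.PRegular
import Cfsg.Agent.Helper77.ClassSum
import Cfsg.Agent.Helper77.Defect
import Cfsg.Agent.Helper79.Codegree
import Cfsg.Agent.Helper76.CharInt

/-!
# Divisibility of the coefficients of `p`-regular truncations (helper73)

For irreducible characters `χ`, `ψ` of `G`, with `p^a` the `p`-part of `|G|` and `χ̃` equal to
`p^a χ` on `p`-regular elements and `0` elsewhere:

* `pRegular_classInner_dvd`: the integer `[χ̃, ψ]` is divisible by the `p`-part of `χ(1)`;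
* `pRegular_div_mem_genSpanZ`: `p^(a-b) χ` on `p`-regular elements (`p^b` the `p`-part of `χ(1)`)
  is a generalized character;
* `one_eq_of_vanish_pSingular`: a generalized character vanishing on the `p`-singular elements
  has degree divisible by `p^a`.

Everything is in `namespace Cfsg.Agent.Helper73`.
-/

set_option autoImplicit false

namespace Cfsg.Agent.Helper73

open scoped ComplexConjugate

/-- If an integer is a natural number times an algebraic integer, the natural number divides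
it. -/
theorem int_dvd_of_cast_eq_mul_isIntegral (k : ℤ) (d : ℕ) (hd : d ≠ 0) (w : ℂ)
    (hw : IsIntegral ℤ w) (h : (k : ℂ) = (d : ℂ) * w) : (d : ℤ) ∣ k := by
  rw [Int.natCast_dvd]
  rcases Int.natAbs_eq k with hk | hk
  · apply Cfsg.Agent.Helper76.dvd_of_natCast_eq_mul_isIntegral k.natAbs d hd w hw
    rw [← h]
    conv_rhs => rw [hk]
    simp
  · apply Cfsg.Agent.Helper76.dvd_of_natCast_eq_mul_isIntegral k.natAbs d hd (-w) hw.neg
    rw [mul_neg, ← h]
    conv_rhs => rw [hk]
    simp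

section PRegularDeg

universe u

variable {G : Type u} [Group G] [Fintype G]

/-- The inner product of the `p`-regular truncation of `χ` with `ψ`, multiplied by the
`p'`-part of the group order, is `χ(1)` times an algebraic integer. -/
theorem pRegular_classInner_eq {p : ℕ} (χ ψ : Cfsg.IrrCharacter G) (Θ : G → ℂ)
    (h1 : ∀ x, ¬ p ∣ orderOf x →
      Θ x = ((p ^ (Nat.card G).factorization p : ℕ) : ℂ) * (χ : G → ℂ) x)
    (h0 : ∀ x, p ∣ orderOf x → Θ x = 0) :
    ∃ w : ℂ, IsIntegral ℤ w ∧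
      ((Nat.card G / p ^ (Nat.card G).factorization p : ℕ) : ℂ) * Cfsg.classInner Θ ψ =
        (Cfsg.charDegree (χ : G → ℂ) : ℂ) * w := by
  classical
  have : Fintype (ConjClasses G) := Fintype.ofFinite _
  obtain ⟨F, hF⟩ : ∃ F : G → ℂ, F = fun g => if p ∣ orderOf g then 0 else conj ((ψ : G → ℂ) g) :=
    ⟨_, rfl⟩
  have hFc : Cfsg.IsClassFunction G F := by
    intro g h
    have hord : orderOf (h * g * h⁻¹) = orderOf g := by
      have := (MulAut.conj h).orderOf_eq g
      rwa [MulAut.conj_apply] at this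
    rw [hF]
    simp only [hord, Cfsg.Agent.Helper81.irr_conj ψ g h]
  have hFint : ∀ g, IsIntegral ℤ (F g) := by
    intro g
    rw [hF]
    simp only
    split_ifs
    · exact isIntegral_zero
    · rw [← Cfsg.Agent.Helper77.irr_inv]
      exact Cfsg.Agent.Helper77.irr_isIntegral ψ g⁻¹
  refine ⟨Cfsg.Agent.Helper81.omega (χ : G → ℂ) F, ?_, ?_⟩
  · rw [Cfsg.Agent.Helper77.omega_eq_sum_conjClasses χ hFc]
    apply IsIntegral.sum
    intro c _
    exact (hFint _).mul (Cfsg.Agent.Helper81.centralChar_isIntegral χ _)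
  · have hcard : (Nat.card G : ℂ) = ((p ^ (Nat.card G).factorization p : ℕ) : ℂ) *
        ((Nat.card G / p ^ (Nat.card G).factorization p : ℕ) : ℂ) := by
      rw [← Nat.cast_mul, Nat.ordProj_mul_ordCompl_eq_self]
    have hG0 : (Nat.card G : ℂ) ≠ 0 := by exact_mod_cast Nat.card_pos.ne'
    have hp0 : ((p ^ (Nat.card G).factorization p : ℕ) : ℂ) ≠ 0 := by
      intro h
      rw [h, zero_mul] at hcard
      exact hG0 hcard
    have hχ1 : (χ : G → ℂ) 1 ≠ 0 := Cfsg.Agent.Helper81.irr_one_ne_zero χ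
    have hm0 : ((Nat.card G / p ^ (Nat.card G).factorization p : ℕ) : ℂ) ≠ 0 := by
      intro h
      rw [h, mul_zero] at hcard
      exact hG0 hcard
    have hsum : ∑ g : G, Θ g * conj ((ψ : G → ℂ) g) =
        ((p ^ (Nat.card G).factorization p : ℕ) : ℂ) * ∑ g : G, F g * (χ : G → ℂ) g := by
      rw [Finset.mul_sum]
      refine Finset.sum_congr rfl ?_
      intro g _
      rw [hF]
      simp only
      by_cases hd : p ∣ orderOf g
      · rw [h0 g hd, if_pos hd]
        ring
      · rw [h1 g hd, if_neg hd]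
        ring
    unfold Cfsg.classInner
    rw [hsum, Cfsg.Agent.Helper81.omega, ← Cfsg.Agent.Helper81.irr_one_eq_charDegree, hcard]
    field_simp

/-- The integer `[χ̃, ψ]` is divisible by the `p`-part of `χ(1)`. -/
theorem pRegular_classInner_dvd {p : ℕ} (hp : p.Prime) (χ ψ : Cfsg.IrrCharacter G) (Θ : G → ℂ)
    (h1 : ∀ x, ¬ p ∣ orderOf x →
      Θ x = ((p ^ (Nat.card G).factorization p : ℕ) : ℂ) * (χ : G → ℂ) x)
    (h0 : ∀ x, p ∣ orderOf x → Θ x = 0) :
    ∃ n : ℤ, Cfsg.classInner Θ ψ =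
      ((p ^ (Cfsg.charDegree (χ : G → ℂ)).factorization p : ℕ) : ℂ) * (n : ℂ) := by
  have hmem := pRegular_mem_genSpanZ hp
    (isCharacter_mem_genSpanZ (Cfsg.Agent.Helper79.irr_isCharacter χ)) Θ h1 h0
  obtain ⟨k, hk⟩ := classInner_int_of_mem_genSpanZ hmem ψ
  obtain ⟨w, hw, hweq⟩ := pRegular_classInner_eq χ ψ Θ h1 h0
  have hd0 : Cfsg.charDegree (χ : G → ℂ) ≠ 0 := (Cfsg.Agent.Helper81.charDegree_pos χ).ne'
  have hcopN : Nat.Coprime (p ^ (Cfsg.charDegree (χ : G → ℂ)).factorization p)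
      (Nat.card G / p ^ (Nat.card G).factorization p) :=
    Nat.Coprime.pow_left _ (Nat.coprime_ordCompl hp Nat.card_pos.ne')
  obtain ⟨m, hm⟩ : ∃ m : ℕ, m = Nat.card G / p ^ (Nat.card G).factorization p := ⟨_, rfl⟩
  rw [← hm] at hweq hcopN
  have hdvd : (Cfsg.charDegree (χ : G → ℂ) : ℤ) ∣ (m : ℤ) * k := by
    apply int_dvd_of_cast_eq_mul_isIntegral _ _ hd0 w hw
    rw [← hweq, hk]
    push_cast
    ring
  have hpb : ((p ^ (Cfsg.charDegree (χ : G → ℂ)).factorization p : ℕ) : ℤ) ∣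
      (Cfsg.charDegree (χ : G → ℂ) : ℤ) :=
    Int.natCast_dvd_natCast.mpr (Nat.ordProj_dvd _ _)
  have hcop : IsCoprime ((p ^ (Cfsg.charDegree (χ : G → ℂ)).factorization p : ℕ) : ℤ)
      (m : ℤ) := by
    rw [Nat.isCoprime_iff_coprime]
    exact hcopN
  obtain ⟨n, hn⟩ := hcop.dvd_of_dvd_mul_left (hpb.trans hdvd)
  refine ⟨n, ?_⟩
  rw [hk, hn]
  push_cast
  ring

/-- With `p^a` the `p`-part of `|G|` and `p^b` the `p`-part of `χ(1)`, the function equal to
`p^(a-b) χ` on the `p`-regular elements and `0` elsewhere is a generalized character. -/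
theorem pRegular_div_mem_genSpanZ {p : ℕ} (hp : p.Prime) (χ : Cfsg.IrrCharacter G) (Θ : G → ℂ)
    (h1 : ∀ x, ¬ p ∣ orderOf x → Θ x = ((p ^ ((Nat.card G).factorization p -
      (Cfsg.charDegree (χ : G → ℂ)).factorization p) : ℕ) : ℂ) * (χ : G → ℂ) x)
    (h0 : ∀ x, p ∣ orderOf x → Θ x = 0) : Θ ∈ genSpanZ G := by
  classical
  have hd0 : Cfsg.charDegree (χ : G → ℂ) ≠ 0 := (Cfsg.Agent.Helper81.charDegree_pos χ).ne'
  have hba : (Cfsg.charDegree (χ : G → ℂ)).factorization p ≤ (Nat.card G).factorization p := by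
    rw [← Nat.Prime.pow_dvd_iff_le_factorization hp Nat.card_pos.ne']
    exact (Nat.ordProj_dvd _ _).trans (Cfsg.Agent.Helper79.irr_charDegree_dvd_card χ)
  have hpb0 : ((p ^ (Cfsg.charDegree (χ : G → ℂ)).factorization p : ℕ) : ℂ) ≠ 0 := by
    exact_mod_cast (pow_pos hp.pos _).ne'
  apply mem_genSpanZ_of_classInner_int
    (pRegular_isClassFunction (Cfsg.Agent.Helper81.irr_isClassFunction χ) _ h1 h0)
  intro ψ
  obtain ⟨n, hn⟩ := pRegular_classInner_dvd hp χ ψ
    (((p ^ (Cfsg.charDegree (χ : G → ℂ)).factorization p : ℕ) : ℂ) • Θ)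
    (by
      intro x hx
      rw [Pi.smul_apply, smul_eq_mul, h1 x hx, ← mul_assoc, ← Nat.cast_mul, ← pow_add,
        Nat.add_sub_cancel' hba])
    (by
      intro x hx
      rw [Pi.smul_apply, smul_eq_mul, h0 x hx, mul_zero])
  rw [Cfsg.Agent.Helper15.classInner_smul_left] at hn
  exact ⟨n, mul_left_cancel₀ hpb0 hn⟩

/-- A generalized character vanishing on the `p`-singular elements has degree divisible by the
`p`-part of the group order. -/
theorem one_eq_of_vanish_pSingular {p : ℕ} (hp : p.Prime) {θ : G → ℂ} (hθ : θ ∈ genSpanZ G)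
    (h0 : ∀ x, p ∣ orderOf x → θ x = 0) :
    ∃ n : ℤ, θ 1 = ((p ^ (Nat.card G).factorization p : ℕ) : ℂ) * (n : ℂ) := by
  classical
  have hpf : Fact p.Prime := ⟨hp⟩
  obtain ⟨P⟩ : Nonempty (Sylow p G) := inferInstance
  have : Fintype (P : Subgroup G) := Fintype.ofFinite _
  have hres := restrict_mem_genSpanZ hθ (P : Subgroup G)
  obtain ⟨n, hn⟩ := classInner_int_of_mem_genSpanZ hres (Cfsg.Agent.Helper79.trivIrr (P : Subgroup G))
  refine ⟨n, ?_⟩
  have hsum : ∑ h : (P : Subgroup G),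
      θ h * conj ((Cfsg.Agent.Helper79.trivIrr (P : Subgroup G)).1 h) = θ 1 := by
    rw [Finset.sum_eq_single (1 : (P : Subgroup G))]
    · simp [Cfsg.Agent.Helper79.trivIrr]
    · intro h _ hne
      have hdvd : p ∣ orderOf (h : G) := by
        obtain ⟨k, hk⟩ := (IsPGroup.iff_orderOf.mp P.2) h
        rw [Subgroup.orderOf_coe, hk]
        have hk0 : k ≠ 0 := by
          rintro rfl
          rw [pow_zero, orderOf_eq_one_iff] at hk
          exact hne hk
        exact dvd_pow_self p hk0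
      rw [h0 _ hdvd, zero_mul]
    · intro h
      exact absurd (Finset.mem_univ _) h
  unfold Cfsg.classInner at hn
  rw [hsum, Sylow.card_eq_multiplicity] at hn
  have hp0 : ((p ^ (Nat.card G).factorization p : ℕ) : ℂ) ≠ 0 := by
    exact_mod_cast (pow_pos hp.pos _).ne'
  rw [← hn]
  field_simp

end PRegularDeg

end Cfsg.Agent.Helper73
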