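import Mathlib
import Cfsg.Prelude.Def_Characters
import Cfsg.Prelude.Def_Blocks
import Cfsg.Prelude.Def_BlockRank
import Cfsg.Agent.Helper73.PRegularDeg
import Cfsg.Agent.Helper77.PRegular

/-!
# Integer spans of blocks and `p`-regular truncation (helper73)

* `blockSpanZ B`: the generalized characters all of whose irreducible constituents lie in `B`.
* `mem_blockSpanZ_iff_exists`: the `∑ᶠ ψ ∈ B` form.
* `pRegular_mem_blockSpanZ`: for `ψ` in the `p`-block `B` of defect `d`, `p^d ψ` on the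
  `p`-regular elements (and `0` elsewhere) lies in `blockSpanZ B`.

Everything is in `namespace Cfsg.Agent.Helper73`.
-/

set_option autoImplicit false

namespace Cfsg.Agent.Helper73

open scoped ComplexConjugate

section BlockSpan

universe u

variable {G : Type u} [Group G] [Fintype G]

/-- The generalized characters all of whose irreducible constituents lie in `B`. -/
noncomputable def blockSpanZ (B : Set (Cfsg.IrrCharacter G)) : Submodule ℤ (G → ℂ) where
  carrier := {θ | θ ∈ genSpanZ G ∧ ∀ ξ : Cfsg.IrrCharacter G, ξ ∉ B → Cfsg.classInner θ ξ = 0}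
  add_mem' := by
    rintro a b ⟨ha, ha0⟩ ⟨hb, hb0⟩
    refine ⟨add_mem ha hb, fun ξ hξ => ?_⟩
    rw [Cfsg.Agent.Helper15.classInner_add_left, ha0 ξ hξ, hb0 ξ hξ, add_zero]
  zero_mem' := ⟨zero_mem _, fun ξ _ => Cfsg.Agent.Helper15.classInner_zero_left _⟩
  smul_mem' := by
    rintro n a ⟨ha, ha0⟩
    refine ⟨Submodule.smul_mem _ n ha, fun ξ hξ => ?_⟩
    have : n • a = (n : ℂ) • a := by rw [Int.cast_smul_eq_zsmul]
    rw [this, Cfsg.Agent.Helper15.classInner_smul_left, ha0 ξ hξ, mul_zero]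

theorem mem_blockSpanZ {B : Set (Cfsg.IrrCharacter G)} {θ : G → ℂ} :
    θ ∈ blockSpanZ B ↔ θ ∈ genSpanZ G ∧
      ∀ ξ : Cfsg.IrrCharacter G, ξ ∉ B → Cfsg.classInner θ ξ = 0 := Iff.rfl

theorem irr_mem_blockSpanZ {B : Set (Cfsg.IrrCharacter G)} {ψ : Cfsg.IrrCharacter G}
    (hψ : ψ ∈ B) : (ψ : G → ℂ) ∈ blockSpanZ B := by
  classical
  refine ⟨isCharacter_mem_genSpanZ (Cfsg.Agent.Helper79.irr_isCharacter ψ), fun ξ hξ => ?_⟩
  rw [Cfsg.Agent.Helper15.irr_inner, if_neg]
  rintro rfl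
  exact hξ hψ

/-- Membership in the block span, in the `∑ᶠ ψ ∈ B` form used by the statements. -/
theorem mem_blockSpanZ_iff_exists {B : Set (Cfsg.IrrCharacter G)} {θ : G → ℂ} :
    θ ∈ blockSpanZ B ↔ ∃ n : Cfsg.IrrCharacter G → ℤ,
      ∀ g : G, θ g = ∑ᶠ ψ ∈ B, (n ψ : ℂ) * (ψ : G → ℂ) g := by
  classical
  have : Fintype (Cfsg.IrrCharacter G) := Fintype.ofFinite _
  constructor
  · rintro ⟨hθ, hθ0⟩
    have hint := fun ψ => classInner_int_of_mem_genSpanZ hθ ψ
    choose n hn using hint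
    refine ⟨n, fun g => ?_⟩
    have hexp := congrFun (Cfsg.Agent.Helper3.classFunction_eq_sum θ
      (isClassFunction_of_mem_genSpanZ hθ)) g
    rw [Finset.sum_apply] at hexp
    rw [finsum_mem_def, finsum_eq_sum_of_fintype, hexp]
    refine Finset.sum_congr rfl ?_
    intro ψ _
    rw [Pi.smul_apply, smul_eq_mul]
    by_cases hψ : ψ ∈ B
    · rw [Set.indicator_of_mem hψ, hn ψ]
    · rw [Set.indicator_of_notMem hψ, hθ0 ψ hψ, zero_mul]
  · rintro ⟨n, hn⟩
    have hθ : θ = ∑ ψ : Cfsg.IrrCharacter G, if ψ ∈ B then n ψ • (ψ : G → ℂ) else 0 := by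
      funext g
      rw [hn g, finsum_mem_def, finsum_eq_sum_of_fintype, Finset.sum_apply]
      refine Finset.sum_congr rfl ?_
      intro ψ _
      by_cases hψ : ψ ∈ B
      · rw [Set.indicator_of_mem hψ, if_pos hψ]
        simp
      · rw [Set.indicator_of_notMem hψ, if_neg hψ]
        rfl
    rw [hθ]
    apply Submodule.sum_mem
    intro ψ _
    by_cases hψ : ψ ∈ B
    · rw [if_pos hψ]
      exact Submodule.smul_mem _ _ (irr_mem_blockSpanZ hψ)
    · rw [if_neg hψ]
      exact Submodule.zero_mem _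

/-- Block orthogonality on `p`-regular elements, in inner product form: a multiple of the
`p`-regular truncation of a character in `B` is orthogonal to the irreducible characters outside
`B`. -/
theorem classInner_pRegular_eq_zero {p : ℕ} {M : Ideal Cfsg.AlgInt} (hM : Cfsg.IsPModular p M)
    {B : Set (Cfsg.IrrCharacter G)} (hB : Cfsg.IsPBlock M B) {ψ ξ : Cfsg.IrrCharacter G}
    (hψ : ψ ∈ B) (hξ : ξ ∉ B) (c : ℂ) (Θ : G → ℂ)
    (h1 : ∀ x, ¬ p ∣ orderOf x → Θ x = c * (ψ : G → ℂ) x)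
    (h0 : ∀ x, p ∣ orderOf x → Θ x = 0) : Cfsg.classInner Θ ξ = 0 := by
  unfold Cfsg.classInner
  have hsum : ∑ g : G, Θ g * (starRingEnd ℂ) ((ξ : G → ℂ) g) =
      c * Cfsg.Agent.Helper77.pregInner p (ψ : G → ℂ) (ξ : G → ℂ) := by
    unfold Cfsg.Agent.Helper77.pregInner
    rw [Finset.mul_sum]
    refine Finset.sum_congr rfl ?_
    intro g _
    by_cases hd : p ∣ orderOf g
    · rw [h0 g hd]
      simp [hd]
    · rw [h1 g hd]
      simp only [hd, not_false_eq_true, if_true]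
      ring
  have hpz : Cfsg.Agent.Helper77.pregInner p (ψ : G → ℂ) (ξ : G → ℂ) = 0 := by
    rw [← Cfsg.Agent.Helper77.conj_pregInner,
      Cfsg.Agent.Helper77.pregInner_eq_zero hM hB hξ hψ, map_zero]
  rw [hsum, hpz, mul_zero, mul_zero]

/-- For `ψ` in the `p`-block `B` of defect `d`, the function `p^d ψ` on `p`-regular elements
(and `0` elsewhere) is an integer combination of the irreducible characters in `B`. -/
theorem pRegular_mem_blockSpanZ {p : ℕ} (hp : p.Prime) {M : Ideal Cfsg.AlgInt}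
    (hM : Cfsg.IsPModular p M) {B : Set (Cfsg.IrrCharacter G)} (hB : Cfsg.IsPBlock M B)
    {ψ : Cfsg.IrrCharacter G} (hψ : ψ ∈ B) (Θ : G → ℂ)
    (h1 : ∀ x, ¬ p ∣ orderOf x → Θ x = ((p : ℂ) ^ Cfsg.blockDefect p B) * (ψ : G → ℂ) x)
    (h0 : ∀ x, p ∣ orderOf x → Θ x = 0) : Θ ∈ blockSpanZ B := by
  classical
  refine ⟨?_, fun ξ hξ => classInner_pRegular_eq_zero hM hB hψ hξ _ Θ h1 h0⟩
  obtain ⟨e, he⟩ : ∃ e : ℕ, e = (Nat.card G).factorization p -
      (Cfsg.charDegree (ψ : G → ℂ)).factorization p := ⟨_, rfl⟩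
  have hle : e ≤ Cfsg.blockDefect p B := by
    rw [he]
    unfold Cfsg.blockDefect
    apply Nat.sub_le_sub_left
    exact Nat.sInf_le ⟨ψ, hψ, rfl⟩
  obtain ⟨Θ', hΘ'⟩ : ∃ Θ' : G → ℂ, Θ' = fun x => if p ∣ orderOf x then 0 else
      ((p ^ e : ℕ) : ℂ) * (ψ : G → ℂ) x := ⟨_, rfl⟩
  have hΘ'mem : Θ' ∈ genSpanZ G := by
    apply pRegular_div_mem_genSpanZ hp ψ
    · intro x hx
      rw [hΘ', he]
      simp only [if_neg hx]
    · intro x hx
      rw [hΘ']
      simp only [if_pos hx]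
  have hΘ : Θ = (p ^ (Cfsg.blockDefect p B - e)) • Θ' := by
    funext x
    rw [Pi.smul_apply, hΘ', nsmul_eq_mul]
    by_cases hd : p ∣ orderOf x
    · rw [h0 x hd]
      simp [hd]
    · rw [h1 x hd]
      simp only [if_neg hd]
      have : (p : ℂ) ^ Cfsg.blockDefect p B =
          (p : ℂ) ^ (Cfsg.blockDefect p B - e) * (p : ℂ) ^ e := by
        rw [← pow_add, Nat.sub_add_cancel hle]
      rw [this]
      push_cast
      ring
  rw [hΘ]
  exact nsmul_mem hΘ'mem _

end BlockSpan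

end Cfsg.Agent.Helper73
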