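import Cfsg.Agent.Helper73.HeightZero

/-!
# Brauer–Feit bounds from the height zero theorem

`pregScal p c χ` is `c χ` on `p`-regular elements and `0` elsewhere.

* `sum_sq_classInner_pregScal`, `four_mul_sum_erase_sq_le`: if `k χ°` has integer multiplicities
  `m ψ` then `∑ m ψ ^ 2 = k * m χ`, hence `4 * ∑_{ψ ≠ χ} m ψ ^ 2 ≤ k ^ 2`.
* `exists_mult_of_height_zero`: for `χ₀ ∈ B` of height zero the multiplicities `m ψ` of
  `p^d χ₀°` are integers, zero outside `B`, nonzero on `B` with `ν_p (m ψ) = height ψ`.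
* `brauer_feit`: `4 k(B) ≤ p^(2d) + 4`; `brauer_feit_weighted`.
* `height_add_two_le`: a character of positive height has height `≤ d - 2`.
* `two_mul_card_le`: if `B` has a character of positive height, `2 k(B) ≤ p^(2d-2)`.
-/

set_option autoImplicit false
open Cfsg
open scoped ComplexConjugate

namespace Cfsg.Agent.Helper73

universe u

section bf

variable {G : Type u} [Group G] [Fintype G]

/-- `c χ` on the `p`-regular elements, zero elsewhere. -/
noncomputable def pregScal (p : ℕ) (c : ℂ) (χ : G → ℂ) : G → ℂ :=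
  fun x => if p ∣ orderOf x then 0 else c * χ x

omit [Fintype G] in
theorem pregScal_isClassFunction (p : ℕ) (c : ℂ) {χ : G → ℂ} (hχ : Cfsg.IsClassFunction G χ) :
    Cfsg.IsClassFunction G (pregScal p c χ) :=
  pRegular_isClassFunction (p := p) hχ c (fun x hx => by simp [pregScal, hx])
    (fun x hx => by simp [pregScal, hx])

theorem classInner_pregScal_mul (p : ℕ) (c c' : ℂ) (χ ψ : G → ℂ) :
    Cfsg.classInner (pregScal p (c * c') χ) ψ = c * Cfsg.classInner (pregScal p c' χ) ψ := by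
  unfold Cfsg.classInner pregScal
  have h : ∑ x : G, (if p ∣ orderOf x then 0 else c * c' * χ x) * conj (ψ x)
      = c * ∑ x : G, (if p ∣ orderOf x then 0 else c' * χ x) * conj (ψ x) := by
    rw [Finset.mul_sum]
    refine Finset.sum_congr rfl fun x _ => ?_
    split_ifs <;> ring
  rw [h]
  ring

omit [Fintype G] in
theorem pregTilde_eq_pregScal (p : ℕ) (χ : G → ℂ) :
    pregTilde p χ = pregScal p ((p ^ (Nat.card G).factorization p : ℕ) : ℂ) χ := rfl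

theorem classInner_pregScal_self (p : ℕ) (k : ℕ) (χ : G → ℂ) :
    Cfsg.classInner (pregScal p (k : ℂ) χ) (pregScal p (k : ℂ) χ)
      = (k : ℂ) * Cfsg.classInner (pregScal p (k : ℂ) χ) χ := by
  unfold Cfsg.classInner pregScal
  have h : ∑ x : G, (if p ∣ orderOf x then 0 else (k : ℂ) * χ x)
        * conj (if p ∣ orderOf x then 0 else (k : ℂ) * χ x)
      = (k : ℂ) * ∑ x : G, (if p ∣ orderOf x then 0 else (k : ℂ) * χ x) * conj (χ x) := by
    rw [Finset.mul_sum]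
    refine Finset.sum_congr rfl fun x _ => ?_
    split_ifs
    · simp
    · rw [map_mul, Complex.conj_natCast]
      ring
  rw [h]
  ring

/-- Parseval for `k χ°` with integer multiplicities. -/
theorem sum_sq_classInner_pregScal [Fintype (Cfsg.IrrCharacter G)] (p k : ℕ)
    (χ : Cfsg.IrrCharacter G) (m : Cfsg.IrrCharacter G → ℤ)
    (hm : ∀ ψ : Cfsg.IrrCharacter G,
      Cfsg.classInner (pregScal p (k : ℂ) (χ : G → ℂ)) (ψ : G → ℂ) = (m ψ : ℂ)) :
    ∑ ψ : Cfsg.IrrCharacter G, (m ψ) ^ 2 = (k : ℤ) * m χ := by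
  have hcl := pregScal_isClassFunction p (k : ℂ) (Cfsg.Agent.Helper81.irr_isClassFunction χ)
  have h1 := Cfsg.Agent.Helper15.classInner_eq_sum (θ' := pregScal p (k : ℂ) (χ : G → ℂ)) hcl
  rw [classInner_pregScal_self, hm χ] at h1
  have h2 : ((∑ ψ : Cfsg.IrrCharacter G, (m ψ) ^ 2 : ℤ) : ℂ) = (((k : ℤ) * m χ : ℤ) : ℂ) := by
    push_cast
    rw [h1]
    refine Finset.sum_congr rfl fun ψ _ => ?_
    rw [hm ψ, map_intCast, sq]
  exact_mod_cast h2

theorem four_mul_sum_erase_sq_le [Fintype (Cfsg.IrrCharacter G)]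
    [DecidableEq (Cfsg.IrrCharacter G)] (p k : ℕ)
    (χ : Cfsg.IrrCharacter G) (m : Cfsg.IrrCharacter G → ℤ)
    (hm : ∀ ψ : Cfsg.IrrCharacter G,
      Cfsg.classInner (pregScal p (k : ℂ) (χ : G → ℂ)) (ψ : G → ℂ) = (m ψ : ℂ)) :
    4 * ∑ ψ ∈ Finset.univ.erase χ, (m ψ) ^ 2 ≤ (k : ℤ) ^ 2 := by
  have h := sum_sq_classInner_pregScal p k χ m hm
  rw [← Finset.add_sum_erase _ _ (Finset.mem_univ χ)] at h
  nlinarith [sq_nonneg ((k : ℤ) - 2 * m χ)]

omit [Fintype G] in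
/-- The minimum of the `p`-parts of the degrees in `B` is attained at height zero characters. -/
theorem factorization_eq_sInf_of_height_zero [Finite G] {p : ℕ} {B : Set (Cfsg.IrrCharacter G)}
    {χ : Cfsg.IrrCharacter G} (hχ : χ ∈ B) (h0 : Cfsg.blockHeight p B (χ : G → ℂ) = 0) :
    (Cfsg.charDegree (χ : G → ℂ)).factorization p
      = sInf ((fun ψ : Cfsg.IrrCharacter G =>
          (Cfsg.charDegree (ψ : G → ℂ)).factorization p) '' B) := by
  have h1 : sInf ((fun ψ : Cfsg.IrrCharacter G =>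
      (Cfsg.charDegree (ψ : G → ℂ)).factorization p) '' B)
      ≤ (Cfsg.charDegree (χ : G → ℂ)).factorization p := Nat.sInf_le ⟨χ, hχ, rfl⟩
  unfold Cfsg.blockHeight at h0
  omega

omit [Fintype G] in
/-- `ν_p(ψ 1) = ν_p(χ₀ 1) + height ψ` for `χ₀` of height zero. -/
theorem factorization_eq_add_height [Finite G] {p : ℕ} {B : Set (Cfsg.IrrCharacter G)}
    {χ₀ : Cfsg.IrrCharacter G} (hχ₀ : χ₀ ∈ B) (h0 : Cfsg.blockHeight p B (χ₀ : G → ℂ) = 0)
    {ψ : Cfsg.IrrCharacter G} (hψ : ψ ∈ B) :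
    (Cfsg.charDegree (ψ : G → ℂ)).factorization p
      = (Cfsg.charDegree (χ₀ : G → ℂ)).factorization p + Cfsg.blockHeight p B (ψ : G → ℂ) := by
  have h1 := factorization_eq_sInf_of_height_zero hχ₀ h0
  have h2 : sInf ((fun ψ : Cfsg.IrrCharacter G =>
      (Cfsg.charDegree (ψ : G → ℂ)).factorization p) '' B)
      ≤ (Cfsg.charDegree (ψ : G → ℂ)).factorization p := Nat.sInf_le ⟨ψ, hψ, rfl⟩
  unfold Cfsg.blockHeight
  omega

/-- The multiplicities of `p^d χ₀°` for `χ₀ ∈ B` of height zero. -/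
theorem exists_mult_of_height_zero {p : ℕ} {M : Ideal Cfsg.AlgInt} (hM : Cfsg.IsPModular p M)
    {B : Set (Cfsg.IrrCharacter G)} (hB : Cfsg.IsPBlock M B) {χ₀ : Cfsg.IrrCharacter G}
    (hχ₀ : χ₀ ∈ B) (h0 : Cfsg.blockHeight p B (χ₀ : G → ℂ) = 0) :
    ∃ m : Cfsg.IrrCharacter G → ℤ,
      (∀ ψ : Cfsg.IrrCharacter G, Cfsg.classInner
        (pregScal p ((p ^ Cfsg.blockDefect p B : ℕ) : ℂ) (χ₀ : G → ℂ)) (ψ : G → ℂ) = (m ψ : ℂ)) ∧
      (∀ ψ : Cfsg.IrrCharacter G, ψ ∉ B → m ψ = 0) ∧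
      (∀ ψ : Cfsg.IrrCharacter G, ψ ∈ B →
        m ψ ≠ 0 ∧ padicValInt p (m ψ) = Cfsg.blockHeight p B (ψ : G → ℂ)) := by
  classical
  have hp := hM.1
  have hpf : Fact p.Prime := ⟨hp⟩
  have hmem : pregScal p ((p ^ Cfsg.blockDefect p B : ℕ) : ℂ) (χ₀ : G → ℂ) ∈ blockSpanZ B :=
    pRegular_mem_blockSpanZ hp hM hB hχ₀ _
      (fun x hx => by simp [pregScal, hx]) (fun x hx => by simp [pregScal, hx])
  choose m hm using fun ψ : Cfsg.IrrCharacter G => classInner_int_of_mem_genSpanZ hmem.1 ψ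
  refine ⟨m, hm, fun ψ hψ => ?_, fun ψ hψ => ?_⟩
  · have h1 := hmem.2 ψ hψ
    rw [hm ψ] at h1
    exact_mod_cast h1
  · have hadd := Cfsg.Agent.Helper16.factorization_charDegree_add_blockDefect hχ₀ h0
    obtain ⟨s, hs⟩ : ∃ s, s = (Cfsg.charDegree (χ₀ : G → ℂ)).factorization p := ⟨_, rfl⟩
    have hn : Cfsg.classInner (pregTilde p (χ₀ : G → ℂ)) (ψ : G → ℂ)
        = (((p : ℤ) ^ s * m ψ : ℤ) : ℂ) := by
      rw [pregTilde_eq_pregScal, ← hadd, ← hs, pow_add]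
      push_cast
      rw [classInner_pregScal_mul]
      have := hm ψ
      push_cast at this
      rw [this]
    have h1 := (height_zero_iff_classInner hM hB hχ₀ hψ _ hn).mp h0
    have hm0 : m ψ ≠ 0 := by
      intro h
      apply h1.1
      rw [h, mul_zero]
    refine ⟨hm0, ?_⟩
    have hps : ((p : ℤ) ^ s) ≠ 0 := pow_ne_zero s (by exact_mod_cast hp.ne_zero)
    have h2 := h1.2
    rw [padicValInt.mul hps hm0] at h2
    have h3 : padicValInt p ((p : ℤ) ^ s) = s := by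
      have : ((p : ℤ) ^ s) = ((p ^ s : ℕ) : ℤ) := by push_cast; rfl
      rw [this, padicValInt.of_nat, padicValNat.prime_pow]
    rw [h3] at h2
    have h4 := factorization_eq_add_height hχ₀ h0 hψ
    rw [← hs] at h4
    omega

omit [Fintype G] in
theorem one_le_sq_of_ne_zero {k : ℤ} (hk : k ≠ 0) : (1 : ℤ) ≤ k ^ 2 := by
  have := sq_pos_iff.mpr hk
  omega

omit [Fintype G] in
/-- If `ν_p(k) = h` and `k ≠ 0` then `(p^h)^2 ≤ k^2`. -/
theorem pow_sq_le_sq_of_padicValInt {p : ℕ} (hp : p.Prime) {k : ℤ} (hk : k ≠ 0) {h : ℕ}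
    (hh : padicValInt p k = h) : ((p : ℤ) ^ h) ^ 2 ≤ k ^ 2 := by
  have hpf : Fact p.Prime := ⟨hp⟩
  have hdvd : (p : ℤ) ^ h ∣ k := by
    rw [← hh]
    exact padicValInt_dvd k
  obtain ⟨c, hc⟩ := hdvd
  have hc0 : c ≠ 0 := by
    rintro rfl
    exact hk (by rw [hc, mul_zero])
  have h1 := one_le_sq_of_ne_zero hc0
  rw [hc, mul_pow]
  nlinarith [sq_nonneg ((p : ℤ) ^ h)]

/-- **Brauer–Feit**: `k(B) ≤ p^(2d)/4 + 1`. -/
theorem brauer_feit {p : ℕ} {M : Ideal Cfsg.AlgInt} (hM : Cfsg.IsPModular p M)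
    {B : Set (Cfsg.IrrCharacter G)} (hB : Cfsg.IsPBlock M B) :
    4 * Nat.card B ≤ p ^ (2 * Cfsg.blockDefect p B) + 4 := by
  classical
  have := Fintype.ofFinite (Cfsg.IrrCharacter G)
  obtain ⟨χ₀, hχ₀, h0⟩ := Cfsg.Agent.Helper16.exists_height_zero (p := p) hM.2.1 hB
  obtain ⟨m, hm, -, hmB⟩ := exists_mult_of_height_zero hM hB hχ₀ h0
  have h1 := four_mul_sum_erase_sq_le p (p ^ Cfsg.blockDefect p B) χ₀ m hm
  have hcard : Nat.card B = (Finset.univ.filter (fun ψ => ψ ∈ B)).card :=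
    Nat.subtype_card _ (by simp)
  have h2 : ((Finset.univ.filter (fun ψ => ψ ∈ B)).erase χ₀).card + 1
      = (Finset.univ.filter (fun ψ => ψ ∈ B)).card :=
    Finset.card_erase_add_one (by simp [hχ₀])
  have h3 : ((((Finset.univ.filter (fun ψ => ψ ∈ B)).erase χ₀).card : ℕ) : ℤ)
      ≤ ∑ ψ ∈ Finset.univ.erase χ₀, (m ψ) ^ 2 := by
    calc ((((Finset.univ.filter (fun ψ => ψ ∈ B)).erase χ₀).card : ℕ) : ℤ)
        = ∑ ψ ∈ (Finset.univ.filter (fun ψ => ψ ∈ B)).erase χ₀, (1 : ℤ) := by simp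
      _ ≤ ∑ ψ ∈ (Finset.univ.filter (fun ψ => ψ ∈ B)).erase χ₀, (m ψ) ^ 2 := by
          refine Finset.sum_le_sum fun ψ hψ => ?_
          have hψB : ψ ∈ B := by
            have := Finset.mem_of_mem_erase hψ
            simpa using this
          exact one_le_sq_of_ne_zero (hmB ψ hψB).1
      _ ≤ ∑ ψ ∈ Finset.univ.erase χ₀, (m ψ) ^ 2 :=
          Finset.sum_le_sum_of_subset_of_nonneg
            (Finset.erase_subset_erase _ (Finset.filter_subset _ _)) (fun _ _ _ => sq_nonneg _)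
  have h4 : ((4 * Nat.card B : ℕ) : ℤ) ≤ ((p ^ (2 * Cfsg.blockDefect p B) + 4 : ℕ) : ℤ) := by
    rw [hcard, ← h2]
    push_cast
    push_cast at h1
    have h5 : ((p : ℤ) ^ Cfsg.blockDefect p B) ^ 2 = (p : ℤ) ^ (2 * Cfsg.blockDefect p B) := by
      rw [← pow_mul, mul_comm]
    rw [h5] at h1
    linarith
  exact_mod_cast h4

/-- **Brauer–Feit, weighted form**: `∑_{χ ∈ B} p^(2 ht χ) ≤ p^(2d)/4 + 1`. -/
theorem brauer_feit_weighted {p : ℕ} {M : Ideal Cfsg.AlgInt} (hM : Cfsg.IsPModular p M)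
    {B : Set (Cfsg.IrrCharacter G)} (hB : Cfsg.IsPBlock M B)
    [Fintype (Cfsg.IrrCharacter G)] [DecidablePred (fun ψ : Cfsg.IrrCharacter G => ψ ∈ B)] :
    ∑ χ ∈ Finset.univ.filter (fun ψ : Cfsg.IrrCharacter G => ψ ∈ B),
        p ^ (2 * Cfsg.blockHeight p B (χ : G → ℂ))
      ≤ p ^ (2 * Cfsg.blockDefect p B) / 4 + 1 := by
  classical
  have hp := hM.1
  obtain ⟨χ₀, hχ₀, h0⟩ := Cfsg.Agent.Helper16.exists_height_zero (p := p) hM.2.1 hB
  obtain ⟨m, hm, -, hmB⟩ := exists_mult_of_height_zero hM hB hχ₀ h0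
  have h1 := four_mul_sum_erase_sq_le p (p ^ Cfsg.blockDefect p B) χ₀ m hm
  have hχ₀F : χ₀ ∈ Finset.univ.filter (fun ψ : Cfsg.IrrCharacter G => ψ ∈ B) := by simp [hχ₀]
  rw [← Finset.add_sum_erase _ _ hχ₀F, h0, mul_zero, pow_zero, add_comm]
  refine Nat.add_le_add_right ?_ 1
  rw [Nat.le_div_iff_mul_le (by norm_num)]
  have h3 : ((∑ ψ ∈ (Finset.univ.filter (fun ψ : Cfsg.IrrCharacter G => ψ ∈ B)).erase χ₀,
      p ^ (2 * Cfsg.blockHeight p B (ψ : G → ℂ)) : ℕ) : ℤ)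
      ≤ ∑ ψ ∈ Finset.univ.erase χ₀, (m ψ) ^ 2 := by
    push_cast
    calc ∑ ψ ∈ (Finset.univ.filter (fun ψ : Cfsg.IrrCharacter G => ψ ∈ B)).erase χ₀,
          (p : ℤ) ^ (2 * Cfsg.blockHeight p B (ψ : G → ℂ))
        ≤ ∑ ψ ∈ (Finset.univ.filter (fun ψ : Cfsg.IrrCharacter G => ψ ∈ B)).erase χ₀,
          (m ψ) ^ 2 := by
          refine Finset.sum_le_sum fun ψ hψ => ?_
          have hψB : ψ ∈ B := by
            have := Finset.mem_of_mem_erase hψ
            simpa using this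
          have := pow_sq_le_sq_of_padicValInt hp (hmB ψ hψB).1 (hmB ψ hψB).2
          rwa [← pow_mul, mul_comm] at this
      _ ≤ ∑ ψ ∈ Finset.univ.erase χ₀, (m ψ) ^ 2 :=
          Finset.sum_le_sum_of_subset_of_nonneg
            (Finset.erase_subset_erase _ (Finset.filter_subset _ _)) (fun _ _ _ => sq_nonneg _)
  have h4 : (((∑ ψ ∈ (Finset.univ.filter (fun ψ : Cfsg.IrrCharacter G => ψ ∈ B)).erase χ₀,
      p ^ (2 * Cfsg.blockHeight p B (ψ : G → ℂ))) * 4 : ℕ) : ℤ)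
      ≤ ((p ^ (2 * Cfsg.blockDefect p B) : ℕ) : ℤ) := by
    push_cast
    push_cast at h1 h3
    have h5 : ((p : ℤ) ^ Cfsg.blockDefect p B) ^ 2 = (p : ℤ) ^ (2 * Cfsg.blockDefect p B) := by
      rw [← pow_mul, mul_comm]
    rw [h5] at h1
    linarith
  exact_mod_cast h4

end bf

end Cfsg.Agent.Helper73
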