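import Cfsg.Agent.Helper73.BrauerFeit

/-!
# Brauer–Feit: heights are at most `d - 2`, and `2 k(B) ≤ p^(2d-2)` in presence of positive height

* `height_add_two_le`: a character of positive height in a block of defect `d` has height `≤ d - 2`.
* `two_mul_card_le`: if `B` has a character of positive height, `2 k(B) ≤ p^(2d-2)`.
-/

set_option autoImplicit false
open Cfsg
open scoped ComplexConjugate

namespace Cfsg.Agent.Helper73

universe u

section bf2

variable {G : Type u} [Group G] [Fintype G]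

omit [Fintype G] in
theorem factorization_charDegree_le_card [Finite G] (p : ℕ) (χ : Cfsg.IrrCharacter G) :
    (Cfsg.charDegree (χ : G → ℂ)).factorization p ≤ (Nat.card G).factorization p := by
  have hd := Cfsg.Agent.Helper81.charDegree_dvd_card χ
  exact (Nat.factorization_le_iff_dvd (Cfsg.Agent.Helper81.charDegree_pos χ).ne'
    Nat.card_pos.ne').mpr hd p

/-- A character of positive height in a block of defect `d` has height at most `d - 2`. -/
theorem height_add_two_le {p : ℕ} {M : Ideal Cfsg.AlgInt} (hM : Cfsg.IsPModular p M)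
    {B : Set (Cfsg.IrrCharacter G)} (hB : Cfsg.IsPBlock M B) {χ : Cfsg.IrrCharacter G}
    (hχ : χ ∈ B) (hpos : 0 < Cfsg.blockHeight p B (χ : G → ℂ)) :
    Cfsg.blockHeight p B (χ : G → ℂ) + 2 ≤ Cfsg.blockDefect p B := by
  classical
  have hp := hM.1
  have hpf : Fact p.Prime := ⟨hp⟩
  obtain ⟨χ₀, hχ₀, h0⟩ := Cfsg.Agent.Helper16.exists_height_zero (p := p) hM.2.1 hB
  obtain ⟨n, hn⟩ := pregTilde_classInner_int hp χ χ
  have hval := classInner_val_iff hM χ χ n hn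
  have hnothz : ¬ (n ≠ 0 ∧ padicValInt p n = (Cfsg.charDegree (χ : G → ℂ)).factorization p) :=
    fun h => hpos.ne' ((height_zero_iff_classInner hM hB hχ hχ n hn).mpr h)
  obtain ⟨a, ha⟩ : ∃ a, a = (Nat.card G).factorization p := ⟨_, rfl⟩
  have hcard := card_mul_classInner_pregTilde p (χ : G → ℂ) (χ : G → ℂ)
  rw [← ha, hn] at hcard
  obtain ⟨R, hRdef⟩ : ∃ R : ℝ,
      R = ∑ x : G, if ¬ p ∣ orderOf x then Complex.normSq ((χ : G → ℂ) x) else 0 := ⟨_, rfl⟩
  have hR : Cfsg.Agent.Helper77.pregInner p (χ : G → ℂ) (χ : G → ℂ) = (R : ℂ) := by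
    rw [hRdef]
    unfold Cfsg.Agent.Helper77.pregInner
    push_cast
    refine Finset.sum_congr rfl fun x _ => ?_
    split_ifs
    · simp
    · rw [Complex.mul_conj]
  have hcardpos : (0 : ℝ) < Nat.card G := by
    have : 0 < Nat.card G := Nat.card_pos
    exact_mod_cast this
  have htot : ∑ x : G, Complex.normSq ((χ : G → ℂ) x) = (Nat.card G : ℝ) := by
    have h1 := Cfsg.Agent.Helper15.irr_inner χ χ
    rw [if_pos rfl] at h1
    unfold Cfsg.classInner at h1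
    have hc : (Nat.card G : ℂ) ≠ 0 := by exact_mod_cast hcardpos.ne'
    have h2 : ∑ g : G, (χ : G → ℂ) g * conj ((χ : G → ℂ) g) = (Nat.card G : ℂ) := by
      field_simp at h1
      rw [h1]
    have h3 : ((∑ x : G, Complex.normSq ((χ : G → ℂ) x) : ℝ) : ℂ) = ((Nat.card G : ℝ) : ℂ) := by
      push_cast
      rw [← h2]
      refine Finset.sum_congr rfl fun x _ => ?_
      rw [Complex.mul_conj]
    exact_mod_cast h3
  have hR0 : 0 < R := by
    rw [hRdef]
    refine Finset.sum_pos' (fun x _ => ?_) ⟨1, Finset.mem_univ _, ?_⟩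
    · split_ifs
      · exact le_refl _
      · exact Complex.normSq_nonneg _
    · have h1 : ¬ p ∣ orderOf (1 : G) := by
        rw [orderOf_one]
        exact hp.one_lt.ne' ∘ Nat.dvd_one.mp
      rw [if_pos h1]
      exact Complex.normSq_pos.mpr (Cfsg.Agent.Helper81.irr_one_ne_zero χ)
  have hne : χ₀ ≠ χ := by
    rintro rfl
    omega
  have hex : ∃ x₀ : G, p ∣ orderOf x₀ ∧ (χ : G → ℂ) x₀ ≠ 0 := by
    by_contra hno
    have hno' : ∀ x : G, p ∣ orderOf x → (χ : G → ℂ) x = 0 := by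
      intro x hx
      by_contra h
      exact hno ⟨x, hx, h⟩
    have hz : Cfsg.classInner (pregTilde p (χ₀ : G → ℂ)) (χ : G → ℂ) = ((0 : ℤ) : ℂ) := by
      have e : Cfsg.classInner (pregTilde p (χ₀ : G → ℂ)) (χ : G → ℂ)
          = ((p ^ (Nat.card G).factorization p : ℕ) : ℂ)
            * Cfsg.classInner (χ₀ : G → ℂ) (χ : G → ℂ) := by
        unfold Cfsg.classInner pregTilde
        have h : ∑ x : G, (if p ∣ orderOf x then (0 : ℂ)
              else ((p ^ (Nat.card G).factorization p : ℕ) : ℂ) * (χ₀ : G → ℂ) x)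
              * conj ((χ : G → ℂ) x)
            = ((p ^ (Nat.card G).factorization p : ℕ) : ℂ)
              * ∑ x : G, (χ₀ : G → ℂ) x * conj ((χ : G → ℂ) x) := by
          rw [Finset.mul_sum]
          refine Finset.sum_congr rfl fun x _ => ?_
          by_cases hx : p ∣ orderOf x
          · rw [if_pos hx, hno' x hx]
            simp
          · rw [if_neg hx]
            ring
        rw [h]
        ring
      rw [e, Cfsg.Agent.Helper15.irr_inner, if_neg hne]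
      simp
    exact absurd rfl ((height_zero_iff_classInner hM hB hχ₀ hχ 0 hz).mp h0).1
  have hRlt : R < Nat.card G := by
    obtain ⟨x₀, hx₀, hx₀ne⟩ := hex
    rw [← htot, hRdef]
    refine Finset.sum_lt_sum (fun x _ => ?_) ⟨x₀, Finset.mem_univ _, ?_⟩
    · split_ifs
      · exact Complex.normSq_nonneg _
      · exact le_refl _
    · rw [if_neg (not_not.mpr hx₀)]
      exact Complex.normSq_pos.mpr hx₀ne
  have hnR : (Nat.card G : ℝ) * (n : ℝ) = ((p ^ a : ℕ) : ℝ) * R := by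
    rw [hR] at hcard
    exact_mod_cast hcard
  have hpa : (0 : ℝ) < ((p ^ a : ℕ) : ℝ) := by
    have : 0 < p ^ a := pow_pos hp.pos a
    exact_mod_cast this
  have hn_pos : 0 < n := by
    have h1 : (0 : ℝ) < (Nat.card G : ℝ) * (n : ℝ) := by rw [hnR]; exact mul_pos hpa hR0
    have h2 : (0 : ℝ) < (n : ℝ) := by
      by_contra hle
      rw [not_lt] at hle
      nlinarith
    exact_mod_cast h2
  have hn_lt : n < (p : ℤ) ^ a := by
    have h1 : (Nat.card G : ℝ) * (n : ℝ) < (Nat.card G : ℝ) * ((p ^ a : ℕ) : ℝ) := by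
      rw [hnR, mul_comm]
      exact mul_lt_mul_of_pos_right hRlt hpa
    have h2 : (n : ℝ) < ((p ^ a : ℕ) : ℝ) := lt_of_mul_lt_mul_left h1 hcardpos.le
    have h3 : (n : ℝ) < (((p : ℤ) ^ a : ℤ) : ℝ) := by
      push_cast
      push_cast at h2
      exact h2
    exact_mod_cast h3
  have hb := hval.1 hn_pos.ne'
  have hbne : padicValInt p n ≠ (Cfsg.charDegree (χ : G → ℂ)).factorization p :=
    fun h => hnothz ⟨hn_pos.ne', h⟩
  have hdvd : (p : ℤ) ^ ((Cfsg.charDegree (χ : G → ℂ)).factorization p + 1) ∣ n :=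
    (padicValInt_dvd_iff _ n).mpr (Or.inr (by omega))
  have hle := Int.le_of_dvd hn_pos hdvd
  have hlt : (p : ℤ) ^ ((Cfsg.charDegree (χ : G → ℂ)).factorization p + 1) < (p : ℤ) ^ a :=
    lt_of_le_of_lt hle hn_lt
  have hp1 : (1 : ℤ) < (p : ℤ) := by exact_mod_cast hp.one_lt
  have hexp := (pow_lt_pow_iff_right₀ hp1).mp hlt
  have hadd := Cfsg.Agent.Helper16.factorization_charDegree_add_blockDefect hχ₀ h0
  have hb' := factorization_eq_add_height hχ₀ h0 hχ
  omega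

/-- If `B` contains a character of positive height then `2 k(B) ≤ p^(2d-2)`. -/
theorem two_mul_card_le {p : ℕ} {M : Ideal Cfsg.AlgInt} (hM : Cfsg.IsPModular p M)
    {B : Set (Cfsg.IrrCharacter G)} (hB : Cfsg.IsPBlock M B)
    (hex : ∃ χ ∈ B, 0 < Cfsg.blockHeight p B (χ : G → ℂ)) :
    2 * Nat.card B ≤ p ^ (2 * Cfsg.blockDefect p B - 2) := by
  classical
  have := Fintype.ofFinite (Cfsg.IrrCharacter G)
  have hp := hM.1
  have hpf : Fact p.Prime := ⟨hp⟩
  obtain ⟨χ₁, hχ₁, hpos⟩ := hex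
  have hd2 := height_add_two_le hM hB hχ₁ hpos
  obtain ⟨χ₀, hχ₀, h0⟩ := Cfsg.Agent.Helper16.exists_height_zero (p := p) hM.2.1 hB
  obtain ⟨m, hm, -, hmB⟩ := exists_mult_of_height_zero hM hB hχ₀ h0
  have h1 := four_mul_sum_erase_sq_le p (p ^ Cfsg.blockDefect p B) χ₀ m hm
  obtain ⟨F, hF⟩ : ∃ F : Finset (Cfsg.IrrCharacter G),
      F = Finset.univ.filter (fun ψ => ψ ∈ B) := ⟨_, rfl⟩
  have hFB : ∀ ψ, ψ ∈ F ↔ ψ ∈ B := by intro ψ; rw [hF]; simp
  have hcard : Nat.card B = F.card := Nat.subtype_card _ hFB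
  have hsplit := Finset.card_filter_add_card_filter_not (s := F)
    (fun ψ : Cfsg.IrrCharacter G => Cfsg.blockHeight p B (ψ : G → ℂ) = 0)
  have hp1 : (1 : ℤ) ≤ (p : ℤ) := by exact_mod_cast hp.one_lt.le
  -- (A) characters of positive height
  have hA : ((F.filter (fun ψ : Cfsg.IrrCharacter G =>
      ¬ Cfsg.blockHeight p B (ψ : G → ℂ) = 0)).card : ℤ) * (p : ℤ) ^ 2
      ≤ ∑ ψ ∈ Finset.univ.erase χ₀, (m ψ) ^ 2 := by
    calc ((F.filter (fun ψ : Cfsg.IrrCharacter G =>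
          ¬ Cfsg.blockHeight p B (ψ : G → ℂ) = 0)).card : ℤ) * (p : ℤ) ^ 2
        = ∑ ψ ∈ F.filter (fun ψ : Cfsg.IrrCharacter G =>
          ¬ Cfsg.blockHeight p B (ψ : G → ℂ) = 0), (p : ℤ) ^ 2 := by
          rw [Finset.sum_const, nsmul_eq_mul]
      _ ≤ ∑ ψ ∈ F.filter (fun ψ : Cfsg.IrrCharacter G =>
          ¬ Cfsg.blockHeight p B (ψ : G → ℂ) = 0), (m ψ) ^ 2 := by
          refine Finset.sum_le_sum fun ψ hψ => ?_
          rw [Finset.mem_filter] at hψ
          have hψB := (hFB ψ).mp hψ.1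
          have h2 := pow_sq_le_sq_of_padicValInt hp (hmB ψ hψB).1 (hmB ψ hψB).2
          have h3 : (p : ℤ) ^ 1 ≤ (p : ℤ) ^ Cfsg.blockHeight p B (ψ : G → ℂ) :=
            pow_le_pow_right₀ hp1 (by omega)
          rw [pow_one] at h3
          have h4 : (p : ℤ) ^ 2 ≤ ((p : ℤ) ^ Cfsg.blockHeight p B (ψ : G → ℂ)) ^ 2 :=
            pow_le_pow_left₀ (by positivity) h3 2
          exact le_trans h4 h2
      _ ≤ ∑ ψ ∈ Finset.univ.erase χ₀, (m ψ) ^ 2 := by
          refine Finset.sum_le_sum_of_subset_of_nonneg ?_ (fun _ _ _ => sq_nonneg _)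
          intro ψ hψ
          rw [Finset.mem_filter] at hψ
          refine Finset.mem_erase.mpr ⟨?_, Finset.mem_univ _⟩
          rintro rfl
          exact hψ.2 h0
  -- (B) characters of height zero
  obtain ⟨a, ha⟩ : ∃ a, a = (Nat.card G).factorization p := ⟨_, rfl⟩
  obtain ⟨b₁, hb₁⟩ : ∃ b₁, b₁ = (Cfsg.charDegree (χ₁ : G → ℂ)).factorization p := ⟨_, rfl⟩
  have hb₁a : b₁ ≤ a := by rw [hb₁, ha]; exact factorization_charDegree_le_card p χ₁
  have hΦ₁ : pregScal p ((p ^ (a - b₁) : ℕ) : ℂ) (χ₁ : G → ℂ) ∈ genSpanZ G :=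
    pRegular_div_mem_genSpanZ hp χ₁ _
      (fun x hx => by simp [pregScal, hx, ha, hb₁]) (fun x hx => by simp [pregScal, hx])
  choose m' hm' using fun ψ : Cfsg.IrrCharacter G => classInner_int_of_mem_genSpanZ hΦ₁ ψ
  have h1' := four_mul_sum_erase_sq_le p (p ^ (a - b₁)) χ₁ m' hm'
  have hcard0 : Nat.card G ≠ 0 := Nat.card_pos.ne'
  have hm'ne : ∀ ψ : Cfsg.IrrCharacter G, ψ ∈ B → Cfsg.blockHeight p B (ψ : G → ℂ) = 0 →
      m' ψ ≠ 0 := by
    intro ψ hψB hψ0 hz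
    have e1 : Cfsg.classInner (pregTilde p (χ₁ : G → ℂ)) (ψ : G → ℂ) = 0 := by
      rw [pregTilde_eq_pregScal, ← ha]
      have hsplit2 : ((p ^ a : ℕ) : ℂ) = ((p ^ b₁ : ℕ) : ℂ) * ((p ^ (a - b₁) : ℕ) : ℂ) := by
        rw [← Nat.cast_mul, ← pow_add, Nat.add_sub_cancel' hb₁a]
      rw [hsplit2, classInner_pregScal_mul, hm' ψ, hz]
      simp
    have e2 : Cfsg.Agent.Helper77.pregInner p (χ₁ : G → ℂ) (ψ : G → ℂ) = 0 := by
      rw [pregInner_eq_ordCompl_mul p hp, e1, mul_zero]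
    have e3 : Cfsg.Agent.Helper77.pregInner p (ψ : G → ℂ) (χ₁ : G → ℂ) = 0 := by
      rw [pregInner_symm hp, e2]
    have e4 : Cfsg.classInner (pregTilde p (ψ : G → ℂ)) (χ₁ : G → ℂ) = ((0 : ℤ) : ℂ) := by
      have h5 := pregInner_eq_ordCompl_mul p hp (ψ : G → ℂ) (χ₁ : G → ℂ)
      rw [e3] at h5
      have hN : ((Nat.card G / p ^ (Nat.card G).factorization p : ℕ) : ℂ) ≠ 0 := by
        have h6 : ¬ p ∣ Nat.card G / p ^ (Nat.card G).factorization p :=
          Nat.not_dvd_ordCompl hp hcard0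
        have h7 : Nat.card G / p ^ (Nat.card G).factorization p ≠ 0 :=
          fun h0' => h6 (by rw [h0']; exact dvd_zero p)
        exact_mod_cast h7
      rcases mul_eq_zero.mp h5.symm with h8 | h8
      · exact absurd h8 hN
      · rw [h8]; simp
    exact absurd rfl ((height_zero_iff_classInner hM hB hψB hχ₁ 0 e4).mp hψ0).1
  have hB0 : ((F.filter (fun ψ : Cfsg.IrrCharacter G =>
      Cfsg.blockHeight p B (ψ : G → ℂ) = 0)).card : ℤ)
      ≤ ∑ ψ ∈ Finset.univ.erase χ₁, (m' ψ) ^ 2 := by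
    calc ((F.filter (fun ψ : Cfsg.IrrCharacter G =>
          Cfsg.blockHeight p B (ψ : G → ℂ) = 0)).card : ℤ)
        = ∑ ψ ∈ F.filter (fun ψ : Cfsg.IrrCharacter G =>
          Cfsg.blockHeight p B (ψ : G → ℂ) = 0), (1 : ℤ) := by simp
      _ ≤ ∑ ψ ∈ F.filter (fun ψ : Cfsg.IrrCharacter G =>
          Cfsg.blockHeight p B (ψ : G → ℂ) = 0), (m' ψ) ^ 2 := by
          refine Finset.sum_le_sum fun ψ hψ => ?_
          rw [Finset.mem_filter] at hψ
          exact one_le_sq_of_ne_zero (hm'ne ψ ((hFB ψ).mp hψ.1) hψ.2)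
      _ ≤ ∑ ψ ∈ Finset.univ.erase χ₁, (m' ψ) ^ 2 := by
          refine Finset.sum_le_sum_of_subset_of_nonneg ?_ (fun _ _ _ => sq_nonneg _)
          intro ψ hψ
          rw [Finset.mem_filter] at hψ
          refine Finset.mem_erase.mpr ⟨?_, Finset.mem_univ _⟩
          rintro rfl
          omega
  -- arithmetic
  have hadd := Cfsg.Agent.Helper16.factorization_charDegree_add_blockDefect hχ₀ h0
  have hb' := factorization_eq_add_height hχ₀ h0 hχ₁
  rw [← ha] at hadd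
  rw [← hb₁] at hb'
  obtain ⟨d, hd⟩ : ∃ d, d = Cfsg.blockDefect p B := ⟨_, rfl⟩
  rw [← hd] at h1 hd2 hadd ⊢
  obtain ⟨e, he⟩ : ∃ e, d = e + 1 := ⟨d - 1, by omega⟩
  have hab : a - b₁ ≤ e := by omega
  have hq : (0 : ℤ) < (p : ℤ) ^ 2 := by positivity
  have hpe : ((p : ℤ) ^ (a - b₁)) ^ 2 ≤ ((p : ℤ) ^ e) ^ 2 :=
    pow_le_pow_left₀ (by positivity) (pow_le_pow_right₀ hp1 hab) 2
  push_cast at h1 h1'
  have h1a : 4 * (((F.filter (fun ψ : Cfsg.IrrCharacter G =>
      ¬ Cfsg.blockHeight p B (ψ : G → ℂ) = 0)).card : ℤ) * (p : ℤ) ^ 2)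
      ≤ ((p : ℤ) ^ e) ^ 2 * (p : ℤ) ^ 2 := by
    have : ((p : ℤ) ^ d) ^ 2 = ((p : ℤ) ^ e) ^ 2 * (p : ℤ) ^ 2 := by
      rw [he]; ring
    rw [← this]
    linarith
  have h1b : 4 * ((F.filter (fun ψ : Cfsg.IrrCharacter G =>
      ¬ Cfsg.blockHeight p B (ψ : G → ℂ) = 0)).card : ℤ) ≤ ((p : ℤ) ^ e) ^ 2 := by
    have h2 : (4 * ((F.filter (fun ψ : Cfsg.IrrCharacter G =>
        ¬ Cfsg.blockHeight p B (ψ : G → ℂ) = 0)).card : ℤ)) * (p : ℤ) ^ 2
        ≤ ((p : ℤ) ^ e) ^ 2 * (p : ℤ) ^ 2 := by linarith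
    exact le_of_mul_le_mul_right h2 hq
  have hfin : ((2 * Nat.card B : ℕ) : ℤ) ≤ ((p ^ (2 * d - 2) : ℕ) : ℤ) := by
    rw [hcard, ← hsplit]
    have hexp : 2 * d - 2 = e * 2 := by omega
    rw [hexp, pow_mul]
    push_cast
    linarith
  exact_mod_cast hfin

end bf2

end Cfsg.Agent.Helper73
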