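import Cfsg.Agent.Helper73.HeightZeroInd
import Cfsg.Agent.Helper76.CentralChar

/-!
# Non-vanishing of twisted block parts (Broué–Puig)

`central_twist_blockPart_ne_zero`: let `z` be a central `p`-element of `H`, `θ` a character of `H`,
`b` a block of `H` and `ψ₀ ∈ b` with `hzc p θ ψ₀` a local unit.  Then the `b`-part of
`c ↦ θ (z * c)` does not vanish identically on the `p`-regular elements of `H`.
-/

set_option autoImplicit false
open Cfsg
open scoped ComplexConjugate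

namespace Cfsg.Agent.Helper73

universe u

section bp

variable {H : Type u} [Group H] [Fintype H]

/-- Translating by a central `p`-element multiplies the multiplicity of an irreducible character
by a root of unity of `p`-power order. -/
theorem exists_twist_scalar (p : ℕ) (z : H) (hz : z ∈ Subgroup.center H)
    (hzp : ∃ k : ℕ, orderOf z = p ^ k) (θ : H → ℂ) (ψ : Cfsg.IrrCharacter H) :
    ∃ ε : ℂ, (∃ k : ℕ, ε ^ p ^ k = 1) ∧
      Cfsg.classInner (fun c => θ (z * c)) (ψ : H → ℂ) = ε * Cfsg.classInner θ (ψ : H → ℂ) := by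
  obtain ⟨k, hk⟩ := hzp
  obtain ⟨c, hc⟩ := Cfsg.Agent.Helper76.exists_central_scalar (Subgroup.center H).subtype
    (fun w => w.2) ψ
  obtain ⟨hc1, hcmul⟩ := Cfsg.Agent.Helper76.scalar_mul (Subgroup.center H).subtype (ψ : H → ℂ)
    (Cfsg.Agent.Helper81.irr_one_ne_zero ψ) c hc
  obtain ⟨zc, hzc⟩ : ∃ zc : Subgroup.center H, (zc : H) = z := ⟨⟨z, hz⟩, rfl⟩
  have hpow : c zc⁻¹ ^ p ^ k = 1 := by
    rw [← Cfsg.Agent.Helper76.scalar_pow c hc1 hcmul]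
    have h1 : zc⁻¹ ^ p ^ k = 1 := by
      apply Subtype.ext
      rw [Subgroup.coe_pow, Subgroup.coe_inv, hzc, Subgroup.coe_one, inv_pow, ← hk,
        pow_orderOf_eq_one, inv_one]
    rw [h1, hc1]
  refine ⟨conj (c zc⁻¹), ⟨k, by rw [← map_pow, hpow, map_one]⟩, ?_⟩
  unfold Cfsg.classInner
  have hsum : ∑ g : H, θ (z * g) * conj ((ψ : H → ℂ) g)
      = conj (c zc⁻¹) * ∑ g : H, θ g * conj ((ψ : H → ℂ) g) := by
    rw [Finset.mul_sum, ← Equiv.sum_comp (Equiv.mulLeft z)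
      (fun g => conj (c zc⁻¹) * (θ g * conj ((ψ : H → ℂ) g)))]
    refine Finset.sum_congr rfl fun g _ => ?_
    simp only [Equiv.coe_mulLeft]
    have h2 := hc zc⁻¹ (z * g)
    have h3 : z * g * (Subgroup.center H).subtype zc⁻¹ = g := by
      have h4 : ((Subgroup.center H).subtype zc⁻¹ : H) = z⁻¹ := by
        simp [hzc]
      rw [h4]
      have h5 : z * g = g * z := (Subgroup.mem_center_iff.mp hz g).symm
      rw [h5, mul_assoc, mul_inv_cancel, mul_one]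
    rw [h3] at h2
    rw [h2, map_mul]
    ring
  rw [hsum]
  ring

/-- **Broué–Puig type non-vanishing.** -/
theorem central_twist_blockPart_ne_zero {p : ℕ} {M : Ideal Cfsg.AlgInt}
    (hM : Cfsg.IsPModular p M) {b : Set (Cfsg.IrrCharacter H)} (hb : Cfsg.IsPBlock M b)
    (z : H) (hz : z ∈ Subgroup.center H) (hzp : ∃ k : ℕ, orderOf z = p ^ k)
    (θ : H → ℂ) (hθ : Cfsg.IsCharacter H θ) (ψ₀ : Cfsg.IrrCharacter H) (hψ₀ : ψ₀ ∈ b)
    (hunit : ¬ Cfsg.MemLocalIdeal M (hzc p θ (ψ₀ : H → ℂ))) :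
    ∃ y : H, ¬ p ∣ orderOf y ∧
      ∑ᶠ ψ ∈ b, Cfsg.classInner (fun c => θ (z * c)) (ψ : H → ℂ) * (ψ : H → ℂ) y ≠ 0 := by
  classical
  have := Fintype.ofFinite (Cfsg.IrrCharacter H)
  have hMm := hM.2.1
  choose ε hε1 hε2 using fun ψ : Cfsg.IrrCharacter H => exists_twist_scalar p z hz hzp θ ψ
  choose n hn using fun ψ : Cfsg.IrrCharacter H =>
    Cfsg.Agent.Helper3.classInner_isCharacter_nat hθ (Cfsg.Agent.Helper79.irr_isCharacter ψ)
  by_contra hcon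
  have hcon' : ∀ y : H, ¬ p ∣ orderOf y →
      ∑ᶠ ψ ∈ b, Cfsg.classInner (fun c => θ (z * c)) (ψ : H → ℂ) * (ψ : H → ℂ) y = 0 := by
    intro y hy
    by_contra h
    exact hcon ⟨y, hy, h⟩
  obtain ⟨F, hF⟩ : ∃ F : Finset (Cfsg.IrrCharacter H),
      F = Finset.univ.filter (fun ψ => ψ ∈ b) := ⟨_, rfl⟩
  have hFb : ∀ ψ, ψ ∈ F ↔ ψ ∈ b := by intro ψ; rw [hF]; simp
  -- the twisted block part as a finset sum
  have hT : ∀ y : H, ¬ p ∣ orderOf y →
      (∑ ψ ∈ F, (ε ψ * (n ψ : ℂ)) • (ψ : H → ℂ)) y = 0 := by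
    intro y hy
    have h1 := hcon' y hy
    rw [finsum_mem_def, finsum_eq_sum_of_fintype] at h1
    rw [Finset.sum_apply, hF, Finset.sum_filter]
    refine Eq.trans ?_ h1
    refine Finset.sum_congr rfl fun ψ _ => ?_
    by_cases hψ : ψ ∈ b
    · rw [if_pos hψ, Set.indicator_of_mem hψ, hε2 ψ, hn ψ]
      rfl
    · rw [if_neg hψ, Set.indicator_of_notMem hψ]
  have hzero : pregConj p (∑ ψ ∈ F, (ε ψ * (n ψ : ℂ)) • (ψ : H → ℂ)) = 0 := by
    funext y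
    unfold pregConj
    by_cases hy : p ∣ orderOf y
    · rw [if_pos hy]; rfl
    · rw [if_neg hy, hT y hy, map_zero]; rfl
  have h2 : ∑ ψ ∈ F, conj (ε ψ * (n ψ : ℂ)) * hzc p (ψ : H → ℂ) (ψ₀ : H → ℂ) = 0 := by
    have h3 := congrArg (Cfsg.Agent.Helper81.omega (ψ₀ : H → ℂ)) hzero
    rw [pregConj_finset_sum, omega_finset_sum, Cfsg.Agent.Helper16.omega_zero] at h3
    exact h3
  have h4 : hzc p θ (ψ₀ : H → ℂ)
      = ∑ ψ ∈ F, conj (n ψ : ℂ) * hzc p (ψ : H → ℂ) (ψ₀ : H → ℂ) := by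
    rw [hzc_eq_sum_irr p (Cfsg.Agent.Helper79.isCharacter_isClassFunction hθ), hF,
      Finset.sum_filter]
    refine Finset.sum_congr rfl fun ψ _ => ?_
    by_cases hψ : ψ ∈ b
    · rw [if_pos hψ, hn ψ]
    · rw [if_neg hψ, hzc_eq_zero_of_not_mem hM hb hψ hψ₀, mul_zero]
  apply hunit
  have h5 : hzc p θ (ψ₀ : H → ℂ)
      = ∑ ψ ∈ F, (conj (n ψ : ℂ) * hzc p (ψ : H → ℂ) (ψ₀ : H → ℂ)
          - conj (ε ψ * (n ψ : ℂ)) * hzc p (ψ : H → ℂ) (ψ₀ : H → ℂ)) := by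
    rw [Finset.sum_sub_distrib, h2, sub_zero, h4]
  rw [h5]
  refine Cfsg.Agent.Helper77.memLocalIdeal_sum hMm _ _ fun ψ _ => ?_
  have h6 : conj (n ψ : ℂ) * hzc p (ψ : H → ℂ) (ψ₀ : H → ℂ)
      - conj (ε ψ * (n ψ : ℂ)) * hzc p (ψ : H → ℂ) (ψ₀ : H → ℂ)
      = -(conj (ε ψ) - 1) * ((n ψ : ℂ) * hzc p (ψ : H → ℂ) (ψ₀ : H → ℂ)) := by
    rw [map_mul, Complex.conj_natCast]
    ring
  rw [h6]
  obtain ⟨k, hk⟩ := hε1 ψ
  have h7 : conj (ε ψ) ^ p ^ k = 1 := by rw [← map_pow, hk, map_one]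
  refine Cfsg.Agent.Helper77.memLocalIdeal_mul' hMm
    (Cfsg.Agent.Helper77.memLocalIdeal_neg
      (Cfsg.Agent.Helper77.memLocalIdeal_root_sub_one hM h7)) ?_
  exact Cfsg.Agent.Helper77.memLocalRing_mul hMm
    (Cfsg.Agent.Helper81.memLocalRing_natCast hMm.ne_top (n ψ)) (hzc_memLocalRing hMm p ψ ψ₀)

end bp

end Cfsg.Agent.Helper73
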