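import Mathlib
import Cfsg.Prelude.Def_GeometricClasses
import Cfsg.Prelude.Def_ClassicalGeometry
import Cfsg.Agent.Helper94.SpGen

/-!
# CALL S5975 (helper35), piece R1: involutions
-/

set_option autoImplicit false

namespace Cfsg.Agent.Helper73

open Matrix Module

/-- PIECE R1 (JMAT is the hypothesis `hjmat`): involutions -/
theorem c3e_r1 {F : Type*} [Field F]
    (hjmat : ∀ (n : F) (e₁ e₂ f₁ f₂ : Fin 2 ⊕ Fin 2 → F), Cfsg.sympForm 2 F e₁ f₁ = 1 →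
      Cfsg.sympForm 2 F e₂ f₂ = 1 → Cfsg.sympForm 2 F e₁ f₂ = 0 → Cfsg.sympForm 2 F e₂ f₁ = 0 →
      Cfsg.sympForm 2 F e₁ e₂ = 0 → Cfsg.sympForm 2 F f₁ f₂ = 0 →
      ∃ J' : Matrix (Fin 2 ⊕ Fin 2) (Fin 2 ⊕ Fin 2) F, J' * J' = n • (1 : Matrix _ _ F) ∧
        (∀ u v, Cfsg.sympForm 2 F (J' *ᵥ u) v = Cfsg.sympForm 2 F u (J' *ᵥ v)) ∧
        J' *ᵥ e₁ = e₂ ∧ J' *ᵥ e₂ = n • e₁ ∧ J' *ᵥ f₁ = n • f₂ ∧ J' *ᵥ f₂ = f₁ ∧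
        ∀ M M' : Matrix (Fin 2 ⊕ Fin 2) (Fin 2 ⊕ Fin 2) F, M *ᵥ e₁ = M' *ᵥ e₁ →
          M *ᵥ e₂ = M' *ᵥ e₂ → M *ᵥ f₁ = M' *ᵥ f₁ → M *ᵥ f₂ = M' *ᵥ f₂ → M = M')
    (h2 : (2 : F) ≠ 0) (n : F) (x : GL (Fin 2 ⊕ Fin 2) F)
    (hx : x ∈ Cfsg.spGL 2 F)
    (hx2 : ((x ^ 2 : GL (Fin 2 ⊕ Fin 2) F) : Matrix (Fin 2 ⊕ Fin 2) (Fin 2 ⊕ Fin 2) F) = 1)
    (hns : ∀ z : F, (x : Matrix (Fin 2 ⊕ Fin 2) (Fin 2 ⊕ Fin 2) F) ≠ z • 1) :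
    ∃ J' : Matrix (Fin 2 ⊕ Fin 2) (Fin 2 ⊕ Fin 2) F, J' * J' = n • (1 : Matrix _ _ F) ∧
      (∀ u v, Cfsg.sympForm 2 F (J' *ᵥ u) v = Cfsg.sympForm 2 F u (J' *ᵥ v)) ∧
      (x : Matrix (Fin 2 ⊕ Fin 2) (Fin 2 ⊕ Fin 2) F) * J' =
        (-1 : F) • (J' * (x : Matrix (Fin 2 ⊕ Fin 2) (Fin 2 ⊕ Fin 2) F)) := by
  classical
  obtain ⟨X, hX⟩ : ∃ X : Matrix (Fin 2 ⊕ Fin 2) (Fin 2 ⊕ Fin 2) F,
      X = (x : Matrix (Fin 2 ⊕ Fin 2) (Fin 2 ⊕ Fin 2) F) := ⟨_, rfl⟩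
  have hXX : X * X = 1 := by
    rw [hX, ← pow_two, ← Units.val_pow_eq_pow_val]
    exact hx2
  have hXv : ∀ v, X *ᵥ (X *ᵥ v) = v := by
    intro v
    rw [Matrix.mulVec_mulVec, hXX, Matrix.one_mulVec]
  have hpres : ∀ u v, Cfsg.sympForm 2 F (X *ᵥ u) (X *ᵥ v) = Cfsg.sympForm 2 F u v := by
    intro u v
    rw [hX]
    exact hx u v
  have horth : ∀ u v, X *ᵥ u = u → X *ᵥ v = -v → Cfsg.sympForm 2 F u v = 0 := by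
    intro u v hu hv
    have h := hpres u v
    rw [hu, hv, Helper94.sf_neg_right] at h
    have h3 : (2 : F) * Cfsg.sympForm 2 F u v = 0 := by linear_combination -h
    exact (mul_eq_zero.mp h3).resolve_left h2
  -- the `+1` eigenspace
  obtain ⟨v₁, hv₁⟩ : ∃ v, v + X *ᵥ v ≠ 0 := by
    by_contra hcon
    push Not at hcon
    apply hns (-1)
    rw [← hX]
    apply Matrix.mulVec_injective
    funext v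
    rw [Matrix.smul_mulVec, Matrix.one_mulVec, neg_one_smul]
    exact eq_neg_of_add_eq_zero_right (hcon v)
  obtain ⟨e₁, he₁0, he₁⟩ : ∃ e₁, e₁ ≠ 0 ∧ X *ᵥ e₁ = e₁ :=
    ⟨v₁ + X *ᵥ v₁, hv₁, by rw [Matrix.mulVec_add, hXv, add_comm]⟩
  obtain ⟨y₁, hy₁⟩ := Helper94.sf_exists_ne e₁ he₁0
  have hb₁ : Cfsg.sympForm 2 F e₁ (y₁ + X *ᵥ y₁) = 2 * Cfsg.sympForm 2 F e₁ y₁ := by
    rw [Helper94.sf_add_right]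
    have h := hpres e₁ y₁
    rw [he₁] at h
    rw [h]
    ring
  obtain ⟨f₁, hf₁, hef₁⟩ : ∃ f₁, X *ᵥ f₁ = f₁ ∧ Cfsg.sympForm 2 F e₁ f₁ = 1 := by
    refine ⟨(2 * Cfsg.sympForm 2 F e₁ y₁)⁻¹ • (y₁ + X *ᵥ y₁), ?_, ?_⟩
    · rw [Matrix.mulVec_smul, Matrix.mulVec_add, hXv, add_comm y₁]
    · rw [Helper94.sf_smul_right, hb₁, inv_mul_cancel₀ (mul_ne_zero h2 hy₁)]
  -- the `-1` eigenspace
  obtain ⟨v₂, hv₂⟩ : ∃ v, v - X *ᵥ v ≠ 0 := by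
    by_contra hcon
    push Not at hcon
    apply hns 1
    rw [← hX]
    apply Matrix.mulVec_injective
    funext v
    rw [one_smul, Matrix.one_mulVec]
    exact (sub_eq_zero.mp (hcon v)).symm
  obtain ⟨e₂, he₂0, he₂⟩ : ∃ e₂, e₂ ≠ 0 ∧ X *ᵥ e₂ = -e₂ :=
    ⟨v₂ - X *ᵥ v₂, hv₂, by rw [Matrix.mulVec_sub, hXv, neg_sub]⟩
  obtain ⟨y₂, hy₂⟩ := Helper94.sf_exists_ne e₂ he₂0
  have hb₂ : Cfsg.sympForm 2 F e₂ (y₂ - X *ᵥ y₂) = 2 * Cfsg.sympForm 2 F e₂ y₂ := by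
    rw [Helper94.sf_sub_right]
    have h := hpres e₂ y₂
    rw [he₂, Helper94.sf_neg_left] at h
    linear_combination h
  obtain ⟨f₂, hf₂, hef₂⟩ : ∃ f₂, X *ᵥ f₂ = -f₂ ∧ Cfsg.sympForm 2 F e₂ f₂ = 1 := by
    refine ⟨(2 * Cfsg.sympForm 2 F e₂ y₂)⁻¹ • (y₂ - X *ᵥ y₂), ?_, ?_⟩
    · rw [Matrix.mulVec_smul, Matrix.mulVec_sub, hXv, ← smul_neg, neg_sub]
    · rw [Helper94.sf_smul_right, hb₂, inv_mul_cancel₀ (mul_ne_zero h2 hy₂)]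
  have h12 : Cfsg.sympForm 2 F e₁ f₂ = 0 := horth e₁ f₂ he₁ hf₂
  have h21 : Cfsg.sympForm 2 F e₂ f₁ = 0 := by
    rw [Helper94.sf_swap, horth f₁ e₂ hf₁ he₂, neg_zero]
  have hee : Cfsg.sympForm 2 F e₁ e₂ = 0 := horth e₁ e₂ he₁ he₂
  have hff : Cfsg.sympForm 2 F f₁ f₂ = 0 := horth f₁ f₂ hf₁ hf₂
  obtain ⟨J', hJ2, hJsa, hJ1, hJ2', hJ3, hJ4, huniq⟩ :=
    hjmat n e₁ e₂ f₁ f₂ hef₁ hef₂ h12 h21 hee hff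
  refine ⟨J', hJ2, hJsa, ?_⟩
  rw [← hX]
  apply huniq
  · rw [← Matrix.mulVec_mulVec, hJ1, he₂, Matrix.smul_mulVec, ← Matrix.mulVec_mulVec, he₁, hJ1,
      neg_one_smul]
  · rw [← Matrix.mulVec_mulVec, hJ2', Matrix.mulVec_smul, he₁, Matrix.smul_mulVec,
      ← Matrix.mulVec_mulVec, he₂, Matrix.mulVec_neg, hJ2', neg_one_smul, neg_neg]
  · rw [← Matrix.mulVec_mulVec, hJ3, Matrix.mulVec_smul, hf₂, Matrix.smul_mulVec,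
      ← Matrix.mulVec_mulVec, hf₁, hJ3, neg_one_smul, smul_neg]
  · rw [← Matrix.mulVec_mulVec, hJ4, hf₁, Matrix.smul_mulVec, ← Matrix.mulVec_mulVec, hf₂,
      Matrix.mulVec_neg, hJ4, neg_one_smul, neg_neg]

end Cfsg.Agent.Helper73
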