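import Mathlib
import Cfsg.Prelude.Def_GeometricClasses
import Cfsg.Prelude.Def_ClassicalGeometry
import Cfsg.Agent.Helper94.SpGen

/-!
# CALL S5975 (helper35), piece R2: `x² = -1` with `-1` a square
-/

set_option autoImplicit false

namespace Cfsg.Agent.Helper73

open Matrix Module Cfsg

/-- PIECE R2 (JMAT is the hypothesis `hjmat`): `x² = -1` with `-1` a square -/
theorem c3e_r2 {F : Type*} [Field F]
    (hjmat : ∀ (n : F) (e₁ e₂ f₁ f₂ : Fin 2 ⊕ Fin 2 → F), Cfsg.sympForm 2 F e₁ f₁ = 1 →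
      Cfsg.sympForm 2 F e₂ f₂ = 1 → Cfsg.sympForm 2 F e₁ f₂ = 0 → Cfsg.sympForm 2 F e₂ f₁ = 0 →
      Cfsg.sympForm 2 F e₁ e₂ = 0 → Cfsg.sympForm 2 F f₁ f₂ = 0 →
      ∃ J' : Matrix (Fin 2 ⊕ Fin 2) (Fin 2 ⊕ Fin 2) F, J' * J' = n • (1 : Matrix _ _ F) ∧
        (∀ u v, Cfsg.sympForm 2 F (J' *ᵥ u) v = Cfsg.sympForm 2 F u (J' *ᵥ v)) ∧
        J' *ᵥ e₁ = e₂ ∧ J' *ᵥ e₂ = n • e₁ ∧ J' *ᵥ f₁ = n • f₂ ∧ J' *ᵥ f₂ = f₁ ∧
        ∀ M M' : Matrix (Fin 2 ⊕ Fin 2) (Fin 2 ⊕ Fin 2) F, M *ᵥ e₁ = M' *ᵥ e₁ →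
          M *ᵥ e₂ = M' *ᵥ e₂ → M *ᵥ f₁ = M' *ᵥ f₁ → M *ᵥ f₂ = M' *ᵥ f₂ → M = M')
    (h2 : (2 : F) ≠ 0) (n ι : F) (hι : ι * ι = -1)
    (x : GL (Fin 2 ⊕ Fin 2) F) (hx : x ∈ Cfsg.spGL 2 F)
    (hx2 : ((x ^ 2 : GL (Fin 2 ⊕ Fin 2) F) : Matrix (Fin 2 ⊕ Fin 2) (Fin 2 ⊕ Fin 2) F) =
      (-1 : F) • 1) :
    ∃ J' : Matrix (Fin 2 ⊕ Fin 2) (Fin 2 ⊕ Fin 2) F, J' * J' = n • (1 : Matrix _ _ F) ∧
      (∀ u v, Cfsg.sympForm 2 F (J' *ᵥ u) v = Cfsg.sympForm 2 F u (J' *ᵥ v)) ∧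
      (x : Matrix (Fin 2 ⊕ Fin 2) (Fin 2 ⊕ Fin 2) F) * J' =
        J' * (x : Matrix (Fin 2 ⊕ Fin 2) (Fin 2 ⊕ Fin 2) F) := by
  classical
  obtain ⟨X, hX⟩ : ∃ X : Matrix (Fin 2 ⊕ Fin 2) (Fin 2 ⊕ Fin 2) F,
      X = (x : Matrix (Fin 2 ⊕ Fin 2) (Fin 2 ⊕ Fin 2) F) := ⟨_, rfl⟩
  have hXX : X * X = (-1 : F) • 1 := by
    rw [hX, ← pow_two, ← Units.val_pow_eq_pow_val]
    exact hx2
  have hXv : ∀ v, X *ᵥ (X *ᵥ v) = -v := by
    intro v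
    rw [Matrix.mulVec_mulVec, hXX, Matrix.smul_mulVec, Matrix.one_mulVec, neg_one_smul]
  have hpres : ∀ u v, sympForm 2 F (X *ᵥ u) (X *ᵥ v) = sympForm 2 F u v := by
    intro u v
    rw [hX]
    exact hx u v
  have hA : ∀ u v, X *ᵥ u = ι • u → X *ᵥ v = ι • v → sympForm 2 F u v = 0 := by
    intro u v hu hv
    have h := hpres u v
    rw [hu, hv, Helper94.sf_smul_left, Helper94.sf_smul_right] at h
    have h3 : (2 : F) * sympForm 2 F u v = 0 := by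
      linear_combination (-1 : F) * h + sympForm 2 F u v * hι
    exact (mul_eq_zero.mp h3).resolve_left h2
  have hB : ∀ u v, X *ᵥ u = (-ι) • u → X *ᵥ v = (-ι) • v → sympForm 2 F u v = 0 := by
    intro u v hu hv
    have h := hpres u v
    rw [hu, hv, Helper94.sf_smul_left, Helper94.sf_smul_right] at h
    have h3 : (2 : F) * sympForm 2 F u v = 0 := by
      linear_combination (-1 : F) * h + sympForm 2 F u v * hι
    exact (mul_eq_zero.mp h3).resolve_left h2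
  have hE : ∀ u v, X *ᵥ u = ι • u → sympForm 2 F u (X *ᵥ v) = -ι * sympForm 2 F u v := by
    intro u v hu
    have h := hpres u (X *ᵥ v)
    rw [hu, hXv, Helper94.sf_smul_left, Helper94.sf_neg_right] at h
    rw [← h]
    ring
  have hE' : ∀ u v, X *ᵥ u = (-ι) • u → sympForm 2 F u (X *ᵥ v) = ι * sympForm 2 F u v := by
    intro u v hu
    have h := hpres u (X *ᵥ v)
    rw [hu, hXv, Helper94.sf_smul_left, Helper94.sf_neg_right] at h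
    rw [← h]
    ring
  have hpp : ∀ v, X *ᵥ (v - ι • (X *ᵥ v)) = ι • (v - ι • (X *ᵥ v)) := by
    intro v
    rw [Matrix.mulVec_sub, Matrix.mulVec_smul, hXv, smul_sub, smul_smul, hι]
    module
  have hpm : ∀ v, X *ᵥ (v + ι • (X *ᵥ v)) = (-ι) • (v + ι • (X *ᵥ v)) := by
    intro v
    rw [Matrix.mulVec_add, Matrix.mulVec_smul, hXv, smul_add, smul_smul, neg_mul, hι]
    module
  -- a nonzero vector of the `ι`-eigenspace
  obtain ⟨e₁, he₁0, he₁⟩ : ∃ e₁, e₁ ≠ 0 ∧ X *ᵥ e₁ = ι • e₁ := by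
    by_contra hcon
    push Not at hcon
    have hall : ∀ v, v - ι • (X *ᵥ v) = 0 := by
      intro v
      by_contra hne
      exact hcon _ hne (hpp v)
    have hXall : ∀ v, X *ᵥ v = (-ι) • v := by
      intro v
      have h' : ι • (v - ι • (X *ᵥ v)) = 0 := by rw [hall v, smul_zero]
      rw [smul_sub, smul_smul, hι] at h'
      have h'' : ι • v + X *ᵥ v = 0 := by
        rw [← h']
        module
      rw [neg_smul]
      exact eq_neg_of_add_eq_zero_right h''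
    have hzero : ∀ u v, sympForm 2 F u v = 0 := fun u v => hB u v (hXall u) (hXall v)
    have hne : (Pi.single (Sum.inl 0) 1 : Fin 2 ⊕ Fin 2 → F) ≠ 0 := by
      intro h
      have := congrFun h (Sum.inl 0)
      simp at this
    obtain ⟨y, hy⟩ := Helper94.sf_exists_ne _ hne
    exact hy (hzero _ _)
  obtain ⟨y₁, hy₁⟩ := Helper94.sf_exists_ne e₁ he₁0
  have hb₁ : sympForm 2 F e₁ (y₁ + ι • (X *ᵥ y₁)) = 2 * sympForm 2 F e₁ y₁ := by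
    rw [Helper94.sf_add_right, Helper94.sf_smul_right, hE e₁ y₁ he₁]
    linear_combination (-sympForm 2 F e₁ y₁) * hι
  obtain ⟨f₁, hf₁, hef₁⟩ : ∃ f₁, X *ᵥ f₁ = (-ι) • f₁ ∧ sympForm 2 F e₁ f₁ = 1 := by
    refine ⟨(2 * sympForm 2 F e₁ y₁)⁻¹ • (y₁ + ι • (X *ᵥ y₁)), ?_, ?_⟩
    · rw [Matrix.mulVec_smul, hpm, smul_comm]
    · rw [Helper94.sf_smul_right, hb₁, inv_mul_cancel₀ (mul_ne_zero h2 hy₁)]
  -- a nonzero vector orthogonal to `e₁` and `f₁`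
  obtain ⟨z, hz0, hz1, hz2⟩ : ∃ z : Fin 2 ⊕ Fin 2 → F, z ≠ 0 ∧ sympForm 2 F e₁ z = 0 ∧
      sympForm 2 F f₁ z = 0 := by
    let g : (Fin 2 ⊕ Fin 2 → F) →ₗ[F] F × F :=
      (Helper94.sympB 2 F e₁).prod (Helper94.sympB 2 F f₁)
    have hker : LinearMap.ker g ≠ ⊥ := by
      apply LinearMap.ker_ne_bot_of_finrank_lt
      rw [Module.finrank_prod, Module.finrank_self, Module.finrank_fintype_fun_eq_card]
      simp
    obtain ⟨z, hz, hz0⟩ := (Submodule.ne_bot_iff _).mp hker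
    have hgz : g z = 0 := LinearMap.mem_ker.mp hz
    have h1 : Helper94.sympB 2 F e₁ z = 0 := congrArg Prod.fst hgz
    have h2' : Helper94.sympB 2 F f₁ z = 0 := congrArg Prod.snd hgz
    rw [Helper94.sympB_apply] at h1 h2'
    exact ⟨z, hz0, h1, h2'⟩
  obtain ⟨y, hy⟩ := Helper94.sf_exists_ne z hz0
  obtain ⟨b, hb1, hb2, hzb⟩ : ∃ b, sympForm 2 F e₁ b = 0 ∧ sympForm 2 F f₁ b = 0 ∧
      sympForm 2 F z b ≠ 0 := by
    refine ⟨y - sympForm 2 F y f₁ • e₁ - sympForm 2 F e₁ y • f₁, ?_, ?_, ?_⟩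
    · rw [Helper94.sf_sub_right, Helper94.sf_sub_right, Helper94.sf_smul_right,
        Helper94.sf_smul_right, Helper94.sf_self, hef₁]
      ring
    · rw [Helper94.sf_sub_right, Helper94.sf_sub_right, Helper94.sf_smul_right,
        Helper94.sf_smul_right, Helper94.sf_self, Helper94.sf_swap f₁ e₁, hef₁,
        Helper94.sf_swap f₁ y]
      ring
    · rw [Helper94.sf_sub_right, Helper94.sf_sub_right, Helper94.sf_smul_right,
        Helper94.sf_smul_right, Helper94.sf_swap z e₁, hz1, Helper94.sf_swap z f₁, hz2]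
      simpa using hy
  -- stability of the orthogonal complement of `e₁, f₁` under the two projections
  have hH : ∀ v, sympForm 2 F e₁ v = 0 → sympForm 2 F f₁ v = 0 →
      (sympForm 2 F e₁ (v - ι • (X *ᵥ v)) = 0 ∧ sympForm 2 F f₁ (v - ι • (X *ᵥ v)) = 0 ∧
        sympForm 2 F e₁ (v + ι • (X *ᵥ v)) = 0 ∧ sympForm 2 F f₁ (v + ι • (X *ᵥ v)) = 0) := by
    intro v h1 h2'
    have a1 : sympForm 2 F e₁ (X *ᵥ v) = 0 := by rw [hE e₁ v he₁, h1, mul_zero]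
    have a2 : sympForm 2 F f₁ (X *ᵥ v) = 0 := by rw [hE' f₁ v hf₁, h2', mul_zero]
    refine ⟨?_, ?_, ?_, ?_⟩
    · rw [Helper94.sf_sub_right, Helper94.sf_smul_right, h1, a1]
      ring
    · rw [Helper94.sf_sub_right, Helper94.sf_smul_right, h2', a2]
      ring
    · rw [Helper94.sf_add_right, Helper94.sf_smul_right, h1, a1]
      ring
    · rw [Helper94.sf_add_right, Helper94.sf_smul_right, h2', a2]
      ring
  have hsum : sympForm 2 F (z - ι • (X *ᵥ z)) (b + ι • (X *ᵥ b)) +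
      sympForm 2 F (z + ι • (X *ᵥ z)) (b - ι • (X *ᵥ b)) = 4 * sympForm 2 F z b := by
    have e1 : sympForm 2 F ((z - ι • (X *ᵥ z)) + (z + ι • (X *ᵥ z)))
        ((b - ι • (X *ᵥ b)) + (b + ι • (X *ᵥ b))) = 4 * sympForm 2 F z b := by
      have hz' : (z - ι • (X *ᵥ z)) + (z + ι • (X *ᵥ z)) = (2 : F) • z := by module
      have hb' : (b - ι • (X *ᵥ b)) + (b + ι • (X *ᵥ b)) = (2 : F) • b := by module
      rw [hz', hb', Helper94.sf_smul_left, Helper94.sf_smul_right]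
      ring
    have e2 : sympForm 2 F ((z - ι • (X *ᵥ z)) + (z + ι • (X *ᵥ z)))
        ((b - ι • (X *ᵥ b)) + (b + ι • (X *ᵥ b))) =
        sympForm 2 F (z - ι • (X *ᵥ z)) (b - ι • (X *ᵥ b)) +
          sympForm 2 F (z - ι • (X *ᵥ z)) (b + ι • (X *ᵥ b)) +
        (sympForm 2 F (z + ι • (X *ᵥ z)) (b - ι • (X *ᵥ b)) +
          sympForm 2 F (z + ι • (X *ᵥ z)) (b + ι • (X *ᵥ b))) := by
      rw [Helper94.sf_add_left (z - ι • (X *ᵥ z)) (z + ι • (X *ᵥ z)),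
        Helper94.sf_add_right (z - ι • (X *ᵥ z)) (b - ι • (X *ᵥ b)) (b + ι • (X *ᵥ b)),
        Helper94.sf_add_right (z + ι • (X *ᵥ z)) (b - ι • (X *ᵥ b)) (b + ι • (X *ᵥ b))]
    rw [e2, hA _ _ (hpp z) (hpp b), hB _ _ (hpm z) (hpm b)] at e1
    linear_combination e1
  have h4 : (4 : F) ≠ 0 := by
    have h : (4 : F) = 2 * 2 := by norm_num
    rw [h]
    exact mul_ne_zero h2 h2
  obtain ⟨e₂, f₂', he₂, hf₂', he₂1, he₂2, hf₂1, hf₂2, hne⟩ : ∃ e₂ f₂',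
      X *ᵥ e₂ = ι • e₂ ∧ X *ᵥ f₂' = (-ι) • f₂' ∧ sympForm 2 F e₁ e₂ = 0 ∧
      sympForm 2 F f₁ e₂ = 0 ∧ sympForm 2 F e₁ f₂' = 0 ∧ sympForm 2 F f₁ f₂' = 0 ∧
      sympForm 2 F e₂ f₂' ≠ 0 := by
    obtain ⟨z1, z2, z3, z4⟩ := hH z hz1 hz2
    obtain ⟨b1, b2, b3, b4⟩ := hH b hb1 hb2
    by_cases hc : sympForm 2 F (z - ι • (X *ᵥ z)) (b + ι • (X *ᵥ b)) = 0
    · have hc' : sympForm 2 F (z + ι • (X *ᵥ z)) (b - ι • (X *ᵥ b)) ≠ 0 := by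
        intro h0
        rw [hc, h0, add_zero] at hsum
        exact hzb ((mul_eq_zero.mp hsum.symm).resolve_left h4)
      refine ⟨b - ι • (X *ᵥ b), z + ι • (X *ᵥ z), hpp b, hpm z, b1, b2, z3, z4, ?_⟩
      rw [Helper94.sf_swap]
      exact neg_ne_zero.mpr hc'
    · exact ⟨z - ι • (X *ᵥ z), b + ι • (X *ᵥ b), hpp z, hpm b, z1, z2, b3, b4, hc⟩
  obtain ⟨f₂, hf₂, hef₂, hf₂1', hf₂2'⟩ : ∃ f₂, X *ᵥ f₂ = (-ι) • f₂ ∧ sympForm 2 F e₂ f₂ = 1 ∧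
      sympForm 2 F e₁ f₂ = 0 ∧ sympForm 2 F f₁ f₂ = 0 := by
    refine ⟨(sympForm 2 F e₂ f₂')⁻¹ • f₂', ?_, ?_, ?_, ?_⟩
    · rw [Matrix.mulVec_smul, hf₂', smul_comm]
    · rw [Helper94.sf_smul_right, inv_mul_cancel₀ hne]
    · rw [Helper94.sf_smul_right, hf₂1, mul_zero]
    · rw [Helper94.sf_smul_right, hf₂2, mul_zero]
  have h21 : sympForm 2 F e₂ f₁ = 0 := by rw [Helper94.sf_swap, he₂2, neg_zero]
  obtain ⟨J', hJ2, hJsa, hJ1, hJ2', hJ3, hJ4, huniq⟩ :=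
    hjmat n e₁ e₂ f₁ f₂ hef₁ hef₂ hf₂1' h21 he₂1 hf₂2'
  refine ⟨J', hJ2, hJsa, ?_⟩
  rw [← hX]
  apply huniq
  · rw [← Matrix.mulVec_mulVec, hJ1, he₂, ← Matrix.mulVec_mulVec, he₁, Matrix.mulVec_smul, hJ1]
  · rw [← Matrix.mulVec_mulVec, hJ2', Matrix.mulVec_smul, he₁, ← Matrix.mulVec_mulVec, he₂,
      Matrix.mulVec_smul, hJ2', smul_comm]
  · rw [← Matrix.mulVec_mulVec, hJ3, Matrix.mulVec_smul, hf₂, ← Matrix.mulVec_mulVec, hf₁,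
      Matrix.mulVec_smul, hJ3, smul_comm]
  · rw [← Matrix.mulVec_mulVec, hJ4, hf₁, ← Matrix.mulVec_mulVec, hf₂, Matrix.mulVec_smul, hJ4]

end Cfsg.Agent.Helper73
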