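-- helper73 library: piece SB4 of helper96's CALL S5707 (double): symplectic basis in dimension 4.
import Cfsg.Agent.Helper96.CWDefs

set_option autoImplicit false
set_option linter.unusedSectionVars false
set_option linter.unusedSimpArgs false
set_option linter.unusedVariables false

namespace Cfsg.Agent.Helper73.CWSB4

open Matrix Cfsg Cfsg.Geo Cfsg.Agent.Helper96 Cfsg.Agent.Helper96.CW

section
variable {F : Type*} [Field F] {k t : ℕ}

theorem sb4_G4sq : G4 F * G4 F = 1 := by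
  ext i j
  fin_cases i <;> fin_cases j <;> simp [G4, Matrix.mul_apply, Fin.sum_univ_four]

/-- PIECE SB4: symplectic basis in dimension 4 (characteristic 2). -/
theorem sb4 (h2 : (2 : F) = 0) (G : Matrix (Fin 4) (Fin 4) F) (halt : ∀ u, T5.bf G u u = 0)
    (hdet : G.det ≠ 0) :
    ∃ A Ainv : Matrix (Fin 4) (Fin 4) F, A * Ainv = 1 ∧ Ainv * A = 1 ∧ Aᵀ * G * A = G4 F := by
  classical
  have hneg : (-1 : F) = 1 := by linear_combination (-1 : F) * h2
  have hsw : ∀ x y, T5.bf G x y = - T5.bf G y x := T5.bf_swap G halt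
  -- first hyperbolic pair
  have hu₁ : (Pi.single 0 1 : Fin 4 → F) ≠ 0 := by
    intro h
    have := congrFun h 0
    simp at this
  obtain ⟨u₁, hu₁def⟩ : ∃ u₁ : Fin 4 → F, u₁ = Pi.single 0 1 := ⟨_, rfl⟩
  rw [← hu₁def] at hu₁
  obtain ⟨v₁, hv₁⟩ := T5.exists_bf_eq_one G hdet u₁ hu₁
  -- a nonzero vector orthogonal to both
  let f : (Fin 4 → F) →ₗ[F] (Fin 2 → F) :=
    { toFun := fun x => ![T5.bf G x u₁, T5.bf G x v₁]
      map_add' := fun x y => by
        ext i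
        fin_cases i <;> simp [T5.bf_add_left]
      map_smul' := fun c x => by
        ext i
        fin_cases i <;> simp [T5.bf_smul_left] }
  have hker : LinearMap.ker f ≠ ⊥ := by
    apply LinearMap.ker_ne_bot_of_finrank_lt
    simp
  obtain ⟨u₂, hu₂mem, hu₂ne⟩ := (Submodule.ne_bot_iff _).mp hker
  have hfu : f u₂ = 0 := LinearMap.mem_ker.mp hu₂mem
  have h21 : T5.bf G u₂ u₁ = 0 := by
    have := congrFun hfu 0
    simpa [f] using this
  have h2v : T5.bf G u₂ v₁ = 0 := by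
    have := congrFun hfu 1
    simpa [f] using this
  obtain ⟨w, hw⟩ := T5.exists_bf_eq_one G hdet u₂ hu₂ne
  obtain ⟨v₂, hv₂def⟩ : ∃ v₂ : Fin 4 → F,
      v₂ = w + T5.bf G v₁ w • u₁ - T5.bf G u₁ w • v₁ := ⟨_, rfl⟩
  have h11 : T5.bf G u₁ u₁ = 0 := halt u₁
  have hvv : T5.bf G v₁ v₁ = 0 := halt v₁
  have hv1u1 : T5.bf G v₁ u₁ = -1 := by rw [hsw, hv₁]
  have h12 : T5.bf G u₁ u₂ = 0 := by rw [hsw, h21, neg_zero]
  have hv2 : T5.bf G v₁ u₂ = 0 := by rw [hsw, h2v, neg_zero]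
  have h1v2 : T5.bf G u₁ v₂ = 0 := by
    rw [hv₂def, T5.bf_sub_right, T5.bf_add_right, T5.bf_smul_right, T5.bf_smul_right, h11, hv₁]
    ring
  have hv1v2 : T5.bf G v₁ v₂ = 0 := by
    rw [hv₂def, T5.bf_sub_right, T5.bf_add_right, T5.bf_smul_right, T5.bf_smul_right, hvv, hv1u1]
    ring
  have h2v2 : T5.bf G u₂ v₂ = 1 := by
    rw [hv₂def, T5.bf_sub_right, T5.bf_add_right, T5.bf_smul_right, T5.bf_smul_right, h21, h2v,
      hw]
    ring
  have hv2u1 : T5.bf G v₂ u₁ = 0 := by rw [hsw, h1v2, neg_zero]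
  have hv2v1 : T5.bf G v₂ v₁ = 0 := by rw [hsw, hv1v2, neg_zero]
  have hv2u2 : T5.bf G v₂ u₂ = 1 := by rw [hsw, h2v2, hneg]
  have hv1u1' : T5.bf G v₁ u₁ = 1 := by rw [hv1u1, hneg]
  obtain ⟨c, hc⟩ : ∃ c : Fin 4 → (Fin 4 → F), c = ![u₁, u₂, v₂, v₁] := ⟨_, rfl⟩
  obtain ⟨A, hA⟩ : ∃ A : Matrix (Fin 4) (Fin 4) F, A = Matrix.of (fun i j => c j i) := ⟨_, rfl⟩
  have hentry : ∀ i j, (Aᵀ * G * A) i j = T5.bf G (c i) (c j) := by
    intro i j
    rw [T5.bf, Matrix.dotProduct_mulVec, hA]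
    rfl
  have hAGA : Aᵀ * G * A = G4 F := by
    ext i j
    rw [hentry, hc]
    fin_cases i <;> fin_cases j <;>
      simp [G4, h11, hvv, hv₁, h12, hv2, h1v2, hv1v2, h2v2, hv2u1, hv2v1, hv2u2, hv1u1', h21,
        h2v, halt]
  have hG4det : (G4 F).det ≠ 0 := by
    intro h0
    have := congrArg Matrix.det (sb4_G4sq (F := F))
    rw [Matrix.det_mul, h0, Matrix.det_one, mul_zero] at this
    exact zero_ne_one this
  have hdetA : A.det ≠ 0 := by
    intro h0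
    apply hG4det
    rw [← hAGA, Matrix.det_mul, Matrix.det_mul, h0, mul_zero]
  exact ⟨A, A⁻¹, Matrix.mul_nonsing_inv A (isUnit_iff_ne_zero.mpr hdetA),
    Matrix.nonsing_inv_mul A (isUnit_iff_ne_zero.mpr hdetA), hAGA⟩

end

end Cfsg.Agent.Helper73.CWSB4
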