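import Cfsg.Agent.Helper9.OrdTools

set_option autoImplicit false
set_option linter.style.haveILetI false

universe u

namespace Cfsg.Agent.Helper73

-- PIECE E2C1: the involution of `C(Q)` is centralised by `N(Q)`
theorem o7920_five_invol {G : Type u} [Group G] [Finite G] (Q : Sylow 5 G)
    (hQ : Nat.card (Q : Subgroup G) = 5)
    (hC : Nat.card (Subgroup.centralizer ((Q : Subgroup G) : Set G)) = 10) :
    ∃ c : G, orderOf c = 2 ∧ c ∈ Subgroup.centralizer ((Q : Subgroup G) : Set G) ∧
      Subgroup.normalizer ((Q : Subgroup G) : Set G) ≤ Subgroup.centralizer ({c} : Set G) := by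
  classical
  have h5 : Fact (Nat.Prime 5) := ⟨by norm_num⟩
  have h2 : Fact (Nat.Prime 2) := ⟨by norm_num⟩
  set C : Subgroup G := Subgroup.centralizer ((Q : Subgroup G) : Set G) with hCdef
  have hQC : (Q : Subgroup G) ≤ C := Cfsg.Agent.Helper9.OrdTools.le_centralizer_of_prime Q hQ
  -- an involution of `C`
  obtain ⟨c0, hc0⟩ := exists_prime_orderOf_dvd_card' (G := C) 2 (by rw [hC]; norm_num)
  rw [← Subgroup.orderOf_coe] at hc0
  obtain ⟨c, hcC⟩ : ∃ c : G, c ∈ C ∧ orderOf c = 2 := ⟨c0.1, c0.2, hc0⟩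
  obtain ⟨hcC, hc⟩ := hcC
  -- elements of order 2 are not in `Q`
  have hnot : ∀ z : G, orderOf z = 2 → z ∉ (Q : Subgroup G) := by
    intro z hz hzQ
    have h1 : orderOf z ∣ Nat.card (Q : Subgroup G) := Subgroup.orderOf_dvd_natCard _ hzQ
    rw [hz, hQ] at h1
    norm_num at h1
  -- index two
  have hidx : ((Q : Subgroup G).subgroupOf C).index = 2 := by
    have h1 := Subgroup.card_mul_index ((Q : Subgroup G).subgroupOf C)
    have h3 : Nat.card ((Q : Subgroup G).subgroupOf C) = 5 := by
      rw [Nat.card_congr (Subgroup.subgroupOfEquivOfLe hQC).toEquiv, hQ]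
    rw [h3, hC] at h1
    omega
  have hc2 : c * c = 1 := by
    rw [← pow_two, ← hc]
    exact pow_orderOf_eq_one c
  -- uniqueness of the involution
  have huniq : ∀ z : G, z ∈ C → orderOf z = 2 → z = c := by
    intro z hzC hz
    have hz2 : z * z = 1 := by
      rw [← pow_two, ← hz]
      exact pow_orderOf_eq_one z
    have h1 : (⟨z, hzC⟩ : C) * ⟨c, hcC⟩ ∈ (Q : Subgroup G).subgroupOf C := by
      rw [Subgroup.mul_mem_iff_of_index_two hidx, Subgroup.mem_subgroupOf, Subgroup.mem_subgroupOf]
      exact ⟨fun h => absurd h (hnot z hz), fun h => absurd h (hnot c hc)⟩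
    rw [Subgroup.mem_subgroupOf] at h1
    have hx : z * c ∈ (Q : Subgroup G) := h1
    -- `z * c` commutes with `c`
    have hcomm : c * (z * c) = (z * c) * c := by
      have h3 := (Subgroup.mem_centralizer_iff.mp hcC) (z * c) hx
      exact h3.symm
    -- so `c * z = z * c`
    have hcz : c * z = z * c := by
      have h4 : c * z * c = z * c * c := by rw [← mul_assoc] at hcomm; exact hcomm
      exact mul_right_cancel h4
    have hsq : (z * c) ^ 2 = 1 := by
      rw [pow_two]
      calc z * c * (z * c) = z * (c * z) * c := by group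
        _ = z * (z * c) * c := by rw [hcz]
        _ = (z * z) * (c * c) := by group
        _ = 1 := by rw [hz2, hc2, one_mul]
    have h5' : orderOf (z * c) ∣ 2 := orderOf_dvd_of_pow_eq_one hsq
    have h6 : orderOf (z * c) ∣ 5 := by
      have := Subgroup.orderOf_dvd_natCard _ hx
      rwa [hQ] at this
    have h7 : orderOf (z * c) = 1 := by
      have h8 : orderOf (z * c) ∣ Nat.gcd 2 5 := Nat.dvd_gcd h5' h6
      have h9 : Nat.gcd 2 5 = 1 := by decide
      rw [h9] at h8
      exact Nat.dvd_one.mp h8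
    rw [orderOf_eq_one_iff] at h7
    calc z = z * (c * c) := by rw [hc2, mul_one]
      _ = (z * c) * c := by group
      _ = c := by rw [h7, one_mul]
  refine ⟨c, hc, hcC, ?_⟩
  intro n hn
  rw [Subgroup.mem_centralizer_iff]
  intro h hh
  rw [Set.mem_singleton_iff] at hh
  subst hh
  -- `n * h * n⁻¹` is an involution of `C`
  have h1 : n * h * n⁻¹ ∈ C := by
    rw [hCdef, Subgroup.mem_centralizer_iff]
    intro x hx
    have hx' : n⁻¹ * x * n ∈ (Q : Subgroup G) := by
      have := (Subgroup.mem_set_normalizer_iff''.mp hn) x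
      exact this.mp hx
    have h3 := (Subgroup.mem_centralizer_iff.mp hcC) (n⁻¹ * x * n) hx'
    calc x * (n * h * n⁻¹) = n * ((n⁻¹ * x * n) * h) * n⁻¹ := by group
      _ = n * (h * (n⁻¹ * x * n)) * n⁻¹ := by rw [h3]
      _ = n * h * n⁻¹ * x := by group
  have h2' : orderOf (n * h * n⁻¹) = 2 := by
    have h4 : n * h * n⁻¹ = MulAut.conj n h := by rw [MulAut.conj_apply]
    rw [h4, MulEquiv.orderOf_eq]
    exact hc
  have h5' := huniq _ h1 h2'
  calc h * n = (n * h * n⁻¹) * n := by rw [h5']
    _ = n * h := by group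

end Cfsg.Agent.Helper73
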