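import Mathlib
import Cfsg.Prelude.Def_GeometricClasses
import Cfsg.Prelude.Def_LieClassical
import Cfsg.Agent.Helper69.E4Def
import Cfsg.Agent.Helper69.E5Def
import Cfsg.Agent.Helper66.E5CF5A
import Cfsg.Agent.Helper66.E5CF5B

set_option autoImplicit false

namespace Cfsg.Agent.Helper73
open Cfsg.Agent.Helper69
open scoped Matrix

/-- CF5 -/
theorem e5_canon_five {F : Type*} [Field F] [Fintype F] {p : ℕ} [Fact p.Prime] [CharP F p]
    (hF : Fintype.card F = p) (hp5 : p % 5 = 2 ∨ p % 5 = 3)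
    (x : Matrix (Fin 2 ⊕ Fin 2) (Fin 2 ⊕ Fin 2) F)
    (hx : xᵀ * Matrix.J (Fin 2) F * x = Matrix.J (Fin 2) F)
    (hx5 : x ^ 5 = 1) (hx1 : x ≠ 1) :
    ∃ (B : Matrix (Fin 2 ⊕ Fin 2) (Fin 4) F) (Bi : Matrix (Fin 4) (Fin 2 ⊕ Fin 2) F),
      B * Bi = 1 ∧ Bi * B = 1 ∧ x * B = B * e5C F ∧
      Bᵀ * Matrix.J (Fin 2) F * B = e5G F := by
  classical
  obtain ⟨hphi, -⟩ := Cfsg.Agent.Helper66.e5_cyclic_five hF hp5 x hx5 hx1
  obtain ⟨v, hv1, hv2⟩ := Cfsg.Agent.Helper66.e5_good_vector_five hF hp5 x hx hx5 hx1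
  -- the vectors x^k v
  let w : ℕ → (Fin 2 ⊕ Fin 2 → F) := fun k => (x ^ k) *ᵥ v
  have hw0 : w 0 = v := by simp [w]
  have hw1 : w 1 = x *ᵥ v := by simp [w]
  have hwS : ∀ k, w (k + 1) = x *ᵥ w k := by
    intro k
    simp only [w]
    rw [pow_succ', Matrix.mulVec_mulVec]
  have hw5 : w 5 = w 0 := by simp [w, hx5]
  -- the form
  let ω : (Fin 2 ⊕ Fin 2 → F) → (Fin 2 ⊕ Fin 2 → F) → F :=
    fun u z => u ⬝ᵥ (Matrix.J (Fin 2) F *ᵥ z)
  have hkey : ∀ (u z : Fin 2 ⊕ Fin 2 → F), (x *ᵥ u) ⬝ᵥ z = u ⬝ᵥ (xᵀ *ᵥ z) := by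
    intro u z
    rw [Matrix.dotProduct_mulVec, Matrix.vecMul_transpose]
  have hinv : ∀ u z, ω (x *ᵥ u) (x *ᵥ z) = ω u z := by
    intro u z
    show (x *ᵥ u) ⬝ᵥ (Matrix.J (Fin 2) F *ᵥ (x *ᵥ z)) = u ⬝ᵥ (Matrix.J (Fin 2) F *ᵥ z)
    rw [hkey, Matrix.mulVec_mulVec, Matrix.mulVec_mulVec, hx]
  have hanti : ∀ u z, ω u z = - ω z u := by
    intro u z
    show u ⬝ᵥ (Matrix.J (Fin 2) F *ᵥ z) = - (z ⬝ᵥ (Matrix.J (Fin 2) F *ᵥ u))
    rw [Matrix.dotProduct_mulVec, ← Matrix.mulVec_transpose, Matrix.J_transpose,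
      Matrix.neg_mulVec, neg_dotProduct, dotProduct_comm]
  have halt : ∀ u, ω u u = 0 := by
    intro u
    show u ⬝ᵥ (Matrix.J (Fin 2) F *ᵥ u) = 0
    simp [Matrix.J, Matrix.mulVec, dotProduct, Fintype.sum_sum_type, Matrix.fromBlocks,
      Fin.sum_univ_two, Matrix.one_apply]
    ring
  have hshift : ∀ i j, ω (w (i + 1)) (w (j + 1)) = ω (w i) (w j) := by
    intro i j
    rw [hwS, hwS, hinv]
  have h01 : ω (w 0) (w 1) = 1 := by rw [hw0, hw1]; exact hv1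
  have h02 : ω (w 0) (w 2) = 0 := by rw [hw0]; exact hv2
  have h03 : ω (w 0) (w 3) = 0 := by
    rw [← hshift, ← hshift, hw5, hanti, h02, neg_zero]
  have h12 : ω (w 1) (w 2) = 1 := by rw [hshift, h01]
  have h13 : ω (w 1) (w 3) = 0 := by rw [hshift, h02]
  have h23 : ω (w 2) (w 3) = 1 := by rw [hshift, h12]
  have h10 : ω (w 1) (w 0) = -1 := by rw [hanti, h01]
  have h20 : ω (w 2) (w 0) = 0 := by rw [hanti, h02, neg_zero]
  have h30 : ω (w 3) (w 0) = 0 := by rw [hanti, h03, neg_zero]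
  have h21 : ω (w 2) (w 1) = -1 := by rw [hanti, h12]
  have h31 : ω (w 3) (w 1) = 0 := by rw [hanti, h13, neg_zero]
  have h32 : ω (w 3) (w 2) = -1 := by rw [hanti, h23]
  have hval : ∀ i j : Fin 4, ω (w i) (w j) = e5G F i j := by
    intro i j
    fin_cases i <;> fin_cases j
    · simpa [e5G] using halt (w 0)
    · simpa [e5G] using h01
    · simpa [e5G] using h02
    · simpa [e5G] using h03
    · simpa [e5G] using h10
    · simpa [e5G] using halt (w 1)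
    · simpa [e5G] using h12
    · simpa [e5G] using h13
    · simpa [e5G] using h20
    · simpa [e5G] using h21
    · simpa [e5G] using halt (w 2)
    · simpa [e5G] using h23
    · simpa [e5G] using h30
    · simpa [e5G] using h31
    · simpa [e5G] using h32
    · simpa [e5G] using halt (w 3)
  -- the matrices
  let B : Matrix (Fin 2 ⊕ Fin 2) (Fin 4) F := Matrix.of fun a (j : Fin 4) => w j a
  let Gi : Matrix (Fin 4) (Fin 4) F := !![0, -1, 0, -1; 1, 0, 0, 0; 0, 0, 0, -1; 1, 0, 1, 0]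
  have hgram : Bᵀ * Matrix.J (Fin 2) F * B = e5G F := by
    ext i j
    rw [← hval i j, Matrix.mul_assoc]
    simp only [B, ω, Matrix.mul_apply, Matrix.transpose_apply, Matrix.of_apply,
      dotProduct, Matrix.mulVec]
  have hGi : Gi * e5G F = 1 := by
    ext i j
    fin_cases i <;> fin_cases j <;>
      simp [Gi, e5G, Matrix.mul_apply, Fin.sum_univ_four, Matrix.one_apply]
  have hBiB : (Gi * Bᵀ * Matrix.J (Fin 2) F) * B = 1 := by
    rw [Matrix.mul_assoc, Matrix.mul_assoc, ← Matrix.mul_assoc Bᵀ, hgram, hGi]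
  have hphi' : ∀ a, w 4 a + w 3 a + w 2 a + w 1 a + w 0 a = 0 := by
    intro a
    have h1 := congrArg (fun M : Matrix (Fin 2 ⊕ Fin 2) (Fin 2 ⊕ Fin 2) F => (M *ᵥ v) a) hphi
    simp only [Matrix.add_mulVec, Matrix.zero_mulVec, Pi.add_apply, Pi.zero_apply] at h1
    simp only [w, pow_one, pow_zero]
    exact h1
  have hcol : ∀ (j : ℕ) a, (x *ᵥ w j) a = w (j + 1) a := by
    intro j a
    rw [hwS]
  refine ⟨B, Gi * Bᵀ * Matrix.J (Fin 2) F, ?_, hBiB, ?_, hgram⟩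
  · exact (Matrix.mul_eq_one_comm_of_equiv finSumFinEquiv.symm).mp hBiB
  · ext a j
    have hL : (x * B) a j = w ((j : ℕ) + 1) a := by
      rw [← hcol]
      simp only [B, Matrix.mul_apply, Matrix.of_apply, Matrix.mulVec, dotProduct]
    rw [hL]
    simp only [Matrix.mul_apply, Fin.sum_univ_four, B, Matrix.of_apply]
    fin_cases j
    · simp [e5C]
    · simp [e5C]
    · simp [e5C]
    · simp [e5C]
      linear_combination hphi' a

end Cfsg.Agent.Helper73
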