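import Mathlib
import Cfsg.Prelude.Def_GeometricClasses
import Cfsg.Agent.Helper69.E4Def
import Cfsg.Agent.Helper66.E4BASE1
import Cfsg.Agent.Helper66.E4BASE2
import Cfsg.Agent.Helper73.E4AVG
import Cfsg.Agent.Helper81.E4CENT5
import Cfsg.Agent.Helper81.E4TRACE5

/-!
# CALL S6002, piece TR3B: `tr y * tr y⁻¹ = 4` for a non-scalar element of order 3 of the
normaliser of `E4 ι` which centralises a non-scalar element of `E4 ι`
-/

set_option autoImplicit false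

namespace Cfsg.Agent.Helper73

open Cfsg.Agent.Helper69
open scoped Matrix

/-- the index type of the Pauli products -/
abbrev E4T : Type := Fin 2 × Fin 2 × Fin 2 × Fin 2

/-- the Pauli product as an element of `GL` -/
def e4tSig (F : Type*) [Field F] (b c d e : ℕ) : GL (Fin 4) F :=
  Helper66.e4gX1 F ^ b * Helper66.e4gZ1 F ^ c * Helper66.e4gX2 F ^ d * Helper66.e4gZ2 F ^ e

theorem e4tSig_mem {F : Type*} [Field F] (ι : F) (b c d e : ℕ) : e4tSig F b c d e ∈ E4 ι :=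
  (E4 ι).mul_mem ((E4 ι).mul_mem ((E4 ι).mul_mem
    ((E4 ι).pow_mem (Helper66.e4gX1_mem ι) b) ((E4 ι).pow_mem (Helper66.e4gZ1_mem ι) c))
    ((E4 ι).pow_mem (Helper66.e4gX2_mem ι) d)) ((E4 ι).pow_mem (Helper66.e4gZ2_mem ι) e)

theorem e4tSig_val {F : Type*} [Field F] (ι : F) (hι : ι ^ 2 = -1) (b c d e : ℕ) :
    ((e4tSig F b c d e : GL (Fin 4) F) : Matrix (Fin 4) (Fin 4) F) = e4Pauli F b c d e := by
  have := Helper66.e4g_val ι hι 0 b c d e
  rw [pow_zero, one_mul, pow_zero, one_smul] at this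
  exact this

theorem e4tSig_inv_val {F : Type*} [Field F] (ι : F) (hι : ι ^ 2 = -1) (b c d e : ℕ) :
    (((e4tSig F b c d e)⁻¹ : GL (Fin 4) F) : Matrix (Fin 4) (Fin 4) F) =
      e4Z2 F ^ e * e4X2 F ^ d * e4Z1 F ^ c * e4X1 F ^ b := by
  apply Units.inv_eq_of_mul_eq_one_right
  rw [e4tSig_val ι hι]
  exact Helper81.e4_pauli_inv b c d e

theorem e4t_term_val {F : Type*} [Field F] (ι : F) (hι : ι ^ 2 = -1) (y : GL (Fin 4) F)
    (b c d e : ℕ) :
    ((e4tSig F b c d e * (y * (e4tSig F b c d e)⁻¹ * y⁻¹) : GL (Fin 4) F) :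
      Matrix (Fin 4) (Fin 4) F) =
    e4Pauli F b c d e * (y : Matrix (Fin 4) (Fin 4) F) *
      (e4Z2 F ^ e * e4X2 F ^ d * e4Z1 F ^ c * e4X1 F ^ b) *
      ((y⁻¹ : GL (Fin 4) F) : Matrix (Fin 4) (Fin 4) F) := by
  rw [Units.val_mul, Units.val_mul, Units.val_mul, e4tSig_val ι hι, e4tSig_inv_val ι hι]
  simp only [mul_assoc]

theorem e4t_term_comm {F : Type*} [Field F] (ι : F) (hι : ι ^ 2 = -1) (y : GL (Fin 4) F)
    (b c d e : ℕ) (hc : y * e4tSig F b c d e = e4tSig F b c d e * y) :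
    (e4Pauli F b c d e * (y : Matrix (Fin 4) (Fin 4) F) *
      (e4Z2 F ^ e * e4X2 F ^ d * e4Z1 F ^ c * e4X1 F ^ b) *
      ((y⁻¹ : GL (Fin 4) F) : Matrix (Fin 4) (Fin 4) F)).trace = 4 := by
  rw [← e4t_term_val ι hι]
  obtain ⟨σg, hσg⟩ : ∃ σg : GL (Fin 4) F, σg = e4tSig F b c d e := ⟨_, rfl⟩
  rw [← hσg] at hc ⊢
  have h1 : σg * (y * σg⁻¹ * y⁻¹) = 1 := by
    have h2 : y * σg⁻¹ = σg⁻¹ * y := by
      calc y * σg⁻¹ = σg⁻¹ * (σg * y) * σg⁻¹ := by group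
        _ = σg⁻¹ * (y * σg) * σg⁻¹ := by rw [hc]
        _ = σg⁻¹ * y := by group
    rw [h2]
    group
  rw [h1, Units.val_one, Matrix.trace_one]
  simp

theorem e4t_term_ncomm {F : Type*} [Field F] (ι : F) (hι : ι ^ 2 = -1)
    (y : GL (Fin 4) F) (hy : y ∈ Cfsg.Geo.subgroupNormalizer (E4 ι)) (hy3 : y ^ 3 = 1)
    (b c d e : ℕ) (hnc : ¬ y * e4tSig F b c d e = e4tSig F b c d e * y) :
    (e4Pauli F b c d e * (y : Matrix (Fin 4) (Fin 4) F) *
      (e4Z2 F ^ e * e4X2 F ^ d * e4Z1 F ^ c * e4X1 F ^ b) *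
      ((y⁻¹ : GL (Fin 4) F) : Matrix (Fin 4) (Fin 4) F)).trace = 0 := by
  rw [← e4t_term_val ι hι]
  obtain ⟨σg, hσg⟩ : ∃ σg : GL (Fin 4) F, σg = e4tSig F b c d e := ⟨_, rfl⟩
  rw [← hσg] at hnc ⊢
  have hσE : σg ∈ E4 ι := by rw [hσg]; exact e4tSig_mem ι b c d e
  have hyN : y ∈ Subgroup.normalizer ((E4 ι : Subgroup (GL (Fin 4) F)) : Set (GL (Fin 4) F)) :=
    hy
  have hconjE : y * σg⁻¹ * y⁻¹ ∈ E4 ι :=
    (Subgroup.mem_normalizer_iff.mp hyN σg⁻¹).mp ((E4 ι).inv_mem hσE)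
  obtain ⟨Λ, hΛ⟩ : ∃ Λ : GL (Fin 4) F, Λ = σg * (y * σg⁻¹ * y⁻¹) := ⟨_, rfl⟩
  have hΛE : Λ ∈ E4 ι := by
    rw [hΛ]
    exact (E4 ι).mul_mem hσE hconjE
  rw [← hΛ]
  rcases Helper66.e4_trace ι hι Λ hΛE with ⟨lam, hlam⟩ | htr
  · exfalso
    apply hnc
    have hΛc : ∀ g : GL (Fin 4) F, Λ * g = g * Λ := Helper81.e4_comm_scalar Λ lam hlam
    have hconj : y * σg⁻¹ * y⁻¹ = σg⁻¹ * Λ := by
      rw [hΛ]
      group
    have hpow : ∀ n : ℕ, y ^ n * σg⁻¹ * (y ^ n)⁻¹ = σg⁻¹ * Λ ^ n := by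
      intro n
      induction n with
      | zero => simp
      | succ n ih =>
        have hc : y * Λ ^ n * y⁻¹ = Λ ^ n := by
          have hc' := (Commute.pow_left (show Commute Λ y from hΛc y) n).eq
          rw [← hc', mul_inv_cancel_right]
        calc y ^ (n + 1) * σg⁻¹ * (y ^ (n + 1))⁻¹
            = y * (y ^ n * σg⁻¹ * (y ^ n)⁻¹) * y⁻¹ := by
              rw [pow_succ']
              group
          _ = y * (σg⁻¹ * Λ ^ n) * y⁻¹ := by rw [ih]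
          _ = (y * σg⁻¹ * y⁻¹) * (y * Λ ^ n * y⁻¹) := by group
          _ = σg⁻¹ * Λ * Λ ^ n := by rw [hc, hconj]
          _ = σg⁻¹ * Λ ^ (n + 1) := by rw [pow_succ', mul_assoc]
    have hΛ3 : Λ ^ 3 = 1 := by
      have h := hpow 3
      rw [hy3, one_mul, inv_one, mul_one] at h
      have h' : σg⁻¹ * 1 = σg⁻¹ * Λ ^ 3 := by rw [mul_one]; exact h
      exact (mul_left_cancel h').symm
    have hΛ4 : Λ ^ 4 = 1 := by
      apply Units.ext
      rw [Units.val_pow_eq_pow_val, Units.val_one]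
      have h4 : (Λ : Matrix (Fin 4) (Fin 4) F) ^ 4 = ((Λ : Matrix (Fin 4) (Fin 4) F) ^ 2) ^ 2 := by
        rw [← pow_mul]
      rw [h4]
      rcases Helper66.e4_sq ι hι Λ hΛE with h | h <;> rw [h] <;> simp
    have hΛ1 : Λ = 1 := by
      have h : Λ ^ 4 = Λ ^ 3 * Λ := pow_succ Λ 3
      rw [hΛ3, hΛ4, one_mul] at h
      exact h.symm
    rw [hΛ1, mul_one] at hconj
    have h1 : y * σg⁻¹ = σg⁻¹ * y := by
      calc y * σg⁻¹ = y * σg⁻¹ * y⁻¹ * y := by group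
        _ = σg⁻¹ * y := by rw [hconj]
    calc y * σg = σg * (σg⁻¹ * y) * σg := by group
      _ = σg * (y * σg⁻¹) * σg := by rw [h1]
      _ = σg * y := by group
  · exact htr

/-- PIECE TR3B -/
theorem e4_trace_three {F : Type*} [Field F] (h2 : (2 : F) ≠ 0) (ι : F) (hι : ι ^ 2 = -1)
    (y : GL (Fin 4) F) (hy : y ∈ Cfsg.Geo.subgroupNormalizer (E4 ι)) (hy3 : y ^ 3 = 1)
    (hns : ∀ c : F, (y : Matrix (Fin 4) (Fin 4) F) ≠ c • (1 : Matrix (Fin 4) (Fin 4) F))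
    (w : GL (Fin 4) F) (hw : w ∈ E4 ι)
    (hwns : ∀ c : F, (w : Matrix (Fin 4) (Fin 4) F) ≠ c • (1 : Matrix (Fin 4) (Fin 4) F))
    (hyw : y * w = w * y) :
    (y : Matrix (Fin 4) (Fin 4) F).trace *
      ((y⁻¹ : GL (Fin 4) F) : Matrix (Fin 4) (Fin 4) F).trace = 4 := by
  classical
  have hcard := Helper66.e4_card h2 ι hι
  haveI hfin : Finite ↥(E4 ι) := Nat.finite_of_card_ne_zero (by rw [hcard]; norm_num)
  haveI : Fact (Nat.Prime 3) := ⟨by norm_num⟩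
  have hyN : y ∈ Subgroup.normalizer ((E4 ι : Subgroup (GL (Fin 4) F)) : Set (GL (Fin 4) F)) :=
    hy
  obtain ⟨D, hDmem, hmod⟩ := Helper81.e4_fix_count (E4 ι) y hyN 3
    (fun e _ => by rw [hy3, one_mul, mul_one])
  rw [hcard] at hmod
  have hDdvd : Nat.card D ∣ 2 ^ 6 := by
    have := Subgroup.card_subgroup_dvd_card D
    rw [hcard] at this
    exact this
  obtain ⟨j, hj6, hj⟩ := (Nat.dvd_prime_pow Nat.prime_two).1 hDdvd
  have hD : Nat.card D = 1 ∨ Nat.card D = 4 ∨ Nat.card D = 16 ∨ Nat.card D = 64 := by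
    unfold Nat.ModEq at hmod
    rw [hj] at hmod ⊢
    interval_cases j <;> simp_all
  have hD16 : Nat.card D = 16 := by
    rcases hD with h1 | h4 | h16 | h64
    · exfalso
      have hbot : D = ⊥ := Subgroup.eq_bot_of_card_eq D h1
      have hwD : (⟨w, hw⟩ : E4 ι) ∈ D := (hDmem _).mpr hyw
      rw [hbot, Subgroup.mem_bot] at hwD
      have hw1 : w = 1 := congrArg Subtype.val hwD
      exact hwns 1 (by rw [hw1, one_smul]; rfl)
    · exfalso
      obtain ⟨c, hc⟩ := Helper81.e4_scalars_of_card_four h2 ι hι y D hDmem h4 w hw hyw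
      exact hwns c hc
    · exact h16
    · exfalso
      have hDtop : D = ⊤ := Subgroup.eq_top_of_card_eq D (by rw [h64, hcard])
      have hcommE : ∀ e ∈ E4 ι, y * e = e * y := fun e he =>
        (hDmem ⟨e, he⟩).mp (by rw [hDtop]; trivial)
      obtain ⟨c, hc⟩ := Helper81.e4_scalar_of_commute_E4 h2 ι y hcommE
      exact hns c hc
  -- the set of commuting Pauli products
  let σ : E4T → GL (Fin 4) F :=
    fun t => e4tSig F (t.1 : ℕ) (t.2.1 : ℕ) (t.2.2.1 : ℕ) (t.2.2.2 : ℕ)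
  let S : Finset E4T := Finset.univ.filter (fun t => y * σ t = σ t * y)
  -- the parametrisation of `E4 ι`
  let f : Fin 4 × E4T → E4 ι := fun x =>
    ⟨Helper66.e4gI ι hι ^ (x.1 : ℕ) * σ x.2,
      (E4 ι).mul_mem ((E4 ι).pow_mem (Helper66.e4gI_mem ι hι) _) (e4tSig_mem ι _ _ _ _)⟩
  have hval : ∀ x, ((f x : GL (Fin 4) F) : Matrix (Fin 4) (Fin 4) F)
      = ι ^ (x.1 : ℕ) • e4Pauli F (x.2.1 : ℕ) (x.2.2.1 : ℕ) (x.2.2.2.1 : ℕ) (x.2.2.2.2 : ℕ) := by
    intro x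
    show ((Helper66.e4gI ι hι ^ (x.1 : ℕ) *
      e4tSig F (x.2.1 : ℕ) (x.2.2.1 : ℕ) (x.2.2.2.1 : ℕ) (x.2.2.2.2 : ℕ) : GL (Fin 4) F) :
        Matrix (Fin 4) (Fin 4) F) = _
    rw [Units.val_mul, Helper81.e4gI_pow_val, e4tSig_val ι hι, Matrix.smul_mul, one_mul]
  have hinj : Function.Injective f := by
    intro t t' h
    have h' : ((f t : GL (Fin 4) F) : Matrix (Fin 4) (Fin 4) F)
        = ((f t' : GL (Fin 4) F) : Matrix (Fin 4) (Fin 4) F) := by rw [h]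
    rw [hval, hval] at h'
    obtain ⟨h1, h2', h3, h4, h5⟩ :=
      Helper66.e4_normal_inj h2 ι hι t.1.2 t.2.1.2 t.2.2.1.2 t.2.2.2.1.2 t.2.2.2.2.2
        t'.1.2 t'.2.1.2 t'.2.2.1.2 t'.2.2.2.1.2 t'.2.2.2.2.2 h'
    exact Prod.ext (Fin.ext h1) (Prod.ext (Fin.ext h2') (Prod.ext (Fin.ext h3)
      (Prod.ext (Fin.ext h4) (Fin.ext h5))))
  have hsurj : Function.Surjective f := by
    rintro ⟨g, hg⟩
    obtain ⟨a, b, c, d, e, hgm⟩ := (Helper66.e4_mem_iff ι hι g).mp hg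
    refine ⟨(⟨a % 4, Nat.mod_lt _ (by norm_num)⟩, ⟨b % 2, Nat.mod_lt _ (by norm_num)⟩,
      ⟨c % 2, Nat.mod_lt _ (by norm_num)⟩, ⟨d % 2, Nat.mod_lt _ (by norm_num)⟩,
      ⟨e % 2, Nat.mod_lt _ (by norm_num)⟩), ?_⟩
    apply Subtype.ext
    apply Units.ext
    rw [hval, hgm]
    show ι ^ (a % 4) • e4Pauli F (b % 2) (c % 2) (d % 2) (e % 2) = _
    rw [← pow_eq_pow_mod a (Helper66.e4_iota_pow_four ι hι), ← Helper66.e4Pauli_mod]
  let E : Fin 4 × E4T ≃ E4 ι := Equiv.ofBijective f ⟨hinj, hsurj⟩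
  have hEmem : ∀ x : Fin 4 × E4T, x.2 ∈ S ↔ E x ∈ D := by
    intro x
    rw [hDmem]
    show x.2 ∈ S ↔ y * (Helper66.e4gI ι hι ^ (x.1 : ℕ) * σ x.2) =
      (Helper66.e4gI ι hι ^ (x.1 : ℕ) * σ x.2) * y
    have hc : ∀ g : GL (Fin 4) F,
        Helper66.e4gI ι hι ^ (x.1 : ℕ) * g = g * Helper66.e4gI ι hι ^ (x.1 : ℕ) :=
      Helper81.e4_comm_scalar _ _ (Helper81.e4gI_pow_val ι hι _)
    simp only [S, Finset.mem_filter, Finset.mem_univ, true_and]
    constructor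
    · intro h
      rw [← mul_assoc, ← hc y, mul_assoc, h, mul_assoc]
    · intro h
      rw [← mul_assoc, ← hc y, mul_assoc, mul_assoc] at h
      exact mul_left_cancel h
  have hcardS : 4 * S.card = 16 := by
    rw [← hD16]
    have h1 : Nat.card {x : Fin 4 × E4T // x.2 ∈ S} = Nat.card D :=
      Nat.card_congr (E.subtypeEquiv hEmem)
    rw [← h1, Nat.card_eq_fintype_card, Fintype.card_subtype]
    have h3 : (Finset.univ.filter (fun x : Fin 4 × E4T => x.2 ∈ S)) = Finset.univ ×ˢ S := by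
      ext x
      simp
    rw [h3, Finset.card_product]
    simp
  -- the averaging formula
  have havg := Helper73.e4_avg (y : Matrix (Fin 4) (Fin 4) F)
  have h1 := congrArg (fun A : Matrix (Fin 4) (Fin 4) F =>
    (A * ((y⁻¹ : GL (Fin 4) F) : Matrix (Fin 4) (Fin 4) F)).trace) havg
  simp only [Finset.sum_mul, Matrix.trace_sum] at h1
  rw [Matrix.smul_mul, one_mul, Matrix.trace_smul, smul_eq_mul] at h1
  have hterm : ∀ b c d e : ℕ, (e4Pauli F b c d e * (y : Matrix (Fin 4) (Fin 4) F) *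
        (e4Z2 F ^ e * e4X2 F ^ d * e4Z1 F ^ c * e4X1 F ^ b) *
        ((y⁻¹ : GL (Fin 4) F) : Matrix (Fin 4) (Fin 4) F)).trace =
      if y * e4tSig F b c d e = e4tSig F b c d e * y then 4 else 0 := by
    intro b c d e
    split_ifs with h
    · exact e4t_term_comm ι hι y b c d e h
    · exact e4t_term_ncomm ι hι y hy hy3 b c d e h
  have hsum : ∑ b ∈ Finset.range 2, ∑ c ∈ Finset.range 2, ∑ d ∈ Finset.range 2,
      ∑ e ∈ Finset.range 2, (e4Pauli F b c d e * (y : Matrix (Fin 4) (Fin 4) F) *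
        (e4Z2 F ^ e * e4X2 F ^ d * e4Z1 F ^ c * e4X1 F ^ b) *
        ((y⁻¹ : GL (Fin 4) F) : Matrix (Fin 4) (Fin 4) F)).trace = 16 := by
    have hS : (∑ t : E4T, if y * σ t = σ t * y then (4 : F) else 0) = 16 := by
      rw [← Finset.sum_filter, Finset.sum_const, nsmul_eq_mul]
      have h5 : ((S.card : ℕ) : F) * 4 = ((4 * S.card : ℕ) : F) := by
        push_cast
        ring
      show ((S.card : ℕ) : F) * 4 = 16
      rw [h5, hcardS]
      norm_num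
    rw [← hS]
    simp only [hterm]
    simp only [σ, Fintype.sum_prod_type, Fin.sum_univ_two, Finset.sum_range_succ,
      Finset.sum_range_zero, zero_add, Fin.val_zero, Fin.val_one]
  rw [hsum] at h1
  have h4 : (4 : F) ≠ 0 := by
    have h : (4 : F) = 2 * 2 := by norm_num
    rw [h]
    exact mul_ne_zero h2 h2
  have h5 : (4 : F) * ((y : Matrix (Fin 4) (Fin 4) F).trace *
      ((y⁻¹ : GL (Fin 4) F) : Matrix (Fin 4) (Fin 4) F).trace - 4) = 0 := by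
    linear_combination -h1
  rcases mul_eq_zero.mp h5 with h | h
  · exact absurd h h4
  · exact sub_eq_zero.mp h

end Cfsg.Agent.Helper73
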