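import Cfsg.Agent.Helper73.BlockSpan
import Cfsg.Agent.Helper15.PiPartBrauer
import Cfsg.Agent.Helper16.HeightZero

/-!
# Brauer's height zero theorem for inner products on `p`-regular elements

For irreducible characters `χ, ψ` of the finite group `G` put

`hzc p χ ψ = (∑_{x p-regular} conj (χ x) * ψ x) / ψ 1 = Ω_ψ (pregConj p χ)`.

* `hzc_memLocalRing`, `hzc_sub_memLocalIdeal` (congruence in `ψ` inside a block),
  `hzc_eq_zero_of_not_mem`, `hzc_mul_symm`.
* `exists_hzc_not_memLocalIdeal`: for `ψ` in the block `B` some `χ` has `hzc p χ ψ` a local unit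
  (uses `Helper15.piPart_mem_genSpanA`, a consequence of Brauer's characterization of characters).
* `hzc_not_memLocalIdeal_iff`: for `χ, ψ ∈ B`: `hzc p χ ψ` is a local unit iff `χ` has height zero.
* `localRing_nat_val`, `localRing_int_val`: valuations of rational numbers in the local ring.
* `height_zero_iff_classInner`: `χ ∈ B` has height zero iff the integer `[p^a χ°, ψ]` is nonzero
  with `p`-adic valuation that of `ψ 1` (for any `ψ ∈ B`).
-/

set_option autoImplicit false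
open Cfsg
open scoped ComplexConjugate

namespace Cfsg.Agent.Helper73

universe u

section valuation

/-- Valuation of a rational number `n / D` lying in the local ring. -/
theorem localRing_nat_val {p : ℕ} {M : Ideal Cfsg.AlgInt} (hM : Cfsg.IsPModular p M)
    (n D : ℕ) (hD : D ≠ 0) (r : ℂ) (hr : Cfsg.MemLocalRing M r) (h : (n : ℂ) = (D : ℂ) * r) :
    (n ≠ 0 → D.factorization p ≤ n.factorization p) ∧
    (¬ Cfsg.MemLocalIdeal M r ↔ n ≠ 0 ∧ n.factorization p = D.factorization p) := by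
  have hp := hM.1
  have hMm := hM.2.1
  have hnat : ∀ j : ℕ, Cfsg.MemLocalRing M (j : ℂ) := fun j =>
    Cfsg.Agent.Helper81.memLocalRing_natCast hMm.ne_top j
  have hDc : (D : ℂ) ≠ 0 := by exact_mod_cast hD
  by_cases hn : n = 0
  · subst hn
    have hr0 : r = 0 := by
      have : (D : ℂ) * r = 0 := by rw [← h]; simp
      rcases mul_eq_zero.mp this with h1 | h1
      · exact absurd h1 hDc
      · exact h1
    refine ⟨fun h0 => absurd rfl h0, ?_⟩
    rw [hr0]
    constructor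
    · intro h1
      exact absurd (Cfsg.Agent.Helper77.memLocalIdeal_zero hMm) h1
    · rintro ⟨h1, -⟩
      exact absurd rfl h1
  obtain ⟨v, n', hn', hnv⟩ := Nat.exists_eq_pow_mul_and_not_dvd hn p hp.ne_one
  obtain ⟨w, D', hD', hDw⟩ := Nat.exists_eq_pow_mul_and_not_dvd hD p hp.ne_one
  have hv : n.factorization p = v := by
    rw [hnv, Nat.factorization_mul (pow_ne_zero v hp.ne_zero)
      (fun h0 => hn' (by rw [h0]; exact dvd_zero p))]
    simp [hp.factorization_self, Nat.factorization_eq_zero_of_not_dvd hn']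
  have hw : D.factorization p = w := by
    rw [hDw, Nat.factorization_mul (pow_ne_zero w hp.ne_zero)
      (fun h0 => hD' (by rw [h0]; exact dvd_zero p))]
    simp [hp.factorization_self, Nat.factorization_eq_zero_of_not_dvd hD']
  have hpc : (p : ℂ) ≠ 0 := by exact_mod_cast hp.ne_zero
  have key : (p : ℂ) ^ v * (n' : ℂ) = (p : ℂ) ^ w * (D' : ℂ) * r := by
    have e1 : (n : ℂ) = (p : ℂ) ^ v * (n' : ℂ) := by rw [hnv]; push_cast; ring
    have e2 : (D : ℂ) = (p : ℂ) ^ w * (D' : ℂ) := by rw [hDw]; push_cast; ring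
    rw [← e1, h, e2]
  have hn'I := Cfsg.Agent.Helper77.not_memLocalIdeal_natCast hM hn'
  have hD'I := Cfsg.Agent.Helper77.not_memLocalIdeal_natCast hM hD'
  have hwv : w ≤ v := by
    by_contra hlt
    rw [not_le] at hlt
    obtain ⟨j, hj⟩ : ∃ j, w = v + 1 + j := ⟨w - v - 1, by omega⟩
    have h1 : (n' : ℂ) = (p : ℂ) * ((p : ℂ) ^ j * (D' : ℂ) * r) := by
      have h2 : (p : ℂ) ^ v * (n' : ℂ) = (p : ℂ) ^ v * ((p : ℂ) * ((p : ℂ) ^ j * (D' : ℂ) * r)) := by
        rw [key, hj]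
        ring
      exact mul_left_cancel₀ (pow_ne_zero v hpc) h2
    apply hn'I
    rw [h1]
    refine Cfsg.Agent.Helper77.memLocalIdeal_mul' hMm (Cfsg.Agent.Helper77.memLocalIdeal_prime hM) ?_
    refine Cfsg.Agent.Helper77.memLocalRing_mul hMm (Cfsg.Agent.Helper77.memLocalRing_mul hMm ?_ (hnat D')) hr
    have := hnat (p ^ j)
    simpa using this
  refine ⟨fun _ => by rw [hv, hw]; exact hwv, ?_⟩
  obtain ⟨j, hj⟩ : ∃ j, v = w + j := ⟨v - w, by omega⟩
  have key2 : r * (D' : ℂ) = (p : ℂ) ^ j * (n' : ℂ) := by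
    have h2 : (p : ℂ) ^ w * (r * (D' : ℂ)) = (p : ℂ) ^ w * ((p : ℂ) ^ j * (n' : ℂ)) := by
      have := key
      rw [hj] at this
      rw [pow_add] at this
      linear_combination -this
    exact mul_left_cancel₀ (pow_ne_zero w hpc) h2
  rw [hv, hw]
  constructor
  · intro hrI
    refine ⟨hn, ?_⟩
    by_contra hne
    have hj1 : 1 ≤ j := by omega
    obtain ⟨i, hi⟩ : ∃ i, j = i + 1 := ⟨j - 1, by omega⟩
    have h3 : Cfsg.MemLocalIdeal M (r * (D' : ℂ)) := by
      rw [key2, hi, pow_succ, mul_comm ((p : ℂ) ^ i) (p : ℂ), mul_assoc]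
      refine Cfsg.Agent.Helper77.memLocalIdeal_mul' hMm (Cfsg.Agent.Helper77.memLocalIdeal_prime hM) ?_
      have := hnat (p ^ i * n')
      simpa using this
    rcases Cfsg.Agent.Helper16.memLocalIdeal_or_of_mul hMm hr h3 with h4 | h4
    · exact hrI h4
    · exact hD'I h4
  · rintro ⟨-, hvw⟩ hrI
    have hj0 : j = 0 := by omega
    rw [hj0, pow_zero, one_mul] at key2
    apply hn'I
    rw [← key2]
    exact Cfsg.Agent.Helper77.memLocalIdeal_mul' hMm hrI (hnat D')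

/-- Integer version of `localRing_nat_val`. -/
theorem localRing_int_val {p : ℕ} {M : Ideal Cfsg.AlgInt} (hM : Cfsg.IsPModular p M)
    (k : ℤ) (D : ℕ) (hD : D ≠ 0) (r : ℂ) (hr : Cfsg.MemLocalRing M r) (h : (k : ℂ) = (D : ℂ) * r) :
    (k ≠ 0 → D.factorization p ≤ padicValInt p k) ∧
    (¬ Cfsg.MemLocalIdeal M r ↔ k ≠ 0 ∧ padicValInt p k = D.factorization p) := by
  have hp := hM.1
  have hpf : Fact p.Prime := ⟨hp⟩
  have hval : padicValInt p k = k.natAbs.factorization p := by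
    rw [padicValInt, Nat.factorization_def _ hp]
  have hk0 : k ≠ 0 ↔ k.natAbs ≠ 0 := by simp
  rcases Int.natAbs_eq k with hk | hk
  · have hc : (k : ℂ) = (k.natAbs : ℂ) :=
      (congrArg (fun z : ℤ => (z : ℂ)) hk).trans (Int.cast_natCast _)
    have h' : (k.natAbs : ℂ) = (D : ℂ) * r := by rw [← hc, h]
    have := localRing_nat_val hM k.natAbs D hD r hr h'
    rw [hval, hk0]
    exact this
  · have hc : (k : ℂ) = -(k.natAbs : ℂ) := by
      have h1 := congrArg (fun z : ℤ => (z : ℂ)) hk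
      simp only [Int.cast_neg, Int.cast_natCast] at h1
      exact h1
    have h' : (k.natAbs : ℂ) = (D : ℂ) * (-r) := by
      rw [mul_neg, ← h, hc, neg_neg]
    have := localRing_nat_val hM k.natAbs D hD (-r) (Cfsg.Agent.Helper77.memLocalRing_neg hr) h'
    rw [hval, hk0]
    refine ⟨this.1, ?_⟩
    rw [← this.2]
    constructor
    · intro h1 h2
      apply h1
      have := Cfsg.Agent.Helper77.memLocalIdeal_neg h2
      rwa [neg_neg] at this
    · intro h1 h2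
      exact h1 (Cfsg.Agent.Helper77.memLocalIdeal_neg h2)

end valuation

section hz

variable {G : Type u} [Group G] [Fintype G]

/-- The function `x ↦ conj (θ x)` on the `p`-regular elements, zero elsewhere. -/
noncomputable def pregConj (p : ℕ) (θ : G → ℂ) : G → ℂ :=
  fun x => if p ∣ orderOf x then 0 else conj (θ x)

/-- `hzc p χ ψ = (∑_{x p-regular} conj (χ x) * ψ x) / ψ 1`. -/
noncomputable def hzc (p : ℕ) (χ ψ : G → ℂ) : ℂ := Cfsg.Agent.Helper81.omega ψ (pregConj p χ)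

omit [Fintype G] in
theorem pregConj_isClassFunction (p : ℕ) {θ : G → ℂ} (hθ : Cfsg.IsClassFunction G θ) :
    Cfsg.IsClassFunction G (pregConj p θ) := by
  intro g h
  have hord : orderOf (h * g * h⁻¹) = orderOf g := by
    have := (MulAut.conj h).orderOf_eq g
    rwa [MulAut.conj_apply] at this
  unfold pregConj
  rw [hord, hθ g h]

theorem pregConj_memLocalRing {M : Ideal Cfsg.AlgInt} (hM : M.IsMaximal) (p : ℕ)
    (χ : Cfsg.IrrCharacter G) (g : G) : Cfsg.MemLocalRing M (pregConj p (χ : G → ℂ) g) := by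
  unfold pregConj
  split_ifs
  · exact Cfsg.Agent.Helper77.memLocalRing_zero hM
  · exact Cfsg.Agent.Helper77.memLocalRing_of_isIntegral hM
      (map_isIntegral_int (starRingEnd ℂ) (Cfsg.Agent.Helper81.irr_isIntegral χ g))

theorem hzc_eq (p : ℕ) (χ ψ : G → ℂ) :
    hzc p χ ψ = Cfsg.Agent.Helper77.pregInner p ψ χ / ψ 1 := by
  unfold hzc Cfsg.Agent.Helper81.omega Cfsg.Agent.Helper77.pregInner pregConj
  congr 1
  refine Finset.sum_congr rfl fun x _ => ?_
  by_cases hx : p ∣ orderOf x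
  · simp [hx]
  · simp only [hx, if_false, not_false_eq_true, if_true]
    rw [mul_comm]

theorem hzc_mul_one (p : ℕ) (χ : G → ℂ) (ψ : Cfsg.IrrCharacter G) :
    hzc p χ (ψ : G → ℂ) * (ψ : G → ℂ) 1 = Cfsg.Agent.Helper77.pregInner p (ψ : G → ℂ) χ := by
  rw [hzc_eq, div_mul_cancel₀ _ (Cfsg.Agent.Helper81.irr_one_ne_zero ψ)]

theorem hzc_memLocalRing {M : Ideal Cfsg.AlgInt} (hM : M.IsMaximal) (p : ℕ)
    (χ ψ : Cfsg.IrrCharacter G) : Cfsg.MemLocalRing M (hzc p (χ : G → ℂ) (ψ : G → ℂ)) :=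
  Cfsg.Agent.Helper16.omega_memLocalRing hM ψ
    (pregConj_isClassFunction p (Cfsg.Agent.Helper81.irr_isClassFunction χ))
    (pregConj_memLocalRing hM p χ)

/-- Congruence in the second argument inside a block. -/
theorem hzc_sub_memLocalIdeal {M : Ideal Cfsg.AlgInt} (hM : M.IsMaximal) (p : ℕ)
    {B : Set (Cfsg.IrrCharacter G)} (hB : Cfsg.IsPBlock M B) (χ : Cfsg.IrrCharacter G)
    {ψ ψ' : Cfsg.IrrCharacter G} (hψ : ψ ∈ B) (hψ' : ψ' ∈ B) :
    Cfsg.MemLocalIdeal M (hzc p (χ : G → ℂ) (ψ : G → ℂ) - hzc p (χ : G → ℂ) (ψ' : G → ℂ)) :=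
  Cfsg.Agent.Helper16.omega_sub_memLocalIdeal hM ψ ψ'
    (Cfsg.Agent.Helper16.sameBlock_of_mem hM hB hψ hψ')
    (pregConj_isClassFunction p (Cfsg.Agent.Helper81.irr_isClassFunction χ))
    (pregConj_memLocalRing hM p χ)

theorem hzc_not_memLocalIdeal_congr {M : Ideal Cfsg.AlgInt} (hM : M.IsMaximal) (p : ℕ)
    {B : Set (Cfsg.IrrCharacter G)} (hB : Cfsg.IsPBlock M B) (χ : Cfsg.IrrCharacter G)
    {ψ ψ' : Cfsg.IrrCharacter G} (hψ : ψ ∈ B) (hψ' : ψ' ∈ B)
    (h : ¬ Cfsg.MemLocalIdeal M (hzc p (χ : G → ℂ) (ψ : G → ℂ))) :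
    ¬ Cfsg.MemLocalIdeal M (hzc p (χ : G → ℂ) (ψ' : G → ℂ)) := by
  intro h'
  apply h
  have := Cfsg.Agent.Helper77.memLocalIdeal_add hM (hzc_sub_memLocalIdeal hM p hB χ hψ hψ') h'
  rwa [sub_add_cancel] at this

/-- `hzc` vanishes when the two characters lie in different blocks. -/
theorem hzc_eq_zero_of_not_mem {p : ℕ} {M : Ideal Cfsg.AlgInt} (hM : Cfsg.IsPModular p M)
    {B : Set (Cfsg.IrrCharacter G)} (hB : Cfsg.IsPBlock M B) {χ ψ : Cfsg.IrrCharacter G}
    (hχ : χ ∉ B) (hψ : ψ ∈ B) : hzc p (χ : G → ℂ) (ψ : G → ℂ) = 0 := by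
  rw [hzc_eq, ← Cfsg.Agent.Helper77.conj_pregInner,
    Cfsg.Agent.Helper77.pregInner_eq_zero hM hB hχ hψ, map_zero, zero_div]

/-- The inner product on `p`-regular elements in terms of `classInner` of `p^a χ°`. -/
theorem card_mul_classInner_pRegular (p : ℕ) (χ ψ Θ : G → ℂ)
    (h1 : ∀ x, ¬ p ∣ orderOf x → Θ x = ((p ^ (Nat.card G).factorization p : ℕ) : ℂ) * χ x)
    (h0 : ∀ x, p ∣ orderOf x → Θ x = 0) :
    (Nat.card G : ℂ) * Cfsg.classInner Θ ψ
      = ((p ^ (Nat.card G).factorization p : ℕ) : ℂ) * Cfsg.Agent.Helper77.pregInner p χ ψ := by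
  have hcard : (Nat.card G : ℂ) ≠ 0 := by
    have : 0 < Nat.card G := Nat.card_pos
    exact_mod_cast this.ne'
  unfold Cfsg.classInner Cfsg.Agent.Helper77.pregInner
  rw [← mul_assoc, mul_inv_cancel₀ hcard, one_mul, Finset.mul_sum]
  refine Finset.sum_congr rfl fun x _ => ?_
  by_cases hx : p ∣ orderOf x
  · simp [hx, h0 x hx]
  · simp only [hx, not_false_eq_true, if_true]
    rw [h1 x hx, mul_assoc]

/-- `p^a χ°`: the function equal to `p^a χ` on `p`-regular elements and `0` elsewhere, in the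
literal shape used by the statements. -/
noncomputable def pregTilde (p : ℕ) (χ : G → ℂ) : G → ℂ :=
  fun x : G => if p ∣ orderOf x then (0 : ℂ)
    else ((p ^ (Nat.card G).factorization p : ℕ) : ℂ) * χ x

theorem pregTilde_mem_genSpanZ {p : ℕ} (hp : p.Prime) {θ : G → ℂ} (hθ : θ ∈ genSpanZ G) :
    pregTilde p θ ∈ genSpanZ G :=
  pRegular_mem_genSpanZ hp hθ _ (fun x hx => by simp [pregTilde, hx])
    (fun x hx => by simp [pregTilde, hx])

theorem pregTilde_classInner_int {p : ℕ} (hp : p.Prime) (χ ψ : Cfsg.IrrCharacter G) :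
    ∃ n : ℤ, Cfsg.classInner (pregTilde p (χ : G → ℂ)) (ψ : G → ℂ) = (n : ℂ) :=
  classInner_int_of_mem_genSpanZ
    (pregTilde_mem_genSpanZ hp (isCharacter_mem_genSpanZ (Cfsg.Agent.Helper79.irr_isCharacter χ))) ψ

theorem card_mul_classInner_pregTilde (p : ℕ) (χ ψ : G → ℂ) :
    (Nat.card G : ℂ) * Cfsg.classInner (pregTilde p χ) ψ
      = ((p ^ (Nat.card G).factorization p : ℕ) : ℂ) * Cfsg.Agent.Helper77.pregInner p χ ψ :=
  card_mul_classInner_pRegular p χ ψ _ (fun x hx => by simp [pregTilde, hx])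
    (fun x hx => by simp [pregTilde, hx])

/-- `pregInner p χ ψ = (|G| / p^a) * [p^a χ°, ψ]`. -/
theorem pregInner_eq_ordCompl_mul (p : ℕ) (hp : p.Prime) (χ ψ : G → ℂ) :
    Cfsg.Agent.Helper77.pregInner p χ ψ
      = ((Nat.card G / p ^ (Nat.card G).factorization p : ℕ) : ℂ)
        * Cfsg.classInner (pregTilde p χ) ψ := by
  have h := card_mul_classInner_pregTilde p χ ψ
  have hpc : ((p ^ (Nat.card G).factorization p : ℕ) : ℂ) ≠ 0 := by
    have : p ^ (Nat.card G).factorization p ≠ 0 := pow_ne_zero _ hp.ne_zero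
    exact_mod_cast this
  have hsplit : (Nat.card G : ℂ) = ((p ^ (Nat.card G).factorization p : ℕ) : ℂ)
      * ((Nat.card G / p ^ (Nat.card G).factorization p : ℕ) : ℂ) := by
    have := Nat.ordProj_mul_ordCompl_eq_self (Nat.card G) p
    exact_mod_cast this.symm
  rw [hsplit, mul_assoc] at h
  exact (mul_left_cancel₀ hpc h).symm

/-- The inner product over `p`-regular elements of two irreducible characters is symmetric. -/
theorem pregInner_symm {p : ℕ} (hp : p.Prime) (χ ψ : Cfsg.IrrCharacter G) :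
    Cfsg.Agent.Helper77.pregInner p (χ : G → ℂ) (ψ : G → ℂ)
      = Cfsg.Agent.Helper77.pregInner p (ψ : G → ℂ) (χ : G → ℂ) := by
  obtain ⟨n, hn⟩ := pregTilde_classInner_int hp ψ χ
  have h1 := pregInner_eq_ordCompl_mul p hp (ψ : G → ℂ) (χ : G → ℂ)
  rw [hn] at h1
  rw [← Cfsg.Agent.Helper77.conj_pregInner, h1]
  simp

theorem hzc_mul_symm {p : ℕ} (hp : p.Prime) (χ ψ : Cfsg.IrrCharacter G) :
    hzc p (χ : G → ℂ) (ψ : G → ℂ) * (ψ : G → ℂ) 1
      = hzc p (ψ : G → ℂ) (χ : G → ℂ) * (χ : G → ℂ) 1 := by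
  rw [hzc_mul_one, hzc_mul_one, pregInner_symm hp]

/-- `(|G|/p^a) * [p^a χ°, ψ] = ψ(1) * hzc p χ ψ`. -/
theorem ordCompl_mul_classInner_eq {p : ℕ} (hp : p.Prime) (χ ψ : Cfsg.IrrCharacter G) :
    ((Nat.card G / p ^ (Nat.card G).factorization p : ℕ) : ℂ)
        * Cfsg.classInner (pregTilde p (χ : G → ℂ)) (ψ : G → ℂ)
      = (Cfsg.charDegree (ψ : G → ℂ) : ℂ) * hzc p (χ : G → ℂ) (ψ : G → ℂ) := by
  rw [← pregInner_eq_ordCompl_mul p hp, pregInner_symm hp, ← hzc_mul_one,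
    Cfsg.Agent.Helper81.irr_one_eq_charDegree, mul_comm]

theorem omega_finset_sum (ψ : G → ℂ) {ι : Type*} (s : Finset ι) (c : ι → ℂ) (a : ι → G → ℂ) :
    Cfsg.Agent.Helper81.omega ψ (∑ i ∈ s, c i • a i)
      = ∑ i ∈ s, c i * Cfsg.Agent.Helper81.omega ψ (a i) := by
  classical
  induction s using Finset.induction_on with
  | empty => simp [Cfsg.Agent.Helper16.omega_zero]
  | insert i s hi ih =>
    rw [Finset.sum_insert hi, Finset.sum_insert hi, Cfsg.Agent.Helper81.omega_add,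
      Cfsg.Agent.Helper81.omega_smul, ih]

omit [Fintype G] in
theorem pregConj_finset_sum (p : ℕ) {ι : Type*} (s : Finset ι) (c : ι → ℂ) (a : ι → G → ℂ) :
    pregConj p (∑ i ∈ s, c i • a i) = ∑ i ∈ s, conj (c i) • pregConj p (a i) := by
  funext x
  unfold pregConj
  by_cases hx : p ∣ orderOf x
  · simp [hx]
  · simp [hx, map_sum]

omit [Fintype G] in
theorem orderOf_eq_of_isConj {g x : G} (h : IsConj g x) : orderOf x = orderOf g := by
  obtain ⟨c, hc⟩ := isConj_iff.mp h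
  rw [← hc]
  have := (MulAut.conj c).orderOf_eq g
  rwa [MulAut.conj_apply] at this

/-- For `ψ` in the block `B`, some irreducible `χ` has `hzc p χ ψ` outside the local ideal. -/
theorem exists_hzc_not_memLocalIdeal {p : ℕ} {M : Ideal Cfsg.AlgInt} (hM : Cfsg.IsPModular p M)
    {B : Set (Cfsg.IrrCharacter G)} (hB : Cfsg.IsPBlock M B) {ψ : Cfsg.IrrCharacter G}
    (hψ : ψ ∈ B) :
    ∃ χ : Cfsg.IrrCharacter G, ¬ Cfsg.MemLocalIdeal M (hzc p (χ : G → ℂ) (ψ : G → ℂ)) := by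
  classical
  have := Fintype.ofFinite (Cfsg.IrrCharacter G)
  have hp := hM.1
  have hMm := hM.2.1
  by_contra hcon
  have hcon' : ∀ χ : Cfsg.IrrCharacter G,
      Cfsg.MemLocalIdeal M (hzc p (χ : G → ℂ) (ψ : G → ℂ)) := by
    intro χ
    by_contra h
    exact hcon ⟨χ, h⟩
  obtain ⟨g, hg⟩ := Cfsg.Agent.Helper77.exists_isDefectClass hMm hB
  have hgψ := hg.2.2 ψ hψ
  have hreg : ¬ p ∣ orderOf g := by
    intro hdvd
    apply hg.2.1
    rw [Cfsg.Agent.Helper77.blockCoeff_eq_zero_of_dvd_orderOf hM hB hdvd]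
    exact Cfsg.Agent.Helper77.memLocalIdeal_zero hMm
  have hcard0 : Nat.card G ≠ 0 := Nat.card_pos.ne'
  obtain ⟨a, ha⟩ : ∃ a, a = (Nat.card G).factorization p := ⟨_, rfl⟩
  obtain ⟨m, hm⟩ : ∃ m, m = p ^ a := ⟨_, rfl⟩
  obtain ⟨n, hn⟩ : ∃ n, n = Nat.card G / p ^ a := ⟨_, rfl⟩
  have hmn : Nat.card G = m * n := by
    rw [hm, hn, ha]
    exact (Nat.ordProj_mul_ordCompl_eq_self (Nat.card G) p).symm
  have hpn : ¬ p ∣ n := by
    rw [hn, ha]
    exact Nat.not_dvd_ordCompl hp hcard0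
  have hcop : Nat.Coprime m n := by
    rw [hm]
    exact Nat.Coprime.pow_left a ((Nat.Prime.coprime_iff_not_dvd hp).mpr hpn)
  obtain ⟨t, s, hts⟩ := Nat.isCoprime_iff_coprime.mpr hcop
  have hst : (n : ℤ) * s + (m : ℤ) * t = 1 := by linarith
  obtain ⟨ϑ, hϑdef⟩ : ∃ ϑ : G → ℂ,
      ϑ = fun x => if IsConj (x ^ ((m : ℤ) * t)) g then (n : ℂ) else 0 := ⟨_, rfl⟩
  have hϑ : ϑ ∈ genSpanA G :=
    Cfsg.Agent.Helper15.piPart_mem_genSpanA m n hmn hcop g s t hst ϑ
      (fun x hx => by rw [hϑdef]; exact if_pos hx) (fun x hx => by rw [hϑdef]; exact if_neg hx)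
  -- `pregConj p ϑ` is `n` times the class sum of `g`
  have hpc : pregConj p ϑ = (n : ℂ) • Cfsg.Agent.Helper81.classInd g := by
    funext x
    unfold pregConj
    simp only [Pi.smul_apply, smul_eq_mul, Cfsg.Agent.Helper81.classInd]
    by_cases hx : p ∣ orderOf x
    · rw [if_pos hx]
      have : ¬ IsConj g x := by
        intro hc
        apply hreg
        rw [← orderOf_eq_of_isConj hc]
        exact hx
      rw [if_neg this, mul_zero]
    · rw [if_neg hx]
      have hxn : orderOf x ∣ n := by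
        have h1 : orderOf x ∣ m * n := by rw [← hmn]; exact orderOf_dvd_natCard x
        have h2 : Nat.Coprime (orderOf x) m := by
          rw [hm]
          exact Nat.Coprime.pow_right a ((Nat.Prime.coprime_iff_not_dvd hp).mpr hx).symm
        exact h2.dvd_of_dvd_mul_left h1
      have hxpow : x ^ ((m : ℤ) * t) = x := by
        have h3 : (m : ℤ) * t = 1 - (n : ℤ) * s := by linarith
        have h4 : x ^ (n : ℤ) = 1 := by
          rw [zpow_natCast]
          exact orderOf_dvd_iff_pow_eq_one.mp hxn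
        rw [h3, zpow_sub, zpow_one, zpow_mul, h4, one_zpow, inv_one, mul_one]
      rw [hϑdef]
      simp only [hxpow]
      by_cases hc : IsConj x g
      · rw [if_pos hc, if_pos hc.symm]
        simp
      · rw [if_neg hc, if_neg (fun h => hc h.symm)]
        simp
  have hom : Cfsg.Agent.Helper81.omega (ψ : G → ℂ) (pregConj p ϑ)
      = (n : ℂ) * Cfsg.centralChar (ψ : G → ℂ) g := by
    rw [hpc, Cfsg.Agent.Helper81.omega_smul, Cfsg.Agent.Helper81.omega_classInd]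
  have hexp := Cfsg.Agent.Helper3.classFunction_eq_sum ϑ (isClassFunction_of_mem_genSpanA hϑ)
  have hom2 : Cfsg.Agent.Helper81.omega (ψ : G → ℂ) (pregConj p ϑ)
      = ∑ χ : Cfsg.IrrCharacter G, conj (Cfsg.classInner ϑ (χ : G → ℂ))
          * hzc p (χ : G → ℂ) (ψ : G → ℂ) := by
    conv_lhs => rw [hexp]
    rw [pregConj_finset_sum, omega_finset_sum]
    rfl
  have hmem : Cfsg.MemLocalIdeal M ((n : ℂ) * Cfsg.centralChar (ψ : G → ℂ) g) := by
    rw [← hom, hom2]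
    refine Cfsg.Agent.Helper77.memLocalIdeal_sum hMm _ _ fun χ _ => ?_
    refine Cfsg.Agent.Helper77.memLocalIdeal_mul hMm ?_ (hcon' χ)
    exact Cfsg.Agent.Helper77.memLocalRing_of_isIntegral hMm
      (map_isIntegral_int (starRingEnd ℂ) (classInner_algInt_of_mem_genSpanA hϑ χ))
  rcases Cfsg.Agent.Helper16.memLocalIdeal_or_of_mul hMm
    (Cfsg.Agent.Helper81.memLocalRing_natCast hMm.ne_top n) hmem with h1 | h1
  · exact Cfsg.Agent.Helper77.not_memLocalIdeal_natCast hM hpn h1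
  · exact hgψ h1

omit [Fintype G] in
theorem factorization_pow_mul_of_not_dvd {p : ℕ} (hp : p.Prime) (v n' : ℕ) (h : ¬ p ∣ n') :
    (p ^ v * n').factorization p = v := by
  rw [Nat.factorization_mul (pow_ne_zero v hp.ne_zero)
    (fun h0 => h (by rw [h0]; exact dvd_zero p))]
  simp [hp.factorization_self, Nat.factorization_eq_zero_of_not_dvd h]

/-- If `hzc p ψ χ` is a local unit then `ν_p(ψ 1) ≤ ν_p(χ 1)`; if moreover the valuations agree,
`hzc p χ ψ` is a local unit as well. -/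
theorem factorization_le_of_hzc {p : ℕ} {M : Ideal Cfsg.AlgInt} (hM : Cfsg.IsPModular p M)
    (χ ψ : Cfsg.IrrCharacter G)
    (h : ¬ Cfsg.MemLocalIdeal M (hzc p (ψ : G → ℂ) (χ : G → ℂ))) :
    (Cfsg.charDegree (ψ : G → ℂ)).factorization p ≤ (Cfsg.charDegree (χ : G → ℂ)).factorization p ∧
    ((Cfsg.charDegree (ψ : G → ℂ)).factorization p = (Cfsg.charDegree (χ : G → ℂ)).factorization p →
      ¬ Cfsg.MemLocalIdeal M (hzc p (χ : G → ℂ) (ψ : G → ℂ))) := by
  have hp := hM.1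
  have hMm := hM.2.1
  have hnat : ∀ j : ℕ, Cfsg.MemLocalRing M (j : ℂ) := fun j =>
    Cfsg.Agent.Helper81.memLocalRing_natCast hMm.ne_top j
  have hsym := hzc_mul_symm hp χ ψ
  rw [Cfsg.Agent.Helper81.irr_one_eq_charDegree, Cfsg.Agent.Helper81.irr_one_eq_charDegree] at hsym
  obtain ⟨i, u, hu, hiu⟩ := Nat.exists_eq_pow_mul_and_not_dvd
    (Cfsg.Agent.Helper81.charDegree_pos ψ).ne' p hp.ne_one
  obtain ⟨j, v, hv, hjv⟩ := Nat.exists_eq_pow_mul_and_not_dvd
    (Cfsg.Agent.Helper81.charDegree_pos χ).ne' p hp.ne_one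
  have hi : (Cfsg.charDegree (ψ : G → ℂ)).factorization p = i := by
    rw [hiu]; exact factorization_pow_mul_of_not_dvd hp i u hu
  have hj : (Cfsg.charDegree (χ : G → ℂ)).factorization p = j := by
    rw [hjv]; exact factorization_pow_mul_of_not_dvd hp j v hv
  rw [hi, hj]
  rw [hiu, hjv] at hsym
  push_cast at hsym
  have hpc : (p : ℂ) ≠ 0 := by exact_mod_cast hp.ne_zero
  have hvI := Cfsg.Agent.Helper77.not_memLocalIdeal_natCast hM hv
  have hr1 := hzc_memLocalRing hMm p χ ψ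
  have hr2 := hzc_memLocalRing hMm p ψ χ
  have hij : i ≤ j := by
    by_contra hlt
    rw [not_le] at hlt
    obtain ⟨e, he⟩ : ∃ e, i = j + 1 + e := ⟨i - j - 1, by omega⟩
    have h1 : hzc p (ψ : G → ℂ) (χ : G → ℂ) * (v : ℂ)
        = (p : ℂ) * ((p : ℂ) ^ e * (u : ℂ) * hzc p (χ : G → ℂ) (ψ : G → ℂ)) := by
      have h2 : (p : ℂ) ^ j * (hzc p (ψ : G → ℂ) (χ : G → ℂ) * (v : ℂ))
          = (p : ℂ) ^ j * ((p : ℂ) * ((p : ℂ) ^ e * (u : ℂ) * hzc p (χ : G → ℂ) (ψ : G → ℂ))) := by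
        rw [he] at hsym
        linear_combination -hsym
      exact mul_left_cancel₀ (pow_ne_zero j hpc) h2
    have h3 : Cfsg.MemLocalIdeal M (hzc p (ψ : G → ℂ) (χ : G → ℂ) * (v : ℂ)) := by
      rw [h1]
      refine Cfsg.Agent.Helper77.memLocalIdeal_mul' hMm
        (Cfsg.Agent.Helper77.memLocalIdeal_prime hM) ?_
      refine Cfsg.Agent.Helper77.memLocalRing_mul hMm
        (Cfsg.Agent.Helper77.memLocalRing_mul hMm ?_ (hnat u)) hr1
      have := hnat (p ^ e)
      simpa using this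
    rcases Cfsg.Agent.Helper16.memLocalIdeal_or_of_mul hMm hr2 h3 with h4 | h4
    · exact h h4
    · exact hvI h4
  refine ⟨hij, fun heq hI => ?_⟩
  rw [heq] at hsym
  have h1 : hzc p (ψ : G → ℂ) (χ : G → ℂ) * (v : ℂ)
      = hzc p (χ : G → ℂ) (ψ : G → ℂ) * (u : ℂ) := by
    have h2 : (p : ℂ) ^ j * (hzc p (ψ : G → ℂ) (χ : G → ℂ) * (v : ℂ))
        = (p : ℂ) ^ j * (hzc p (χ : G → ℂ) (ψ : G → ℂ) * (u : ℂ)) := by
      linear_combination -hsym
    exact mul_left_cancel₀ (pow_ne_zero j hpc) h2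
  have h3 : Cfsg.MemLocalIdeal M (hzc p (ψ : G → ℂ) (χ : G → ℂ) * (v : ℂ)) := by
    rw [h1]
    exact Cfsg.Agent.Helper77.memLocalIdeal_mul' hMm hI (hnat u)
  rcases Cfsg.Agent.Helper16.memLocalIdeal_or_of_mul hMm hr2 h3 with h4 | h4
  · exact h h4
  · exact hvI h4

/-- **Brauer's height zero theorem**: for `χ, ψ` in the block `B`, the number
`(∑_{x p-regular} conj (χ x) ψ x) / ψ 1` is a local unit iff `χ` has height zero. -/
theorem hzc_not_memLocalIdeal_iff {p : ℕ} {M : Ideal Cfsg.AlgInt} (hM : Cfsg.IsPModular p M)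
    {B : Set (Cfsg.IrrCharacter G)} (hB : Cfsg.IsPBlock M B) {χ ψ : Cfsg.IrrCharacter G}
    (hχ : χ ∈ B) (hψ : ψ ∈ B) :
    ¬ Cfsg.MemLocalIdeal M (hzc p (χ : G → ℂ) (ψ : G → ℂ))
      ↔ Cfsg.blockHeight p B (χ : G → ℂ) = 0 := by
  have hMm := hM.2.1
  constructor
  · intro h
    obtain ⟨χ₀, hχ₀, h0⟩ := Cfsg.Agent.Helper16.exists_height_zero (p := p) hMm hB
    have h1 := hzc_not_memLocalIdeal_congr hMm p hB χ hψ hχ₀ h
    have h2 := (factorization_le_of_hzc hM χ₀ χ h1).1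
    unfold Cfsg.blockHeight at h0 ⊢
    omega
  · intro h0
    obtain ⟨χ₁, h1⟩ := exists_hzc_not_memLocalIdeal hM hB hψ
    have hχ₁ : χ₁ ∈ B := by
      by_contra hnot
      apply h1
      rw [hzc_eq_zero_of_not_mem hM hB hnot hψ]
      exact Cfsg.Agent.Helper77.memLocalIdeal_zero hMm
    have h2 := hzc_not_memLocalIdeal_congr hMm p hB χ₁ hψ hχ h1
    have h3 := factorization_le_of_hzc hM χ χ₁ h2
    have h4 : sInf ((fun χ : Cfsg.IrrCharacter G =>
        (Cfsg.charDegree (χ : G → ℂ)).factorization p) '' B)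
        ≤ (Cfsg.charDegree (χ₁ : G → ℂ)).factorization p := Nat.sInf_le ⟨χ₁, hχ₁, rfl⟩
    unfold Cfsg.blockHeight at h0
    have h5 := h3.2 (by omega)
    exact hzc_not_memLocalIdeal_congr hMm p hB χ hχ₁ hψ h5

/-- Valuation form: with `n = [p^a χ°, ψ]`, `hzc p χ ψ` is a local unit iff `n ≠ 0` and
`ν_p(n) = ν_p(ψ 1)`; in any case `ν_p(ψ 1) ≤ ν_p(n)` when `n ≠ 0`. -/
theorem classInner_val_iff {p : ℕ} {M : Ideal Cfsg.AlgInt} (hM : Cfsg.IsPModular p M)
    (χ ψ : Cfsg.IrrCharacter G) (n : ℤ)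
    (hn : Cfsg.classInner (pregTilde p (χ : G → ℂ)) (ψ : G → ℂ) = (n : ℂ)) :
    (n ≠ 0 → (Cfsg.charDegree (ψ : G → ℂ)).factorization p ≤ padicValInt p n) ∧
    (¬ Cfsg.MemLocalIdeal M (hzc p (χ : G → ℂ) (ψ : G → ℂ))
      ↔ n ≠ 0 ∧ padicValInt p n = (Cfsg.charDegree (ψ : G → ℂ)).factorization p) := by
  have hp := hM.1
  have hpf : Fact p.Prime := ⟨hp⟩
  have hMm := hM.2.1
  have hcard0 : Nat.card G ≠ 0 := Nat.card_pos.ne'
  obtain ⟨N, hN⟩ : ∃ N, N = Nat.card G / p ^ (Nat.card G).factorization p := ⟨_, rfl⟩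
  have hpN : ¬ p ∣ N := by rw [hN]; exact Nat.not_dvd_ordCompl hp hcard0
  have hN0 : (N : ℤ) ≠ 0 := by
    have : N ≠ 0 := fun h0 => hpN (by rw [h0]; exact dvd_zero p)
    exact_mod_cast this
  have hk : (((N : ℤ) * n : ℤ) : ℂ)
      = (Cfsg.charDegree (ψ : G → ℂ) : ℂ) * hzc p (χ : G → ℂ) (ψ : G → ℂ) := by
    rw [← ordCompl_mul_classInner_eq hp, hn, ← hN]
    push_cast
    ring
  have hval := localRing_int_val hM ((N : ℤ) * n) (Cfsg.charDegree (ψ : G → ℂ))
    (Cfsg.Agent.Helper81.charDegree_pos ψ).ne' _ (hzc_memLocalRing hMm p χ ψ) hk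
  have hkn : (N : ℤ) * n ≠ 0 ↔ n ≠ 0 := by
    constructor
    · intro h h0; exact h (by rw [h0, mul_zero])
    · intro h; exact mul_ne_zero hN0 h
  have hpv : n ≠ 0 → padicValInt p ((N : ℤ) * n) = padicValInt p n := by
    intro hn0
    rw [padicValInt.mul hN0 hn0, padicValInt.of_nat, padicValNat.eq_zero_of_not_dvd hpN, zero_add]
  constructor
  · intro hn0
    have := hval.1 (hkn.mpr hn0)
    rwa [hpv hn0] at this
  · rw [hval.2, hkn]
    constructor
    · rintro ⟨h1, h2⟩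
      exact ⟨h1, by rw [← hpv h1]; exact h2⟩
    · rintro ⟨h1, h2⟩
      exact ⟨h1, by rw [hpv h1]; exact h2⟩

/-- **Height zero criterion** (Brauer): for `χ, ψ ∈ B` and `n = [p^a χ°, ψ]`, `χ` has height zero
iff `n ≠ 0` and `ν_p(n) = ν_p(ψ 1)`. -/
theorem height_zero_iff_classInner {p : ℕ} {M : Ideal Cfsg.AlgInt} (hM : Cfsg.IsPModular p M)
    {B : Set (Cfsg.IrrCharacter G)} (hB : Cfsg.IsPBlock M B) {χ ψ : Cfsg.IrrCharacter G}
    (hχ : χ ∈ B) (hψ : ψ ∈ B) (n : ℤ)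
    (hn : Cfsg.classInner (pregTilde p (χ : G → ℂ)) (ψ : G → ℂ) = (n : ℂ)) :
    Cfsg.blockHeight p B (χ : G → ℂ) = 0
      ↔ n ≠ 0 ∧ padicValInt p n = (Cfsg.charDegree (ψ : G → ℂ)).factorization p :=
  (hzc_not_memLocalIdeal_iff hM hB hχ hψ).symm.trans (classInner_val_iff hM χ ψ n hn).2

end hz

end Cfsg.Agent.Helper73
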