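import Cfsg.Agent.Helper73.HeightZero
import Cfsg.Agent.Helper16.BlockInd

/-!
# Height zero characters and induced blocks

Let `b` be a block of `H ≤ G` inducing the block `B₀` of `G`, `χ ∈ Irr(G)`, `ψ ∈ b` and
`θ = χ|_H`.

* `hzc_res_sub_memLocalIdeal`: `hzc p θ ψ ≡ hzc p χ χ'` modulo the local ideal, for `χ' ∈ B₀`.
* `hzc_res_memLocalIdeal`: if `χ ∉ B₀` then `hzc p θ ψ` is in the local ideal.
* `hzc_res_not_memLocalIdeal`: if `χ ∈ B₀` has height zero then `hzc p θ ψ` is a local unit.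
* `classInner_pregTilde_div_eq`: `[p^a θ°, ψ] / ψ 1 = hzc p θ ψ / (|H|/p^a)` for a generalized
  character `θ` of `H`.
* `hzc_eq_sum_irr`: `hzc p θ ψ = ∑_ξ conj [θ, ξ] * hzc p ξ ψ` for a class function `θ`.
-/

set_option autoImplicit false
open Cfsg
open scoped ComplexConjugate

namespace Cfsg.Agent.Helper73

universe u

section hzind

variable {G : Type u} [Group G] [Fintype G]

omit [Fintype G] in
theorem pregConj_res (p : ℕ) (H : Subgroup G) (χ : G → ℂ) :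
    (fun h : H => pregConj p χ (h : G)) = pregConj p (fun h : H => χ h) := by
  funext h
  unfold pregConj
  rw [Subgroup.orderOf_coe]

/-- Induced blocks: `hzc` of the restriction is congruent to `hzc` in `G`. -/
theorem hzc_res_sub_memLocalIdeal {p : ℕ} {M : Ideal Cfsg.AlgInt} (hM : Cfsg.IsPModular p M)
    (H : Subgroup G) [Fintype H] {b : Set (Cfsg.IrrCharacter H)} {B₀ : Set (Cfsg.IrrCharacter G)}
    (hind : Cfsg.IsInducedBlock M H b B₀) (χ : Cfsg.IrrCharacter G) {ψ : Cfsg.IrrCharacter H}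
    (hψ : ψ ∈ b) {χ' : Cfsg.IrrCharacter G} (hχ' : χ' ∈ B₀) :
    Cfsg.MemLocalIdeal M (hzc p (fun h : H => (χ : G → ℂ) h) (ψ : H → ℂ)
      - hzc p (χ : G → ℂ) (χ' : G → ℂ)) := by
  have h := Cfsg.Agent.Helper16.omega_res_sub_memLocalIdeal hM.2.1 H hind hψ hχ'
    (pregConj_isClassFunction p (Cfsg.Agent.Helper81.irr_isClassFunction χ))
    (pregConj_memLocalRing hM.2.1 p χ)
  rw [pregConj_res] at h
  exact h

theorem hzc_res_memLocalIdeal {p : ℕ} {M : Ideal Cfsg.AlgInt} (hM : Cfsg.IsPModular p M)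
    (H : Subgroup G) [Fintype H] {b : Set (Cfsg.IrrCharacter H)} {B₀ : Set (Cfsg.IrrCharacter G)}
    (hind : Cfsg.IsInducedBlock M H b B₀) {χ : Cfsg.IrrCharacter G} (hχ : χ ∉ B₀)
    {ψ : Cfsg.IrrCharacter H} (hψ : ψ ∈ b) :
    Cfsg.MemLocalIdeal M (hzc p (fun h : H => (χ : G → ℂ) h) (ψ : H → ℂ)) := by
  obtain ⟨χ', hχ'⟩ := Cfsg.Agent.Helper16.exists_mem_of_isPBlock hM.2.1 hind.2.1
  have h := hzc_res_sub_memLocalIdeal hM H hind χ hψ hχ'
  rwa [hzc_eq_zero_of_not_mem hM hind.2.1 hχ hχ', sub_zero] at h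

theorem hzc_res_not_memLocalIdeal {p : ℕ} {M : Ideal Cfsg.AlgInt} (hM : Cfsg.IsPModular p M)
    (H : Subgroup G) [Fintype H] {b : Set (Cfsg.IrrCharacter H)} {B₀ : Set (Cfsg.IrrCharacter G)}
    (hind : Cfsg.IsInducedBlock M H b B₀) {χ : Cfsg.IrrCharacter G} (hχ : χ ∈ B₀)
    (h0 : Cfsg.blockHeight p B₀ (χ : G → ℂ) = 0) {ψ : Cfsg.IrrCharacter H} (hψ : ψ ∈ b) :
    ¬ Cfsg.MemLocalIdeal M (hzc p (fun h : H => (χ : G → ℂ) h) (ψ : H → ℂ)) := by
  intro hI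
  have h := hzc_res_sub_memLocalIdeal hM H hind χ hψ hχ
  have h1 := (hzc_not_memLocalIdeal_iff hM hind.2.1 hχ hχ).mpr h0
  apply h1
  have h2 := Cfsg.Agent.Helper77.memLocalIdeal_sub hM.2.1 hI h
  rwa [sub_sub_cancel] at h2

/-- For a generalized character `θ` and an irreducible `ψ`:
`(|G|/p^a) * [p^a θ°, ψ] = ψ(1) * hzc p θ ψ`. -/
theorem ordCompl_mul_classInner_eq' {p : ℕ} (hp : p.Prime) {θ : G → ℂ} (hθ : θ ∈ genSpanZ G)
    (ψ : Cfsg.IrrCharacter G) :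
    ((Nat.card G / p ^ (Nat.card G).factorization p : ℕ) : ℂ)
        * Cfsg.classInner (pregTilde p θ) (ψ : G → ℂ)
      = (ψ : G → ℂ) 1 * hzc p θ (ψ : G → ℂ) := by
  obtain ⟨n, hn⟩ := classInner_int_of_mem_genSpanZ (pregTilde_mem_genSpanZ hp hθ) ψ
  have h1 := pregInner_eq_ordCompl_mul p hp θ (ψ : G → ℂ)
  have h2 : Cfsg.Agent.Helper77.pregInner p (ψ : G → ℂ) θ
      = Cfsg.Agent.Helper77.pregInner p θ (ψ : G → ℂ) := by
    rw [← Cfsg.Agent.Helper77.conj_pregInner, h1, hn]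
    simp
  rw [← h1, ← h2, ← hzc_mul_one, mul_comm]

/-- `[p^a θ°, ψ] / ψ 1` is in the local ideal iff `hzc p θ ψ` is. -/
theorem memLocalIdeal_classInner_div_iff {p : ℕ} {M : Ideal Cfsg.AlgInt}
    (hM : Cfsg.IsPModular p M) {θ : G → ℂ} (hθ : θ ∈ genSpanZ G) (ψ : Cfsg.IrrCharacter G) :
    Cfsg.MemLocalIdeal M (Cfsg.classInner (pregTilde p θ) (ψ : G → ℂ) / (ψ : G → ℂ) 1)
      ↔ Cfsg.MemLocalIdeal M (hzc p θ (ψ : G → ℂ)) := by
  have hp := hM.1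
  have hMm := hM.2.1
  have hcard0 : Nat.card G ≠ 0 := Nat.card_pos.ne'
  obtain ⟨N, hN⟩ : ∃ N, N = Nat.card G / p ^ (Nat.card G).factorization p := ⟨_, rfl⟩
  have hpN : ¬ p ∣ N := by rw [hN]; exact Nat.not_dvd_ordCompl hp hcard0
  have hNc : (N : ℂ) ≠ 0 := by
    have : N ≠ 0 := fun h0 => hpN (by rw [h0]; exact dvd_zero p)
    exact_mod_cast this
  have h1 := ordCompl_mul_classInner_eq' hp hθ ψ
  rw [← hN] at h1
  have hψ1 := Cfsg.Agent.Helper81.irr_one_ne_zero ψ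
  have h2 : hzc p θ (ψ : G → ℂ)
      = (N : ℂ) * (Cfsg.classInner (pregTilde p θ) (ψ : G → ℂ) / (ψ : G → ℂ) 1) := by
    rw [mul_div_assoc', h1, mul_comm, mul_div_assoc, div_self hψ1, mul_one]
  have h3 : Cfsg.classInner (pregTilde p θ) (ψ : G → ℂ) / (ψ : G → ℂ) 1
      = (N : ℂ)⁻¹ * hzc p θ (ψ : G → ℂ) := by
    rw [h2, ← mul_assoc, inv_mul_cancel₀ hNc, one_mul]
  constructor
  · intro h
    rw [h2]
    exact Cfsg.Agent.Helper77.memLocalIdeal_mul hMm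
      (Cfsg.Agent.Helper81.memLocalRing_natCast hMm.ne_top N) h
  · intro h
    rw [h3]
    exact Cfsg.Agent.Helper77.memLocalIdeal_mul hMm
      (Cfsg.Agent.Helper77.memLocalRing_natCast_inv hM hpN) h

/-- Expansion of `hzc p θ ψ` along the irreducible constituents of a class function `θ`. -/
theorem hzc_eq_sum_irr [Fintype (Cfsg.IrrCharacter G)] (p : ℕ) {θ : G → ℂ}
    (hθ : Cfsg.IsClassFunction G θ) (ψ : G → ℂ) :
    hzc p θ ψ = ∑ ξ : Cfsg.IrrCharacter G,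
      conj (Cfsg.classInner θ (ξ : G → ℂ)) * hzc p (ξ : G → ℂ) ψ := by
  unfold hzc
  conv_lhs => rw [Cfsg.Agent.Helper3.classFunction_eq_sum θ hθ]
  rw [pregConj_finset_sum, omega_finset_sum]

end hzind

end Cfsg.Agent.Helper73
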