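import Cfsg.Agent.Helper73.HeightZeroInd
import Cfsg.Agent.Helper16.BlockPart
import Cfsg.Agent.Helper3.Taketa
import Cfsg.Agent.Helper3.IndFun
import Cfsg.Agent.Helper3.Induced
import Cfsg.Agent.Helper77.PrincipalConst

/-!
# Block parts of induced characters

* `blockPart_eq_finsum`: `blockPart` with respect to a given `Fintype` instance.
* `sum_mul_indFun`: `∑_g f(g) ξ^G(g) = |G:H| ∑_h f(h) ξ(h)` for a class function `f`.
* `blockPart_indFun_one`: `(ξ^G)_B(1) = |G:H| ξ(1) Ω_ξ(f_B|_H)`.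
* `blockPart_isCharacter_one_nat`: the value at `1` of a block part of a character is a natural
  number.
* `blockPart_indFun_val`: the `p`-adic valuation statement (Brauer): for `b^G = B₀`, `ξ ∈ b`.
-/

set_option autoImplicit false
open Cfsg
open scoped ComplexConjugate

namespace Cfsg.Agent.Helper73

universe u

variable {G : Type u} [Group G] [Fintype G]

theorem blockPart_eq_finsum (B : Set (Cfsg.IrrCharacter G)) (ϑ : G → ℂ) (y : G) :
    Cfsg.blockPart B ϑ y = ∑ᶠ ψ ∈ B, Cfsg.classInner ϑ (ψ : G → ℂ) * (ψ : G → ℂ) y := by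
  rw [Helper77.blockPart_apply]
  apply finsum_mem_congr rfl
  intro ψ _
  rw [Cfsg.classInner, finsum_eq_sum_of_fintype]

theorem sum_mul_indFun (H : Subgroup G) [Fintype H] {f : G → ℂ}
    (hf : Cfsg.IsClassFunction G f) (ξ : H → ℂ) :
    ∑ k : G, f k * Cfsg.indFun H ξ k = (H.index : ℂ) * ∑ h : H, f h * ξ h := by
  have hfc : Cfsg.IsClassFunction G (fun g => conj (f g)) := by
    intro g x
    show conj (f (x * g * x⁻¹)) = conj (f g)
    rw [hf g x]
  have h1 := Helper3.frobenius_reciprocity H ξ (fun g => conj (f g)) hfc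
  unfold Cfsg.classInner at h1
  simp only [Complex.conj_conj] at h1
  have hG : (Nat.card G : ℂ) ≠ 0 := by exact_mod_cast Nat.card_pos.ne'
  have hH : (Nat.card H : ℂ) ≠ 0 := by exact_mod_cast Nat.card_pos.ne'
  have hidx : (Nat.card G : ℂ) = (Nat.card H : ℂ) * (H.index : ℂ) := by
    exact_mod_cast (Subgroup.card_mul_index H).symm
  have e1 : ∑ k : G, f k * Cfsg.indFun H ξ k = ∑ k : G, Cfsg.indFun H ξ k * f k :=
    Finset.sum_congr rfl fun k _ => mul_comm _ _
  have e2 : ∑ h : H, f h * ξ h = ∑ h : H, ξ h * f h :=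
    Finset.sum_congr rfl fun k _ => mul_comm _ _
  rw [e1, e2]
  have h2 : ∑ k : G, Cfsg.indFun H ξ k * f k
      = (Nat.card G : ℂ) * ((Nat.card H : ℂ)⁻¹ * ∑ h : H, ξ h * f h) := by
    rw [← h1, ← mul_assoc, mul_inv_cancel₀ hG, one_mul]
  rw [h2, hidx]
  field_simp

theorem blockPart_indFun_one (H : Subgroup G) [Fintype H] (B : Set (Cfsg.IrrCharacter G))
    (ξ : H → ℂ) (hξ1 : ξ 1 ≠ 0) :
    Cfsg.blockPart B (Cfsg.indFun H ξ) 1
      = (H.index : ℂ) * ξ 1 * Helper81.omega ξ (fun h : H => Cfsg.blockCoeff B h) := by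
  rw [blockPart_eq_finsum,
    Helper16.finsum_classInner_mul_eq_sum_blockCoeff B (Helper3.indFun_isClassFunction H ξ) 1]
  simp only [mul_one]
  rw [sum_mul_indFun H (Helper77.blockCoeff_isClassFunction B) ξ, Helper81.omega]
  field_simp

theorem blockPart_isCharacter_one_nat (B : Set (Cfsg.IrrCharacter G)) {ϑ : G → ℂ}
    (hϑ : Cfsg.IsCharacter G ϑ) : ∃ n : ℕ, Cfsg.blockPart B ϑ 1 = (n : ℂ) := by
  classical
  have hfin : B.Finite := Set.toFinite B
  have hm : ∀ ψ : Cfsg.IrrCharacter G, ∃ m : ℕ,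
      Cfsg.classInner ϑ (ψ : G → ℂ) * (ψ : G → ℂ) 1 = (m : ℂ) := by
    intro ψ
    obtain ⟨k, hk⟩ := Helper3.classInner_isCharacter_nat hϑ (Helper79.irr_isCharacter ψ)
    refine ⟨k * Cfsg.charDegree (ψ : G → ℂ), ?_⟩
    rw [hk, Helper81.irr_one_eq_charDegree]
    push_cast
    ring
  choose m hm using hm
  refine ⟨∑ᶠ ψ ∈ B, m ψ, ?_⟩
  rw [blockPart_eq_finsum]
  rw [Nat.cast_finsum_mem hfin]
  exact finsum_mem_congr rfl fun ψ _ => hm ψ

theorem charDegree_indFun_irr (H : Subgroup G) [Fintype H] (ξ : Cfsg.IrrCharacter H) :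
    Cfsg.charDegree (Cfsg.indFun H (ξ : H → ℂ)) = H.index * Cfsg.charDegree (ξ : H → ℂ) := by
  rw [Cfsg.charDegree, Helper3.indFun_apply_one, Helper81.irr_one_eq_charDegree]
  have : ((H.index : ℂ) * (Cfsg.charDegree (ξ : H → ℂ) : ℂ)).re
      = ((H.index * Cfsg.charDegree (ξ : H → ℂ) : ℕ) : ℝ) := by
    rw [← Nat.cast_mul, Complex.natCast_re]
  rw [this, Nat.floor_natCast]

/-- **Brauer**: if `b^G = B₀` and `ξ ∈ b`, then for a block `B` of `G` the value `n_B` at `1` of
the `B`-part of `ξ^G` satisfies `ν_p(n_B) = ν_p(ξ^G(1))` if `B = B₀`, and `n_B = 0` or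
`ν_p(n_B) > ν_p(ξ^G(1))` otherwise. -/
theorem blockPart_indFun_val {p : ℕ} {M : Ideal Cfsg.AlgInt}
    (hM : Cfsg.IsPModular p M) (H : Subgroup G) [Fintype H] {b : Set (Cfsg.IrrCharacter H)}
    {B₀ : Set (Cfsg.IrrCharacter G)} (hind : Cfsg.IsInducedBlock M H b B₀)
    {ξ : Cfsg.IrrCharacter H} (hξ : ξ ∈ b) {B : Set (Cfsg.IrrCharacter G)}
    (hB : Cfsg.IsPBlock M B) :
    ∃ n : ℕ, Cfsg.blockPart B (Cfsg.indFun H (ξ : H → ℂ)) 1 = (n : ℂ) ∧
      (B = B₀ → n ≠ 0 ∧ n.factorization p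
        = (Cfsg.charDegree (Cfsg.indFun H (ξ : H → ℂ))).factorization p) ∧
      (B ≠ B₀ → n = 0 ∨ (Cfsg.charDegree (Cfsg.indFun H (ξ : H → ℂ))).factorization p
        < n.factorization p) := by
  classical
  have hMm := hM.2.1
  obtain ⟨n, hn⟩ := blockPart_isCharacter_one_nat B
    (Helper3.isCharacter_indFun H (ξ : H → ℂ) (Helper79.irr_isCharacter ξ))
  refine ⟨n, hn, ?_⟩
  set D := Cfsg.charDegree (Cfsg.indFun H (ξ : H → ℂ)) with hDdef
  have hD : D = H.index * Cfsg.charDegree (ξ : H → ℂ) := charDegree_indFun_irr H ξ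
  have hD0 : D ≠ 0 := by
    rw [hD]
    have h1 : H.index ≠ 0 := Subgroup.index_ne_zero_of_finite
    exact Nat.mul_ne_zero h1 (Helper81.charDegree_pos ξ).ne'
  set r := Helper81.omega (ξ : H → ℂ) (fun h : H => Cfsg.blockCoeff B h) with hrdef
  have hnr : (n : ℂ) = (D : ℂ) * r := by
    rw [← hn, blockPart_indFun_one H B (ξ : H → ℂ) (Helper81.irr_one_ne_zero ξ), hD,
      Helper81.irr_one_eq_charDegree]
    push_cast
    ring
  obtain ⟨χ', hχ'⟩ := Helper16.exists_mem_of_isPBlock hMm hind.2.1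
  have hcong := Helper16.omega_res_sub_memLocalIdeal hMm H hind hξ hχ'
    (Helper77.blockCoeff_isClassFunction B) (Helper77.blockCoeff_memLocalRing hMm hB)
  have hr : Cfsg.MemLocalRing M r := by
    have h1 : Cfsg.MemLocalRing M (Helper81.omega (χ' : G → ℂ) (Cfsg.blockCoeff B)) :=
      Helper16.omega_memLocalRing hMm χ' (Helper77.blockCoeff_isClassFunction B)
        (Helper77.blockCoeff_memLocalRing hMm hB)
    have h2 := Helper77.memLocalRing_add hMm (Helper77.memLocalRing_of_memLocalIdeal hcong) h1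
    rwa [sub_add_cancel] at h2
  have hval := localRing_nat_val hM n D hD0 r hr hnr
  constructor
  · intro hBB
    subst hBB
    rw [Helper77.omega_blockCoeff_of_mem hχ'] at hcong
    apply hval.2.mp
    intro hr'
    apply Helper77.not_memLocalIdeal_one hMm
    have := Helper77.memLocalIdeal_sub hMm hr' hcong
    rwa [sub_sub_cancel] at this
  · intro hBB
    have hχB : χ' ∉ B := by
      intro hmem
      apply hBB
      rw [Helper16.eq_blockOf_of_mem hMm hB hmem, Helper16.eq_blockOf_of_mem hMm hind.2.1 hχ']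
    rw [Helper77.omega_blockCoeff_of_not_mem hχB, sub_zero] at hcong
    by_cases hn0 : n = 0
    · exact Or.inl hn0
    · right
      have h1 := hval.1 hn0
      have h2 : ¬ (n ≠ 0 ∧ n.factorization p = D.factorization p) := by
        rw [← hval.2]
        exact fun h => h hcong
      rcases lt_or_eq_of_le h1 with h3 | h3
      · exact h3
      · exact absurd ⟨hn0, h3.symm⟩ h2

end Cfsg.Agent.Helper73
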