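-- helper73 library: piece BURN of helper16's CALL S3702 (C_G(x) = W ⋊ φ(P₂) by Burnside transfer).
import Mathlib
import Cfsg.Agent.Helper16.S4Defs2
import Cfsg.Agent.Helper16.TICore

set_option autoImplicit false

open Cfsg Cfsg.Agent.Helper16 DihedralGroup

namespace Cfsg.Agent.Helper73

/-- PIECE BURN, with the three model facts `m_z`, `m_P_pow3`, `m_P_comm` as hypotheses:
`s4_xdata h hTI = s4_xdata_of m_z m_P_pow3 m_P_comm h hTI`. -/
theorem s4_xdata_of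
    (m_z : sJ sz ∧ sz ≠ 1 ∧ sz ^ 3 = 1 ∧ sP sz ∧ kap sz = 0 ∧ sE sz)
    (m_P_pow3 : ∀ p : SM, sP p → p ^ 3 = 1)
    (m_P_comm : ∀ p q : SM, sP p → sP q → p * q = q * p)
    {G : Type*} [Group G] {φ : SM →* G} [Finite G] (h : S4Cfg φ) (hTI : TICfg φ sE) :
    ∃ W : Subgroup G, XData φ W := by
  classical
  have : Fact (Nat.Prime 3) := ⟨by norm_num⟩
  obtain ⟨C, hC⟩ : ∃ C : Subgroup G, C = Subgroup.centralizer ({φ sx} : Set G) := ⟨_, rfl⟩
  have hCmem : ∀ c : G, c ∈ C ↔ c * φ sx = φ sx * c := by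
    intro c
    rw [hC, Subgroup.mem_centralizer_iff]
    constructor
    · intro hc
      exact (hc (φ sx) (Set.mem_singleton _)).symm
    · intro hc y hy
      rw [Set.mem_singleton_iff] at hy
      rw [hy]
      exact hc.symm
  obtain ⟨P0, hP0⟩ : ∃ P0 : Subgroup ↥C, ∀ c : ↥C, c ∈ P0 ↔ ∃ p : SM, sP p ∧ (c : G) = φ p := by
    refine ⟨{ carrier := {c | ∃ p : SM, sP p ∧ (c : G) = φ p}
              mul_mem' := ?_
              one_mem' := ?_
              inv_mem' := ?_ }, fun c => Iff.rfl⟩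
    · rintro a b ⟨p, hp, hpa⟩ ⟨q, hq, hqb⟩
      refine ⟨p * q, ?_, ?_⟩
      · unfold sP at hp hq ⊢
        rw [mul_assoc, hq, ← mul_assoc, hp, mul_assoc]
      · rw [Subgroup.coe_mul, hpa, hqb, map_mul]
    · exact ⟨1, by unfold sP; rw [one_mul, mul_one], by rw [Subgroup.coe_one, map_one]⟩
    · rintro a ⟨p, hp, hpa⟩
      refine ⟨p⁻¹, ?_, ?_⟩
      · unfold sP at hp ⊢
        rw [eq_mul_inv_iff_mul_eq, mul_assoc, ← hp, ← mul_assoc, inv_mul_cancel, one_mul]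
      · rw [Subgroup.coe_inv, hpa, map_inv]
  have hzP : sz * sx = sx * sz := m_z.2.2.2.1
  -- an element of `C` conjugating `z` into `H` lies in `P0`
  have hkey : ∀ q : ↥C, (∃ p : SM, (q : G) * φ sz * (q : G)⁻¹ = φ p) → q ∈ P0 := by
    rintro q ⟨p, hp⟩
    obtain ⟨q₀, hq₀⟩ := hTI.ti sz m_z.2.2.2.2.2 (q : G) ⟨p, hp.symm⟩
    rw [hP0]
    refine ⟨q₀, ?_, hq₀.symm⟩
    unfold sP
    apply h.inj
    rw [map_mul, map_mul, hq₀]
    exact (hCmem _).mp q.2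
  obtain ⟨z', hz'⟩ : ∃ z' : ↥C, (z' : G) = φ sz :=
    ⟨⟨φ sz, (hCmem _).mpr (by rw [← map_mul, ← map_mul, hzP])⟩, rfl⟩
  have hz'P0 : z' ∈ P0 := (hP0 z').mpr ⟨sz, hzP, hz'⟩
  have hP0p : IsPGroup 3 P0 := by
    rintro ⟨c, hc⟩
    obtain ⟨p, hp, hpc⟩ := (hP0 c).mp hc
    refine ⟨1, ?_⟩
    apply Subtype.ext
    apply Subtype.ext
    simp only [pow_one, Subgroup.coe_pow, Subgroup.coe_one]
    rw [hpc, ← map_pow, m_P_pow3 p hp, map_one]
  obtain ⟨Q, hQ⟩ := hP0p.exists_le_sylow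
  -- `P0` is a Sylow 3-subgroup of `C`
  have hQP0 : ∀ q : ↥C, q ∈ (Q : Subgroup ↥C) → q ∈ P0 := by
    by_contra hcon
    push Not at hcon
    obtain ⟨q, hqQ, hqP⟩ := hcon
    have hnil : Group.IsNilpotent ↥(Q : Subgroup ↥C) := Q.isPGroup'.isNilpotent
    have hN : NormalizerCondition ↥(Q : Subgroup ↥C) := Group.normalizerCondition_of_isNilpotent
    have hlt : P0.subgroupOf (Q : Subgroup ↥C) < ⊤ := by
      rw [lt_top_iff_ne_top]
      intro htop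
      have : (⟨q, hqQ⟩ : ↥(Q : Subgroup ↥C)) ∈ P0.subgroupOf (Q : Subgroup ↥C) := by
        rw [htop]
        exact Subgroup.mem_top _
      exact hqP (Subgroup.mem_subgroupOf.mp this)
    obtain ⟨n, hn, hnH⟩ := SetLike.exists_of_lt (hN _ hlt)
    apply hnH
    rw [Subgroup.mem_subgroupOf]
    apply hkey
    have h1 := (Subgroup.mem_normalizer_iff.mp hn ⟨z', hQ hz'P0⟩).mp
      (Subgroup.mem_subgroupOf.mpr hz'P0)
    rw [Subgroup.mem_subgroupOf] at h1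
    obtain ⟨p, -, hp⟩ := (hP0 _).mp h1
    refine ⟨p, ?_⟩
    rw [← hp]
    simp only [Subgroup.coe_mul, Subgroup.coe_inv, hz']
  have hQeq : (Q : Subgroup ↥C) = P0 := le_antisymm hQP0 hQ
  have hP : Subgroup.normalizer ((Q : Subgroup ↥C) : Set ↥C) ≤
      Subgroup.centralizer ((Q : Subgroup ↥C) : Set ↥C) := by
    intro n hn
    have hnP : n ∈ P0 := by
      apply hkey
      have h1 := (Subgroup.mem_normalizer_iff.mp hn z').mp (hQ hz'P0)
      rw [hQeq] at h1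
      obtain ⟨p, -, hp⟩ := (hP0 _).mp h1
      refine ⟨p, ?_⟩
      rw [← hp]
      simp only [Subgroup.coe_mul, Subgroup.coe_inv, hz']
    rw [Subgroup.mem_centralizer_iff]
    intro y hy
    have hyP : y ∈ P0 := by
      rw [← hQeq]
      exact hy
    obtain ⟨p, hp, hpn⟩ := (hP0 n).mp hnP
    obtain ⟨p', hp', hpy⟩ := (hP0 y).mp hyP
    apply Subtype.ext
    rw [Subgroup.coe_mul, Subgroup.coe_mul, hpn, hpy, ← map_mul, ← map_mul, m_P_comm p' p hp' hp]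
  have hcompl := MonoidHom.ker_transferSylow_isComplement' Q hP
  have hndvd := MonoidHom.not_dvd_card_ker_transferSylow Q hP
  obtain ⟨K, hK⟩ : ∃ K : Subgroup ↥C, K = (MonoidHom.transferSylow Q hP).ker := ⟨_, rfl⟩
  rw [← hK] at hcompl hndvd
  have hKn : K.Normal := by
    rw [hK]
    infer_instance
  refine ⟨K.map C.subtype, ?_, ?_, ?_, ?_⟩
  · rintro w ⟨k, -, rfl⟩
    exact (hCmem _).mp k.2
  · rintro c hc w ⟨k, hk, rfl⟩
    refine ⟨⟨c, (hCmem c).mpr hc⟩ * k * (⟨c, (hCmem c).mpr hc⟩ : ↥C)⁻¹, hKn.conj_mem k hk _, ?_⟩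
    simp
  · have h1 : Nat.card (K.map C.subtype) = Nat.card K :=
      Subgroup.card_map_of_injective C.subtype_injective
    rw [h1]
    exact ((Nat.Prime.coprime_iff_not_dvd (by norm_num)).mpr hndvd).symm
  · intro c hc
    obtain ⟨⟨k, p'⟩, hkp⟩ := hcompl.2 ⟨c, (hCmem c).mpr hc⟩
    have hp'P : (p' : ↥C) ∈ P0 := by
      rw [← hQeq]
      exact p'.2
    obtain ⟨p, hp, hpp⟩ := (hP0 _).mp hp'P
    refine ⟨((k : ↥C) : G), ⟨(k : ↥C), k.2, rfl⟩, p, hp, ?_⟩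
    have h2 := congrArg (fun z : ↥C => (z : G)) hkp
    simp only [Subgroup.coe_mul] at h2
    rw [← hpp, h2]

end Cfsg.Agent.Helper73
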