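-- helper73 library: piece VX1C of helper16's CALL S3702 (the count of NC(x)).
import Mathlib
import Cfsg.Agent.Helper16.S4Defs2
import Cfsg.Agent.Helper33.S4FIB

set_option autoImplicit false

open Cfsg Cfsg.Agent.Helper16 DihedralGroup

namespace Cfsg.Agent.Helper73

/-- `x` and `x⁻¹` in the model -/
def vxE : Fin 2 → SM := ![sx, sx⁻¹]

/-- the four elements of `P₂ ∖ (⟨x⟩ ∪ ⟨z⟩)` -/
def vxM : Fin 4 → SM := ![sx * sz, sx * sz⁻¹, sx⁻¹ * sz, sx⁻¹ * sz⁻¹]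

theorem vxE_facts : ∀ i : Fin 2, sP (vxE i) ∧ kap (vxE i) ≠ 0 ∧ vxE i ^ 3 = 1 ∧
    (vxE i = sx ∨ vxE i = sx⁻¹) := by decide

theorem vxE_inj : ∀ i j : Fin 2, vxE i = vxE j → i = j := by decide

theorem vxE_conj : ∀ i : Fin 2, vxE i = 1 * sx * 1⁻¹ ∨ vxE i = sb * sx * sb⁻¹ := by decide

theorem vxE_ne_vxM : ∀ (i : Fin 2) (j : Fin 4), vxE i ≠ vxM j := by decide

theorem vxM_facts : ∀ i : Fin 4, sP (vxM i) ∧ kap (vxM i) ≠ 0 ∧ vxM i ≠ 1 ∧ vxM i ≠ sx ∧
    vxM i ≠ sx⁻¹ := by decide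

theorem vxM_inj : ∀ i j : Fin 4, vxM i = vxM j → i = j := by decide

set_option maxRecDepth 1000000 in
theorem vxM_conj : ∀ i : Fin 4, ∃ s : SM, vxM i = s * sx * s⁻¹ := by decide +kernel

set_option maxRecDepth 1000000 in
theorem vx_cases : ∀ p : SM, sP p → kap p ≠ 0 →
    (∃ i : Fin 2, p = vxE i) ∨ ∃ i : Fin 4, p = vxM i := by decide +kernel

theorem vx_x3 : sx ^ 3 = 1 := by decide

/-- PIECE VX1C -/
theorem s4_vx1c {G : Type*} [Group G] {φ : SM →* G} {W : Subgroup G} [Finite G]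
    (h : S4Cfg φ) (hW : XData φ W) (hX : XFacts φ W) :
    Nat.card (s4NC φ W (φ sx)) = (2 + 4 * Nat.card W) * (9 * Nat.card W) := by
  classical
  obtain ⟨Y, hY⟩ : ∃ Y : Set G, Y = {y | (∃ w ∈ W, ∃ m : SM, sP m ∧ kap m ≠ 0 ∧ y = w * φ m) ∧
      ∃ t : G, t⁻¹ * φ sx * t = y} := ⟨_, rfl⟩
  have hNC : s4NC φ W (φ sx) = {t : G | t⁻¹ * φ sx * t ∈ Y} := by
    ext t
    rw [hY]
    constructor
    · rintro ⟨w, hw, m, hm, hk, ht⟩
      exact ⟨⟨w, hw, m, hm, hk, ht⟩, t, rfl⟩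
    · rintro ⟨⟨w, hw, m, hm, hk, ht⟩, -⟩
      exact ⟨w, hw, m, hm, hk, ht⟩
  have hfib := Cfsg.Agent.Helper33.s4_fib (φ sx) Y (by
    intro y hy
    rw [hY] at hy
    exact hy.2)
  obtain ⟨F, hFl, hFr⟩ : ∃ F : Fin 2 ⊕ (Fin 4 × ↥W) → G, (∀ i : Fin 2, F (Sum.inl i) = φ (vxE i)) ∧
      ∀ (i : Fin 4) (c : ↥W), F (Sum.inr (i, c)) = (c : G) * φ (vxM i) * (c : G)⁻¹ :=
    ⟨Sum.elim (fun i => φ (vxE i)) (fun ic => (ic.2 : G) * φ (vxM ic.1) * (ic.2 : G)⁻¹),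
      fun i => rfl, fun i c => rfl⟩
  have hA : ∀ m : SM, sP m → ∀ c ∈ W, ∃ w' ∈ W, c * φ m * c⁻¹ = w' * φ m := by
    intro m hm c hc
    have hmC : φ m * φ sx = φ sx * φ m := by
      rw [← map_mul, ← map_mul]
      exact congrArg φ hm
    refine ⟨c * (φ m * c⁻¹ * (φ m)⁻¹), W.mul_mem hc (hW.norm (φ m) hmC c⁻¹ (W.inv_mem hc)), ?_⟩
    group
  have hFinj : Function.Injective F := by
    rintro (i | ⟨i, c⟩) (j | ⟨j, c'⟩) hij
    · rw [hFl, hFl] at hij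
      rw [vxE_inj i j (h.inj hij)]
    · exfalso
      rw [hFl, hFr] at hij
      obtain ⟨w', hw', e⟩ := hA (vxM j) (vxM_facts j).1 c' c'.2
      rw [e, ← one_mul (φ (vxE i))] at hij
      exact vxE_ne_vxM i j
        (hX.uniq 1 W.one_mem w' hw' (vxE i) (vxM j) (vxE_facts i).1 (vxM_facts j).1 hij).2
    · exfalso
      rw [hFl, hFr] at hij
      obtain ⟨w', hw', e⟩ := hA (vxM i) (vxM_facts i).1 c c.2
      rw [e, ← one_mul (φ (vxE j))] at hij
      exact vxE_ne_vxM j i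
        (hX.uniq w' hw' 1 W.one_mem (vxM i) (vxE j) (vxM_facts i).1 (vxE_facts j).1 hij).2.symm
    · rw [hFr, hFr] at hij
      have hij0 := hij
      obtain ⟨w₁, hw₁, e₁⟩ := hA (vxM i) (vxM_facts i).1 c c.2
      obtain ⟨w₂, hw₂, e₂⟩ := hA (vxM j) (vxM_facts j).1 c' c'.2
      rw [e₁, e₂] at hij
      have hijeq : i = j := vxM_inj i j
        (hX.uniq w₁ hw₁ w₂ hw₂ (vxM i) (vxM j) (vxM_facts i).1 (vxM_facts j).1 hij).2
      subst hijeq
      have hd : (c' : G)⁻¹ * (c : G) * φ (vxM i) = φ (vxM i) * ((c' : G)⁻¹ * (c : G)) := by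
        calc (c' : G)⁻¹ * (c : G) * φ (vxM i)
            = (c' : G)⁻¹ * ((c : G) * φ (vxM i) * (c : G)⁻¹) * (c : G) := by group
          _ = (c' : G)⁻¹ * ((c' : G) * φ (vxM i) * (c' : G)⁻¹) * (c : G) := by rw [hij0]
          _ = φ (vxM i) * ((c' : G)⁻¹ * (c : G)) := by group
      have h1 := hX.cent (vxM i) (vxM_facts i).1 (vxM_facts i).2.2.1 (vxM_facts i).2.2.2.1
        (vxM_facts i).2.2.2.2 ((c' : G)⁻¹ * (c : G)) (W.mul_mem (W.inv_mem c'.2) c.2) hd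
      have h2 : c' = c := Subtype.ext (inv_mul_eq_one.mp h1)
      rw [h2]
  have hrange : Set.range F = Y := by
    ext y
    rw [hY]
    constructor
    · rintro ⟨s, rfl⟩
      rcases s with i | ⟨i, c⟩
      · refine ⟨⟨1, W.one_mem, vxE i, (vxE_facts i).1, (vxE_facts i).2.1, by rw [hFl, one_mul]⟩, ?_⟩
        rcases vxE_conj i with hs | hs
        · refine ⟨1, ?_⟩
          rw [hFl, hs]
          simp
        · refine ⟨(φ sb)⁻¹, ?_⟩
          rw [hFl, hs, map_mul, map_mul, map_inv, inv_inv]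
      · obtain ⟨w', hw', hcw⟩ := hA (vxM i) (vxM_facts i).1 c c.2
        refine ⟨⟨w', hw', vxM i, (vxM_facts i).1, (vxM_facts i).2.1, by rw [hFr, hcw]⟩, ?_⟩
        obtain ⟨s, hs⟩ := vxM_conj i
        refine ⟨((c : G) * φ s)⁻¹, ?_⟩
        rw [hFr, hs, map_mul, map_mul, map_inv]
        group
    · rintro ⟨⟨w, hw, m, hm, hk, rfl⟩, t, ht⟩
      rcases vx_cases m hm hk with ⟨i, rfl⟩ | ⟨i, rfl⟩
      · have hy3 : (w * φ (vxE i)) ^ 3 = 1 := by
          have h1 : (t⁻¹ * φ sx * t) ^ 3 = t⁻¹ * φ sx ^ 3 * t := by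
            have := conj_pow (a := t⁻¹) (b := φ sx) (i := 3)
            rwa [inv_inv] at this
          rw [← ht, h1, ← map_pow, vx_x3, map_one]
          group
        have hcomm : Commute w (φ (vxE i)) := by
          rcases (vxE_facts i).2.2.2 with he | he
          · rw [he]
            exact hW.le w hw
          · rw [he, map_inv]
            exact (Commute.inv_right (hW.le w hw) : Commute w (φ sx)⁻¹)
        have hw3 : w ^ 3 = 1 := by
          rw [hcomm.mul_pow, ← map_pow, (vxE_facts i).2.2.1, map_one, mul_one] at hy3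
          exact hy3
        have hw1 : w = 1 := by
          have h1 : orderOf w ∣ Nat.gcd (Nat.card W) 3 :=
            Nat.dvd_gcd (Subgroup.orderOf_dvd_natCard W hw) (orderOf_dvd_of_pow_eq_one hw3)
          rw [Nat.Coprime.gcd_eq_one hW.cop] at h1
          exact orderOf_eq_one_iff.mp (Nat.dvd_one.mp h1)
        refine ⟨Sum.inl i, ?_⟩
        rw [hFl, hw1, one_mul]
      · obtain ⟨c, hc, hcw⟩ := hX.frob (vxM i) (vxM_facts i).1 (vxM_facts i).2.2.1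
          (vxM_facts i).2.2.2.1 (vxM_facts i).2.2.2.2 w hw
        refine ⟨Sum.inr (i, ⟨c, hc⟩), ?_⟩
        rw [hFr]
        exact hcw
  have hcardY : Nat.card Y = 2 + 4 * Nat.card W := by
    have e2 : Nat.card (Fin 2) = 2 := by simp
    have e4 : Nat.card (Fin 4) = 4 := by simp
    rw [← hrange, Nat.card_range_of_injective hFinj, Nat.card_sum, Nat.card_prod, e2, e4]
  calc Nat.card (s4NC φ W (φ sx)) = Nat.card {t : G // t⁻¹ * φ sx * t ∈ Y} := by
        rw [hNC]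
        rfl
    _ = Nat.card Y * Nat.card (Subgroup.centralizer ({φ sx} : Set G)) := hfib
    _ = _ := by rw [hcardY, hX.card]

end Cfsg.Agent.Helper73
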