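/-
helper73: CALL S88OE (helper43), piece ELLMAP: `oe_ell_map`.
-/
import Mathlib
import Cfsg.Prelude.Def_GeometricClasses
import Cfsg.Prelude.Def_Classical

set_option autoImplicit false

namespace Cfsg.Agent.Helper73.S88OE

open Module Cfsg Cfsg.Geo
open scoped MatrixGroups

universe u

section conc

variable {ι : Type} [Fintype ι] [DecidableEq ι] {F : Type u} [Field F]

/-- an injective isometry preserves nondegeneracy, plus type and dimension -/
theorem oe_ell_map_aux (Q : (ι → F) → F) (T : Module.End F (ι → F)) (hT : ∀ v, Q (T v) = Q v)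
    (hinj : Function.Injective T) (W : Submodule F (ι → F)) :
    (IsNondegenerateOn (QuadraticMap.polar Q) W →
        IsNondegenerateOn (QuadraticMap.polar Q) (W.map T)) ∧
      (IsPlusTypeOn Q W → IsPlusTypeOn Q (W.map T)) ∧
      finrank F ↥(W.map T) = finrank F W := by
  have hpol : ∀ u v, QuadraticMap.polar Q (T u) (T v) = QuadraticMap.polar Q u v := by
    intro u v
    unfold QuadraticMap.polar
    rw [← map_add, hT, hT, hT]
  have hfr : ∀ U : Submodule F (ι → F), finrank F (U.map T) = finrank F U := fun U =>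
    (Submodule.equivMapOfInjective T hinj U).symm.finrank_eq
  refine ⟨?_, ?_, hfr W⟩
  · intro hW2
    rintro _ ⟨u₀, hu₀, rfl⟩ hne
    have hu0 : u₀ ≠ 0 := by
      rintro rfl
      exact hne (map_zero _)
    obtain ⟨⟨x, hx, hx1⟩, ⟨x', hx', hx1'⟩⟩ := hW2 u₀ hu₀ hu0
    refine ⟨⟨T x, Submodule.mem_map_of_mem hx, ?_⟩, ⟨T x', Submodule.mem_map_of_mem hx', ?_⟩⟩
    · rw [hpol]
      exact hx1
    · rw [hpol]
      exact hx1'
  · rintro ⟨U, hUW, hUs, hUd⟩
    refine ⟨U.map T, Submodule.map_mono hUW, ?_, ?_⟩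
    · rintro _ ⟨u, hu, rfl⟩
      rw [hT]
      exact hUs u hu
    · rw [hfr, hfr]
      exact hUd

/-- ELLMAP [S-M]: an isometry of `Q` maps elliptic subspaces to elliptic subspaces. -/
theorem oe_ell_map (Q : (ι → F) → F) (g : GL ι F) (hg : g ∈ Cfsg.isometryGroup F Q)
    (W : Submodule F (ι → F)) (hnd : IsNondegenerateOn (QuadraticMap.polar Q) W)
    (hminus : ¬ IsPlusTypeOn Q W) :
    IsNondegenerateOn (QuadraticMap.polar Q) (W.map (Matrix.toLin' (g : Matrix ι ι F))) ∧
      ¬ IsPlusTypeOn Q (W.map (Matrix.toLin' (g : Matrix ι ι F))) ∧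
      finrank F ↥(W.map (Matrix.toLin' (g : Matrix ι ι F))) = finrank F W := by
  have hg' : g⁻¹ ∈ Cfsg.isometryGroup F Q := inv_mem hg
  have hT : ∀ v, Q (Matrix.toLin' (g : Matrix ι ι F) v) = Q v := by
    intro v
    rw [Matrix.toLin'_apply]
    exact hg v v
  have hT' : ∀ v, Q (Matrix.toLin' ((g⁻¹ : GL ι F) : Matrix ι ι F) v) = Q v := by
    intro v
    rw [Matrix.toLin'_apply]
    exact hg' v v
  have hTT' : ∀ v, Matrix.toLin' ((g⁻¹ : GL ι F) : Matrix ι ι F)
      (Matrix.toLin' (g : Matrix ι ι F) v) = v := by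
    intro v
    rw [← LinearMap.comp_apply, ← Matrix.toLin'_mul, ← Units.val_mul, inv_mul_cancel,
      Units.val_one, Matrix.toLin'_one]
    rfl
  have hT'T : ∀ v, Matrix.toLin' (g : Matrix ι ι F)
      (Matrix.toLin' ((g⁻¹ : GL ι F) : Matrix ι ι F) v) = v := by
    intro v
    rw [← LinearMap.comp_apply, ← Matrix.toLin'_mul, ← Units.val_mul, mul_inv_cancel,
      Units.val_one, Matrix.toLin'_one]
    rfl
  have hinj : Function.Injective (Matrix.toLin' (g : Matrix ι ι F)) :=
    Function.LeftInverse.injective hTT'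
  have hinj' : Function.Injective (Matrix.toLin' ((g⁻¹ : GL ι F) : Matrix ι ι F)) :=
    Function.LeftInverse.injective hT'T
  obtain ⟨h1, -, h3⟩ := oe_ell_map_aux Q (Matrix.toLin' (g : Matrix ι ι F)) hT hinj W
  refine ⟨h1 hnd, ?_, h3⟩
  intro hplus
  have h4 := (oe_ell_map_aux Q (Matrix.toLin' ((g⁻¹ : GL ι F) : Matrix ι ι F)) hT' hinj'
    (W.map (Matrix.toLin' (g : Matrix ι ι F)))).2.1 hplus
  have h5 : (W.map (Matrix.toLin' (g : Matrix ι ι F))).map
      (Matrix.toLin' ((g⁻¹ : GL ι F) : Matrix ι ι F)) = W := by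
    rw [← Submodule.map_comp]
    have h6 : Matrix.toLin' ((g⁻¹ : GL ι F) : Matrix ι ι F) ∘ₗ
        Matrix.toLin' (g : Matrix ι ι F) = LinearMap.id := LinearMap.ext hTT'
    rw [h6, Submodule.map_id]
  rw [h5] at h4
  exact hminus h4

end conc

end Cfsg.Agent.Helper73.S88OE
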