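/-
helper73: CALL S88OE (helper43), piece GSM (double): the good model, in the form
`oe_good_model_of` with the three pieces it uses (ADDFIX, BLKRESTR, BLKTYPE) as hypotheses.
The verbatim `oe_good_model` is in `Cfsg.Agent.Helper73.S88OEGSM2`.
-/
import Mathlib
import Cfsg.Agent.Helper43.CycFactors
import Cfsg.Agent.Helper43.S88OEDefs

set_option autoImplicit false

namespace Cfsg.Agent.Helper73.S88OE

open Module Polynomial Cfsg.Agent.Helper43 Cfsg.Agent.Helper43.OrthEven Cfsg.Agent.Helper43.S88OE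

universe u

section fin

variable {F : Type u} [Field F] [Fintype F]

/-- GSM, with ADDFIX / BLKRESTR / BLKTYPE as hypotheses. -/
theorem oe_good_model_of
    (hADD : ∀ {V₁ : Type u} [AddCommGroup V₁] [Module F V₁] [FiniteDimensional F V₁]
      (Q₁ : QuadraticForm F V₁) (T₁ : Module.End F V₁) (_ : PolarNondeg Q₁)
      (_ : ∀ v, Q₁ (T₁ v) = Q₁ v) (n₁ : ℕ) (_ : finrank F V₁ = 2 * n₁) (U : Submodule F V₁)
      (_ : U.map T₁ ≤ U) (_ : PolarNondeg (Q₁.comp U.subtype)) (u : ℕ)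
      (_ : finrank F U = 2 * u) (k : ℕ) (b : Prop) (_ : k = 0 → b),
      ∃ (V' : Type u) (_ : AddCommGroup V') (_ : Module F V') (_ : FiniteDimensional F V')
        (Q' : QuadraticForm F V') (T' : Module.End F V'),
        PolarNondeg Q' ∧ (∀ v, Q' (T' v) = Q' v) ∧ finrank F V' = 2 * (k + n₁) ∧
        (HasTS Q' (k + n₁) ↔ (b ↔ HasTS Q₁ n₁)) ∧
        T'.charpoly = (X - 1) ^ (2 * k) * T₁.charpoly ∧
        (∀ N, T₁ ^ N = 1 → T' ^ N = 1) ∧ (T₁ ≠ 1 → T' ≠ 1) ∧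
        (∃ W : Submodule F V', W.map T' ≤ W ∧ PolarNondeg (Q'.comp W.subtype) ∧
          finrank F W = 2 * (k + u) ∧
          (HasTS (Q'.comp W.subtype) (k + u) ↔ (b ↔ HasTS (Q₁.comp U.subtype) u))) ∧
        (∃ W : Submodule F V', W.map T' ≤ W ∧ PolarNondeg (Q'.comp W.subtype) ∧
          finrank F W = 2 * u ∧ (HasTS (Q'.comp W.subtype) u ↔ HasTS (Q₁.comp U.subtype) u)))
    (hRESTR : ∀ {Va : Type u} [AddCommGroup Va] [Module F Va] (r : ℕ) (Qa : QuadraticForm F Va)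
      (T : Module.End F Va) (_ : ∀ v, Qa (T v) = Qa v) (_ : aeval T (cyclotomic r F) = 0)
      (U : Submodule F Va) (_ : U.map T ≤ U) (_ : PolarNondeg (Qa.comp U.subtype)),
      ∃ T' : Module.End F U, Blk r (Qa.comp U.subtype) T')
    (hTYPE : ∀ (p : ℕ) [Fact p.Prime] [CharP F p] (r : ℕ) [Fact r.Prime] (_ : 2 < r) (_ : r ≠ p)
      (_ : Even (orderOf ((Fintype.card F : ℕ) : ZMod r))) {V : Type u}
      [AddCommGroup V] [Module F V] [FiniteDimensional F V] (Q : QuadraticForm F V)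
      (T : Module.End F V) (_ : Blk r Q T),
      ∃ n, finrank F V = 2 * (orderOf ((Fintype.card F : ℕ) : ZMod r) / 2 * n) ∧
        (HasTS Q (orderOf ((Fintype.card F : ℕ) : ZMod r) / 2 * n) ↔ Even n))
    (p : ℕ) [Fact p.Prime] [CharP F p] (r : ℕ) [Fact r.Prime] (hr2 : 2 < r)
    (hrp : r ≠ p) (heven : Even (orderOf ((Fintype.card F : ℕ) : ZMod r))) {V₁ : Type u}
    [AddCommGroup V₁] [Module F V₁] [FiniteDimensional F V₁] (Q₁ : QuadraticForm F V₁)
    (T₁ : Module.End F V₁) (hblk : Blk r Q₁ T₁) (A : ℕ) (hA : 1 ≤ A)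
    (hV₁ : finrank F V₁ = orderOf ((Fintype.card F : ℕ) : ZMod r) * A)
    (hflag : Flag Q₁ T₁ (orderOf ((Fintype.card F : ℕ) : ZMod r)) A) (k₀ : ℕ)
    (hk₀ : k₀ = 0 → Even A) (s w₂ : ℕ) (hval : Val A k₀ s w₂) :
    ∃ (V' : Type u) (_ : AddCommGroup V') (_ : Module F V') (_ : FiniteDimensional F V')
      (Q' : QuadraticForm F V') (T' : Module.End F V'),
      PolarNondeg Q' ∧
      finrank F V' = 2 * (k₀ + orderOf ((Fintype.card F : ℕ) : ZMod r) / 2 * A) ∧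
      HasTS Q' (k₀ + orderOf ((Fintype.card F : ℕ) : ZMod r) / 2 * A) ∧
      (∀ v, Q' (T' v) = Q' v) ∧ T' ^ r = 1 ∧ T' ≠ 1 ∧
      T'.charpoly = (X - 1) ^ (2 * k₀) * T₁.charpoly ∧
      ∃ W : Submodule F V',
        InvEllSub Q' T' (orderOf ((Fintype.card F : ℕ) : ZMod r) / 2 * s + w₂) W := by
  classical
  obtain ⟨hnd, hiso, hcyc⟩ := hblk
  have hTY : ∀ {V : Type u} [AddCommGroup V] [Module F V] [FiniteDimensional F V]
      (Q : QuadraticForm F V) (T : Module.End F V), Blk r Q T →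
      ∃ n, finrank F V = 2 * (orderOf ((Fintype.card F : ℕ) : ZMod r) / 2 * n) ∧
        (HasTS Q (orderOf ((Fintype.card F : ℕ) : ZMod r) / 2 * n) ↔ Even n) := by
    intro V _ _ _ Q T h
    exact hTYPE p r hr2 hrp heven Q T h
  have hipos : 0 < orderOf ((Fintype.card F : ℕ) : ZMod r) :=
    Cfsg.Agent.Helper43.CycFactors.orderOf_pos_of_card (p := p) rfl (Fact.out) hrp
  obtain ⟨j, hj⟩ := heven
  have hj2 : orderOf ((Fintype.card F : ℕ) : ZMod r) / 2 = j := by omega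
  simp only [hj2] at hTY ⊢
  have hjpos : 0 < j := by omega
  obtain ⟨hsA, hwk, hval3⟩ := hval
  obtain ⟨U, hUinv, hUnd, hUdim⟩ := hflag s hsA
  have hUdim' : finrank F U = 2 * (j * s) := by
    rw [hUdim, hj]
    ring
  have hV₁' : finrank F V₁ = 2 * (j * A) := by
    rw [hV₁, hj]
    ring
  obtain ⟨n, hn1, hn2⟩ := hTY Q₁ T₁ ⟨hnd, hiso, hcyc⟩
  have hnA : n = A := by
    have h1 : j * n = j * A := by omega
    exact Nat.eq_of_mul_eq_mul_left hjpos h1
  rw [hnA] at hn2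
  obtain ⟨TU, hTU⟩ := hRESTR r Q₁ T₁ hiso hcyc U hUinv hUnd
  obtain ⟨n', hn'1, hn'2⟩ := hTY (Q₁.comp U.subtype) TU hTU
  have hn's : n' = s := by
    have h1 : j * n' = j * s := by omega
    exact Nat.eq_of_mul_eq_mul_left hjpos h1
  rw [hn's] at hn'2
  have hTr : T₁ ^ r = 1 := by
    have h1 : aeval T₁ (cyclotomic r F * (X - 1)) = 0 := by rw [map_mul, hcyc, zero_mul]
    rw [cyclotomic_prime_mul_X_sub_one] at h1
    simp only [map_sub, map_pow, aeval_X, map_one] at h1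
    exact sub_eq_zero.mp h1
  have hT1 : T₁ ≠ 1 := by
    intro h1
    have hpos : 0 < finrank F V₁ := by
      rw [hV₁']
      have := Nat.mul_pos hjpos hA
      omega
    have hnt : Nontrivial V₁ := Module.finrank_pos_iff.mp hpos
    obtain ⟨v, hv⟩ : ∃ v : V₁, v ≠ 0 := exists_ne 0
    have h2 : aeval (1 : Module.End F V₁) (cyclotomic r F) v = 0 := by
      rw [← h1, hcyc]
      rfl
    have h3 : aeval (1 : Module.End F V₁) (cyclotomic r F) =
        algebraMap F (Module.End F V₁) ((cyclotomic r F).eval 1) := by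
      have h4 := Polynomial.aeval_algebraMap_apply_eq_algebraMap_eval (A := Module.End F V₁)
        (1 : F) (cyclotomic r F)
      rwa [map_one] at h4
    rw [h3, Polynomial.eval_one_cyclotomic_prime, Module.algebraMap_end_apply] at h2
    have hr0 : ((r : ℕ) : F) ≠ 0 := by
      intro h0
      have h5 : p ∣ r := (CharP.cast_eq_zero_iff F p r).mp h0
      exact hrp ((Nat.prime_dvd_prime_iff_eq (Fact.out) (Fact.out)).mp h5).symm
    exact hv ((smul_eq_zero.mp h2).resolve_left hr0)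
  have hb1 : w₂ = 0 → ¬ Even s := by
    intro hw
    rcases hval3 with h | h | h
    · omega
    · exact Nat.not_even_iff_odd.mpr h.2
    · have hA' := hk₀ (by omega)
      intro hs
      exact (Nat.not_even_iff_odd.mpr h.2) (hs.add hA')
  obtain ⟨V₂, _, _, _, Q₂, T₂, h2nd, h2iso, h2dim, h2ts, h2ch, h2pow, h2ne,
      ⟨W₂, hW₂inv, hW₂nd, hW₂dim, hW₂ts⟩, -⟩ :=
    hADD Q₁ T₁ hnd hiso (j * A) hV₁' U hUinv hUnd (j * s) hUdim' w₂ (¬ Even s) hb1
  have hb2 : k₀ - w₂ = 0 → (¬ Even s ↔ Even A) := by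
    intro hw
    rcases hval3 with h | h | h
    · omega
    · have hA' := hk₀ (by omega)
      exact ⟨fun _ => hA', fun _ => Nat.not_even_iff_odd.mpr h.2⟩
    · have h3 := h.2
      rw [Nat.odd_add] at h3
      rw [Nat.not_even_iff_odd]
      exact h3
  obtain ⟨V₃, _, _, _, Q₃, T₃, h3nd, h3iso, h3dim, h3ts, h3ch, h3pow, h3ne, -,
      ⟨W₃, hW₃inv, hW₃nd, hW₃dim, hW₃ts⟩⟩ :=
    hADD Q₂ T₂ h2nd h2iso (w₂ + j * A) h2dim W₂ hW₂inv hW₂nd (w₂ + j * s) hW₂dim (k₀ - w₂)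
      (¬ Even s ↔ Even A) hb2
  have e1 : k₀ - w₂ + (w₂ + j * A) = k₀ + j * A := by omega
  refine ⟨V₃, inferInstance, inferInstance, inferInstance, Q₃, T₃, h3nd, ?_, ?_, h3iso,
    h3pow r (h2pow r hTr), h3ne (h2ne hT1), ?_, W₃, ?_⟩
  · rw [h3dim, e1]
  · rw [e1] at h3ts
    rw [h3ts, h2ts, hn2]
  · rw [h3ch, h2ch, ← mul_assoc, ← pow_add]
    congr 2
    omega
  · have e2 : j * s + w₂ = w₂ + j * s := by omega
    refine ⟨hW₃inv, ?_, hW₃nd, ?_⟩
    · rw [hW₃dim, e2]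
    · rw [e2, hW₃ts, hW₂ts, hn'2]
      intro h
      by_cases hs : Even s
      · exact (h.mpr hs) hs
      · exact hs (h.mp hs)

end fin

end Cfsg.Agent.Helper73.S88OE
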