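/-
helper73: CALL S88OE (helper43), piece GSM (double): `oe_good_model`, verbatim, assembled from
`oe_good_model_of` (Helper73/S88OEGSM), MODEL0 (helper50), the core of ADDFIX (helper67),
BLKRESTR (helper23) and BLKTYPE (helper88).
-/
import Mathlib
import Cfsg.Prelude.Def_GeometricClasses
import Cfsg.Prelude.Def_Classical
import Cfsg.Agent.Helper35.S88Defs
import Cfsg.Agent.Helper58.TSDefs
import Cfsg.Agent.Helper43.PrimeOrdO3
import Cfsg.Agent.Helper33.OType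
import Cfsg.Agent.Helper43.S88OEDefs
import Cfsg.Agent.Helper73.S88OEGSM
import Cfsg.Agent.Helper50.S88OEMODEL0
import Cfsg.Agent.Helper67.S88OEADDFIXof
import Cfsg.Agent.Helper23.S88OEBLKRESTR
import Cfsg.Agent.Helper88.S88OEBLKTYPE

set_option autoImplicit false

namespace Cfsg.Agent.Helper73.S88OE

open Module Polynomial Cfsg Cfsg.Geo Cfsg.Agent.Helper58.TS Cfsg.Agent.Helper35.S88
open Cfsg.Agent.Helper43 Cfsg.Agent.Helper43.OrthEven Cfsg.Agent.Helper43.CycFactors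
  Cfsg.Agent.Helper43.PrimeOrdMat Cfsg.Agent.Helper43.S88OE
open scoped MatrixGroups

universe u

section fin

variable {F : Type u} [Field F] [Fintype F]

/-- ADDFIX (own copy under a fresh name): MODEL0 (helper50) + the core of helper67. -/
theorem oe_add_fix73 {V₁ : Type u} [AddCommGroup V₁] [Module F V₁] [FiniteDimensional F V₁]
    (Q₁ : QuadraticForm F V₁) (T₁ : Module.End F V₁) (hnd : PolarNondeg Q₁)
    (hT : ∀ v, Q₁ (T₁ v) = Q₁ v) (n₁ : ℕ) (hV₁ : finrank F V₁ = 2 * n₁) (U : Submodule F V₁)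
    (hU : U.map T₁ ≤ U) (hUnd : PolarNondeg (Q₁.comp U.subtype)) (u : ℕ)
    (hUdim : finrank F U = 2 * u) (k : ℕ) (b : Prop) (hb : k = 0 → b) :
    ∃ (V' : Type u) (_ : AddCommGroup V') (_ : Module F V') (_ : FiniteDimensional F V')
      (Q' : QuadraticForm F V') (T' : Module.End F V'),
      PolarNondeg Q' ∧ (∀ v, Q' (T' v) = Q' v) ∧ finrank F V' = 2 * (k + n₁) ∧
      (HasTS Q' (k + n₁) ↔ (b ↔ HasTS Q₁ n₁)) ∧
      T'.charpoly = (X - 1) ^ (2 * k) * T₁.charpoly ∧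
      (∀ N, T₁ ^ N = 1 → T' ^ N = 1) ∧ (T₁ ≠ 1 → T' ≠ 1) ∧
      (∃ W : Submodule F V', W.map T' ≤ W ∧ PolarNondeg (Q'.comp W.subtype) ∧
        finrank F W = 2 * (k + u) ∧
        (HasTS (Q'.comp W.subtype) (k + u) ↔ (b ↔ HasTS (Q₁.comp U.subtype) u))) ∧
      (∃ W : Submodule F V', W.map T' ≤ W ∧ PolarNondeg (Q'.comp W.subtype) ∧
        finrank F W = 2 * u ∧ (HasTS (Q'.comp W.subtype) u ↔ HasTS (Q₁.comp U.subtype) u)) := by
  obtain ⟨V₀, _, _, _, Q₀, h0nd, h0dim, h0ts⟩ :=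
    Cfsg.Agent.Helper50.S88OE.oe_model0 (F := F) k b hb
  exact Cfsg.Agent.Helper67.S88OE.oe_add_fix_of67 Q₀ k b h0nd h0dim h0ts Q₁ T₁ hnd hT n₁ hV₁ U
    hU hUnd u hUdim

/-- GSM [M-L]: the good model. -/
theorem oe_good_model (p : ℕ) [Fact p.Prime] [CharP F p] (r : ℕ) [Fact r.Prime] (hr2 : 2 < r)
    (hrp : r ≠ p) (heven : Even (orderOf ((Fintype.card F : ℕ) : ZMod r))) {V₁ : Type u}
    [AddCommGroup V₁] [Module F V₁] [FiniteDimensional F V₁] (Q₁ : QuadraticForm F V₁)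
    (T₁ : Module.End F V₁) (hblk : Blk r Q₁ T₁) (A : ℕ) (hA : 1 ≤ A)
    (hV₁ : finrank F V₁ = orderOf ((Fintype.card F : ℕ) : ZMod r) * A)
    (hflag : Flag Q₁ T₁ (orderOf ((Fintype.card F : ℕ) : ZMod r)) A) (k₀ : ℕ)
    (hk₀ : k₀ = 0 → Even A) (s w₂ : ℕ) (hval : Val A k₀ s w₂) :
    ∃ (V' : Type u) (_ : AddCommGroup V') (_ : Module F V') (_ : FiniteDimensional F V')
      (Q' : QuadraticForm F V') (T' : Module.End F V'),
      PolarNondeg Q' ∧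
      finrank F V' = 2 * (k₀ + orderOf ((Fintype.card F : ℕ) : ZMod r) / 2 * A) ∧
      HasTS Q' (k₀ + orderOf ((Fintype.card F : ℕ) : ZMod r) / 2 * A) ∧
      (∀ v, Q' (T' v) = Q' v) ∧ T' ^ r = 1 ∧ T' ≠ 1 ∧
      T'.charpoly = (X - 1) ^ (2 * k₀) * T₁.charpoly ∧
      ∃ W : Submodule F V',
        InvEllSub Q' T' (orderOf ((Fintype.card F : ℕ) : ZMod r) / 2 * s + w₂) W := by
  refine oe_good_model_of ?_ ?_ ?_ p r hr2 hrp heven Q₁ T₁ hblk A hA hV₁ hflag k₀ hk₀ s w₂ hval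
  · intro V₁ _ _ _ Q₁ T₁ hnd hT n₁ hV₁ U hU hUnd u hUdim k b hb
    exact oe_add_fix73 Q₁ T₁ hnd hT n₁ hV₁ U hU hUnd u hUdim k b hb
  · intro Va _ _ r Qa T hT hcyc U hU hnd
    exact Cfsg.Agent.Helper23.S88OE.oe_blk_restr r Qa T hT hcyc U hU hnd
  · intro p _ _ r _ hr2 hrp heven V _ _ _ Q T hblk
    exact Cfsg.Agent.Helper88.S88OE.oe_blk_type p r hr2 hrp heven Q T hblk

end fin

end Cfsg.Agent.Helper73.S88OE
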