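/-
helper73: CALL SL2L (helper2, for row S1383), piece G2 (double): `sl2l_moves`.
-/
import Mathlib

set_option autoImplicit false

namespace Cfsg.Agent.Helper73

open Subgroup

universe u

variable {Γ : Type u} [Group Γ] [Finite Γ]

/-- The number of elements of `B` outside `A`, for subgroups `A ≤ B`. -/
theorem sl2lg2_card_diff {A B : Subgroup Γ} (hAB : A ≤ B) :
    Nat.card {a : Γ // a ∈ B ∧ a ∉ A} = Nat.card B - Nat.card A := by
  have h1 : Nat.card {a : Γ // a ∈ B ∧ a ∉ A} = ((B : Set Γ) \ (A : Set Γ)).ncard :=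
    _root_.Nat.card_coe_set_eq ((B : Set Γ) \ (A : Set Γ))
  have h2 : ((B : Set Γ) \ (A : Set Γ)).ncard = (B : Set Γ).ncard - (A : Set Γ).ncard :=
    Set.ncard_sdiff (fun x hx => hAB hx)
  have h3 : (B : Set Γ).ncard = Nat.card B := (_root_.Nat.card_coe_set_eq (B : Set Γ)).symm
  have h4 : (A : Set Γ).ncard = Nat.card A := (_root_.Nat.card_coe_set_eq (A : Set Γ)).symm
  rw [h1, h2, h3, h4]

/-- PIECE G2 (no fixed line): if `k₂` of prime order `t` normalized the line `L`, then `⟨k₂⟩` would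
act on the `p² - p` elements of `L ∖ Z` without fixed points, so `t ∣ p (p - 1)`. -/
theorem sl2l_moves {p t : ℕ} (hp : p.Prime) (ht : t.Prime) (htp : ¬ t ∣ p - 1) (htp' : t ≠ p)
    {Z L : Subgroup Γ} (hZL : Z ≤ L) (hZc : Nat.card Z = p) (hLc : Nat.card L = p ^ 2)
    {k₂ : Γ} (hk₂ : orderOf k₂ = t) (hk₂Z : ∀ z ∈ Z, k₂ * z = z * k₂)
    (hfix : ∀ a ∈ L, k₂ * a = a * k₂ → a ∈ Z) : ¬ ∀ a ∈ L, k₂ * a * k₂⁻¹ ∈ L := by
  classical
  intro hnorm
  have : Fact t.Prime := ⟨ht⟩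
  have hk₂t : k₂ ^ t = 1 := by rw [← hk₂]; exact pow_orderOf_eq_one k₂
  let f : Function.End {a : Γ // a ∈ L ∧ a ∉ Z} := fun a =>
    ⟨k₂ * a.1 * k₂⁻¹, hnorm a.1 a.2.1, fun hz => a.2.2 (by
      have h1 := hk₂Z _ hz
      have h3 : k₂ * (k₂ * a.1 * k₂⁻¹) = k₂ * a.1 := by rw [h1]; group
      have h2 : k₂ * a.1 * k₂⁻¹ = a.1 := mul_left_cancel h3
      rw [← h2]; exact hz)⟩
  have hfn : ∀ (n : ℕ) (a : {a : Γ // a ∈ L ∧ a ∉ Z}),
      ((f ^ n) a).1 = k₂ ^ n * a.1 * (k₂ ^ n)⁻¹ := by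
    intro n
    induction n with
    | zero =>
      intro a
      rw [pow_zero]
      show a.1 = _
      simp
    | succ n ih =>
      intro a
      rw [pow_succ, Function.End.mul_def]
      show ((f ^ n) (f a)).1 = _
      rw [ih]
      show k₂ ^ n * (k₂ * a.1 * k₂⁻¹) * (k₂ ^ n)⁻¹ = _
      rw [pow_succ]; group
  have hft : f ^ t ^ 1 = 1 := by
    rw [pow_one]
    funext a
    apply Subtype.ext
    rw [hfn, hk₂t]
    show 1 * a.1 * (1 : Γ)⁻¹ = a.1
    simp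
  let _ : Fintype {a : Γ // a ∈ L ∧ a ∉ Z} := Fintype.ofFinite _
  have hmod := Equiv.Perm.card_fixedPoints_modEq (p := t) (n := 1) hft
  have hempty : IsEmpty ↑(Function.fixedPoints f) := by
    constructor
    rintro ⟨a, ha⟩
    have h1 : k₂ * a.1 * k₂⁻¹ = a.1 := congrArg Subtype.val ha
    apply a.2.2
    apply hfix a.1 a.2.1
    calc k₂ * a.1 = k₂ * a.1 * k₂⁻¹ * k₂ := by group
      _ = a.1 * k₂ := by rw [h1]
  rw [Fintype.card_eq_zero_iff.mpr hempty] at hmod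
  have hdvd : t ∣ Fintype.card {a : Γ // a ∈ L ∧ a ∉ Z} := (Nat.modEq_zero_iff_dvd).mp hmod
  rw [← Nat.card_eq_fintype_card, sl2lg2_card_diff hZL, hLc, hZc] at hdvd
  have e : p ^ 2 - p = p * (p - 1) := by
    rw [Nat.mul_sub_one, pow_two]
  rw [e] at hdvd
  rcases (Nat.Prime.dvd_mul ht).mp hdvd with h | h
  · exact htp' ((Nat.prime_dvd_prime_iff_eq ht hp).mp h)
  · exact htp h

end Cfsg.Agent.Helper73
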