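-- helper73 library: piece DBA of helper98's CALL S5981 (double): the bad diagonal element
-- diag(ω, ω, ω⁻², 1, …, 1).
import Mathlib
import Cfsg.Prelude.Def_GeometricClasses
import Cfsg.Prelude.Def_Classical

set_option autoImplicit false
open Matrix Polynomial

namespace Cfsg.Agent.Helper73.THDBA

variable {F : Type*} [Field F] [Fintype F]

open Classical in
/-- the rank of `diagonal d - l • 1` -/
theorem dba_rank {n : ℕ} (d : Fin n → F) (l : F) :
    (Matrix.diagonal d - l • (1 : Matrix (Fin n) (Fin n) F)).rank =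
      n - (Finset.univ.filter (fun j : Fin n => d j = l)).card := by
  classical
  have h1 : Matrix.diagonal d - l • (1 : Matrix (Fin n) (Fin n) F) =
      Matrix.diagonal (fun j => d j - l) := by
    ext i j
    by_cases hij : i = j
    · subst hij
      simp
    · simp [hij]
  have h2 := Finset.card_filter_add_card_filter_not (s := (Finset.univ : Finset (Fin n)))
    (fun j => d j = l)
  rw [Finset.card_univ, Fintype.card_fin] at h2
  rw [h1, Matrix.rank_diagonal, Fintype.card_subtype]
  have h3 : (Finset.univ.filter (fun j : Fin n => d j - l ≠ 0)) =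
      Finset.univ.filter (fun j : Fin n => ¬ d j = l) := by
    apply Finset.filter_congr
    intro j _
    rw [Ne, sub_eq_zero]
  rw [h3]
  omega

/-- DBA -/
theorem bad_diag_a {n : ℕ} (hn : 3 ≤ n) (r : ℕ) (hr : r.Prime) (hr5 : 5 ≤ r)
    (hnr : ¬ (n = 5 ∧ r = 5))
    (ω : F) (hω1 : ω ≠ 1) (hωr : ω ^ r = 1) (H : Subgroup (GL (Fin n) F))
    (hH : ∀ y ∈ H, ∃ c : F, c ≠ 0 ∧ ∀ l : F, l ≠ 0 →
      ((y : Matrix (Fin n) (Fin n) F) - l • (1 : Matrix (Fin n) (Fin n) F)).rank =
        ((y : Matrix (Fin n) (Fin n) F) - (c / l) • (1 : Matrix (Fin n) (Fin n) F)).rank) :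
    ∃ x : GL (Fin n) F, x ∈ Cfsg.Geo.specialLinear (Fin n) F ∧ x ^ r = 1 ∧
      (∀ z : F, (x : Matrix (Fin n) (Fin n) F) ≠ z • (1 : Matrix (Fin n) (Fin n) F)) ∧
      ∀ g : GL (Fin n) F, g⁻¹ * x * g ∉ H := by
  classical
  have : Fact r.Prime := ⟨hr⟩
  have hord : orderOf ω = r := orderOf_eq_prime hωr hω1
  have hpow : ∀ k : ℕ, ω ^ k = 1 → r ∣ k := fun k hk => hord ▸ orderOf_dvd_of_pow_eq_one hk
  have hω0 : ω ≠ 0 := by
    rintro rfl
    rw [zero_pow hr.ne_zero] at hωr
    exact zero_ne_one hωr
  have hk : ∀ k : ℕ, 0 < k → k < 5 → ω ^ k ≠ 1 := by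
    intro k hk0 hk5 h
    have := Nat.le_of_dvd hk0 (hpow k h)
    omega
  have h6 : ω ^ 6 ≠ 1 := by
    intro h
    have h1 := hpow 6 h
    have h2 := Nat.le_of_dvd (by norm_num) h1
    have h3 : r = 5 ∨ r = 6 := by omega
    rcases h3 with rfl | rfl
    · norm_num at h1
    · norm_num at hr
  obtain ⟨u, hu⟩ : ∃ u : F, u = (ω ^ 2)⁻¹ := ⟨_, rfl⟩
  have hu0 : u ≠ 0 := by
    rw [hu]
    exact inv_ne_zero (pow_ne_zero 2 hω0)
  have huω2 : u * ω ^ 2 = 1 := by
    rw [hu]
    exact inv_mul_cancel₀ (pow_ne_zero 2 hω0)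
  have huω : u ≠ ω := by
    intro h
    apply hk 3 (by norm_num) (by norm_num)
    rw [h] at huω2
    rw [← huω2]
    ring
  have hu1 : u ≠ 1 := by
    intro h
    apply hk 2 (by norm_num) (by norm_num)
    rw [h, one_mul] at huω2
    exact huω2
  obtain ⟨i0, hi0⟩ : ∃ i0 : Fin n, i0 = ⟨0, by omega⟩ := ⟨_, rfl⟩
  obtain ⟨i1, hi1⟩ : ∃ i1 : Fin n, i1 = ⟨1, by omega⟩ := ⟨_, rfl⟩
  obtain ⟨i2, hi2⟩ : ∃ i2 : Fin n, i2 = ⟨2, by omega⟩ := ⟨_, rfl⟩
  have h01 : i0 ≠ i1 := by
    rw [hi0, hi1]
    simp [Fin.ext_iff]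
  have h02 : i0 ≠ i2 := by
    rw [hi0, hi2]
    simp [Fin.ext_iff]
  have h12 : i1 ≠ i2 := by
    rw [hi1, hi2]
    simp [Fin.ext_iff]
  obtain ⟨d, hd⟩ : ∃ d : Fin n → F, d = fun j =>
      (if j = i0 then ω else 1) * (if j = i1 then ω else 1) * (if j = i2 then u else 1) :=
    ⟨_, rfl⟩
  have hd0 : d i0 = ω := by
    rw [hd]
    simp [h01, h02]
  have hd1 : d i1 = ω := by
    rw [hd]
    simp [h01.symm, h12]
  have hd2 : d i2 = u := by
    rw [hd]
    simp [h02.symm, h12.symm]
  have hdo : ∀ j, j ≠ i0 → j ≠ i1 → j ≠ i2 → d j = 1 := by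
    intro j h0 h1 h2
    rw [hd]
    simp [h0, h1, h2]
  have hdne : ∀ j, d j ≠ 0 := by
    intro j
    by_cases h0 : j = i0
    · rw [h0, hd0]
      exact hω0
    by_cases h1 : j = i1
    · rw [h1, hd1]
      exact hω0
    by_cases h2 : j = i2
    · rw [h2, hd2]
      exact hu0
    rw [hdo j h0 h1 h2]
    exact one_ne_zero
  have hdet : ∏ j, d j = 1 := by
    rw [hd]
    simp only [Finset.prod_mul_distrib, Finset.prod_ite_eq', Finset.mem_univ, if_true]
    rw [← huω2]
    ring
  have hdr : ∀ j, d j ^ r = 1 := by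
    intro j
    by_cases h0 : j = i0
    · rw [h0, hd0]
      exact hωr
    by_cases h1 : j = i1
    · rw [h1, hd1]
      exact hωr
    by_cases h2 : j = i2
    · rw [h2, hd2, hu, inv_pow, ← pow_mul, mul_comm, pow_mul, hωr, one_pow, inv_one]
    rw [hdo j h0 h1 h2, one_pow]
  have hMω : (Finset.univ.filter (fun j : Fin n => d j = ω)).card = 2 := by
    have : Finset.univ.filter (fun j : Fin n => d j = ω) = {i0, i1} := by
      ext j
      simp only [Finset.mem_filter, Finset.mem_univ, true_and, Finset.mem_insert,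
        Finset.mem_singleton]
      constructor
      · intro h
        by_contra hcon
        push Not at hcon
        by_cases h2 : j = i2
        · rw [h2, hd2] at h
          exact huω h
        · rw [hdo j hcon.1 hcon.2 h2] at h
          exact hω1 h.symm
      · rintro (h | h)
        · rw [h, hd0]
        · rw [h, hd1]
    rw [this, Finset.card_pair h01]
  have hMu : (Finset.univ.filter (fun j : Fin n => d j = u)).card = 1 := by
    have : Finset.univ.filter (fun j : Fin n => d j = u) = {i2} := by
      ext j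
      simp only [Finset.mem_filter, Finset.mem_univ, true_and, Finset.mem_singleton]
      constructor
      · intro h
        by_contra hcon
        by_cases h0 : j = i0
        · rw [h0, hd0] at h
          exact huω h.symm
        by_cases h1 : j = i1
        · rw [h1, hd1] at h
          exact huω h.symm
        rw [hdo j h0 h1 hcon] at h
        exact hu1 h.symm
      · intro h
        rw [h, hd2]
    rw [this, Finset.card_singleton]
  have hM1 : (Finset.univ.filter (fun j : Fin n => d j = 1)).card = n - 3 := by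
    have : Finset.univ.filter (fun j : Fin n => d j = 1) = Finset.univ \ {i0, i1, i2} := by
      ext j
      simp only [Finset.mem_filter, Finset.mem_univ, true_and, Finset.mem_sdiff,
        Finset.mem_insert, Finset.mem_singleton, not_or]
      constructor
      · intro h
        refine ⟨?_, ?_, ?_⟩
        · intro h0
          rw [h0, hd0] at h
          exact hω1 h
        · intro h1
          rw [h1, hd1] at h
          exact hω1 h
        · intro h2
          rw [h2, hd2] at h
          exact hu1 h
      · rintro ⟨h0, h1, h2⟩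
        exact hdo j h0 h1 h2
    have h3 : ({i0, i1, i2} : Finset (Fin n)).card = 3 := by
      rw [Finset.card_insert_of_notMem, Finset.card_pair h12]
      simp [h01, h02]
    rw [this, Finset.card_univ_sdiff, Fintype.card_fin, h3]
  have hM0 : ∀ l : F, l ≠ ω → l ≠ u → l ≠ 1 →
      (Finset.univ.filter (fun j : Fin n => d j = l)).card = 0 := by
    intro l hl1 hl2 hl3
    rw [Finset.card_eq_zero, Finset.filter_eq_empty_iff]
    intro j _ h
    by_cases h0 : j = i0
    · rw [h0, hd0] at h
      exact hl1 h.symm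
    by_cases h1 : j = i1
    · rw [h1, hd1] at h
      exact hl1 h.symm
    by_cases h2 : j = i2
    · rw [h2, hd2] at h
      exact hl2 h.symm
    rw [hdo j h0 h1 h2] at h
    exact hl3 h.symm
  have hinv1 : Matrix.diagonal d * Matrix.diagonal (fun j => (d j)⁻¹) = 1 := by
    rw [Matrix.diagonal_mul_diagonal]
    have : (fun i => d i * (d i)⁻¹) = fun _ => (1 : F) := by
      funext i
      exact mul_inv_cancel₀ (hdne i)
    rw [this, Matrix.diagonal_one]
  have hinv2 : Matrix.diagonal (fun j => (d j)⁻¹) * Matrix.diagonal d = 1 := by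
    rw [Matrix.diagonal_mul_diagonal]
    have : (fun i => (d i)⁻¹ * d i) = fun _ => (1 : F) := by
      funext i
      exact inv_mul_cancel₀ (hdne i)
    rw [this, Matrix.diagonal_one]
  obtain ⟨x, hx⟩ : ∃ x : GL (Fin n) F, (x : Matrix (Fin n) (Fin n) F) = Matrix.diagonal d :=
    ⟨⟨Matrix.diagonal d, Matrix.diagonal (fun j => (d j)⁻¹), hinv1, hinv2⟩, rfl⟩
  refine ⟨x, ?_, ?_, ?_, ?_⟩
  · unfold Cfsg.Geo.specialLinear
    rw [MonoidHom.mem_ker]
    apply Units.ext
    rw [Matrix.GeneralLinearGroup.val_det_apply, hx, Matrix.det_diagonal, hdet]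
    rfl
  · apply Units.ext
    rw [Units.val_pow_eq_pow_val, hx, Matrix.diagonal_pow]
    have : (d ^ r) = fun _ => (1 : F) := by
      funext j
      exact hdr j
    rw [this, Matrix.diagonal_one]
    rfl
  · intro z hz
    rw [hx] at hz
    have e0 := congrFun (congrFun hz i0) i0
    have e2 := congrFun (congrFun hz i2) i2
    simp only [Matrix.diagonal_apply_eq, Matrix.smul_apply, Matrix.one_apply_eq, smul_eq_mul,
      mul_one] at e0 e2
    rw [hd0] at e0
    rw [hd2] at e2
    exact huω (e2.trans e0.symm)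
  · intro g hg
    obtain ⟨c, hc0, hc⟩ := hH _ hg
    have hrank : ∀ l : F, (((g⁻¹ * x * g : GL (Fin n) F) : Matrix (Fin n) (Fin n) F) -
        l • (1 : Matrix (Fin n) (Fin n) F)).rank =
        n - (Finset.univ.filter (fun j : Fin n => d j = l)).card := by
      intro l
      have e : ((g⁻¹ * x * g : GL (Fin n) F) : Matrix (Fin n) (Fin n) F) -
          l • (1 : Matrix (Fin n) (Fin n) F) =
          ((g⁻¹ : GL (Fin n) F) : Matrix (Fin n) (Fin n) F) *
            (Matrix.diagonal d - l • (1 : Matrix (Fin n) (Fin n) F)) *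
            (g : Matrix (Fin n) (Fin n) F) := by
        rw [Units.val_mul, Units.val_mul, hx, Matrix.mul_sub, Matrix.sub_mul, Matrix.mul_smul,
          Matrix.mul_one, Matrix.smul_mul, ← Units.val_mul, inv_mul_cancel]
        rfl
      rw [e, Matrix.rank_mul_eq_left_of_isUnit_det _ _
          ((Matrix.isUnit_iff_isUnit_det _).mp g.isUnit),
        Matrix.rank_mul_eq_right_of_isUnit_det _ _
          ((Matrix.isUnit_iff_isUnit_det _).mp (g⁻¹).isUnit), dba_rank]
    have hle : ∀ l : F, (Finset.univ.filter (fun j : Fin n => d j = l)).card ≤ n := by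
      intro l
      calc _ ≤ (Finset.univ : Finset (Fin n)).card := Finset.card_filter_le _ _
        _ = n := by simp
    have hsym : ∀ l : F, l ≠ 0 → (Finset.univ.filter (fun j : Fin n => d j = l)).card =
        (Finset.univ.filter (fun j : Fin n => d j = c / l)).card := by
      intro l hl
      have h1 := hc l hl
      rw [hrank l, hrank (c / l)] at h1
      have h2 := hle l
      have h3 := hle (c / l)
      omega
    have hA := hsym ω hω0
    rw [hMω] at hA
    have hB := hsym u hu0
    rw [hMu] at hB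
    by_cases e1 : c / ω = ω
    · have hcω : c = ω ^ 2 := by
        rw [div_eq_iff hω0] at e1
        rw [e1]
        ring
      have hcu : c / u = ω ^ 4 := by
        rw [hcω, div_eq_iff hu0]
        calc ω ^ 2 = ω ^ 2 * (u * ω ^ 2) := by rw [huω2, mul_one]
          _ = ω ^ 4 * u := by ring
      rw [hcu] at hB
      by_cases f1 : ω ^ 4 = ω
      · apply hk 3 (by norm_num) (by norm_num)
        have h3 : ω * ω ^ 3 = ω * 1 := by
          calc ω * ω ^ 3 = ω ^ 4 := by ring
            _ = ω := f1
            _ = ω * 1 := (mul_one ω).symm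
        exact mul_left_cancel₀ hω0 h3
      by_cases f2 : ω ^ 4 = u
      · apply h6
        calc ω ^ 6 = ω ^ 4 * ω ^ 2 := by ring
          _ = u * ω ^ 2 := by rw [f2]
          _ = 1 := huω2
      by_cases f3 : ω ^ 4 = 1
      · exact hk 4 (by norm_num) (by norm_num) f3
      rw [hM0 _ f1 f2 f3] at hB
      exact absurd hB (by norm_num)
    · by_cases e2 : c / ω = u
      · rw [e2, hMu] at hA
        exact absurd hA (by norm_num)
      by_cases e3 : c / ω = 1
      · rw [e3, hM1] at hA
        have hn5 : n = 5 := by omega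
        have hcω : c = ω := by
          rw [div_eq_iff hω0, one_mul] at e3
          exact e3
        have hcu : c / u = ω ^ 3 := by
          rw [hcω, div_eq_iff hu0]
          calc ω = ω * (u * ω ^ 2) := by rw [huω2, mul_one]
            _ = ω ^ 3 * u := by ring
        rw [hcu] at hB
        by_cases f1 : ω ^ 3 = ω
        · apply hk 2 (by norm_num) (by norm_num)
          have h3 : ω * ω ^ 2 = ω * 1 := by
            calc ω * ω ^ 2 = ω ^ 3 := by ring
              _ = ω := f1
              _ = ω * 1 := (mul_one ω).symm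
          exact mul_left_cancel₀ hω0 h3
        by_cases f2 : ω ^ 3 = u
        · have h5 : ω ^ 5 = 1 := by
            calc ω ^ 5 = ω ^ 3 * ω ^ 2 := by ring
              _ = u * ω ^ 2 := by rw [f2]
              _ = 1 := huω2
          have h1 := hpow 5 h5
          have h2 := Nat.le_of_dvd (by norm_num) h1
          exact hnr ⟨hn5, by omega⟩
        by_cases f3 : ω ^ 3 = 1
        · exact hk 3 (by norm_num) (by norm_num) f3
        rw [hM0 _ f1 f2 f3] at hB
        exact absurd hB (by norm_num)
      · rw [hM0 _ e1 e2 e3] at hA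
        exact absurd hA (by norm_num)

end Cfsg.Agent.Helper73.THDBA
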