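-- helper73 library: piece INVSQ of helper98's CALL S5981 (double): an involutory matrix in odd
-- characteristic is diagonalisable with entries ±1.
import Mathlib
import Cfsg.Agent.Helper99.SFRDIAG

set_option autoImplicit false
open Matrix Polynomial

namespace Cfsg.Agent.Helper73.THINVSQ

variable {F : Type*} [Field F] [Fintype F]

/-- INVSQ -/
theorem invol_diag (h2 : (2 : F) ≠ 0) {n : ℕ} (x : Matrix (Fin n) (Fin n) F) (hx : x * x = 1) :
    ∃ (h : GL (Fin n) F) (ε : Fin n → F), (∀ i, ε i = 1 ∨ ε i = -1) ∧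
      x = (h : Matrix (Fin n) (Fin n) F) * Matrix.diagonal ε *
        ((h⁻¹ : GL (Fin n) F) : Matrix (Fin n) (Fin n) F) := by
  classical
  have hT : (Matrix.toLin' x) ^ 2 = 1 := by
    rw [pow_two, Module.End.mul_eq_comp, ← Matrix.toLin'_mul, hx, Matrix.toLin'_one]
    rfl
  have h21 : ((2 : ℕ) : F) ≠ 0 := by exact_mod_cast h2
  have hne : (-1 : F) ≠ 1 := by
    intro h
    apply h2
    have : (2 : F) = 1 - (-1) := by ring
    rw [this, h, sub_self]
  obtain ⟨b, e, hb⟩ := Cfsg.Agent.Helper99.diag_basis (Matrix.toLin' x) 2 h21 hT (-1 : F)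
    (by norm_num) hne n (Module.finrank_fin_fun F)
  obtain ⟨hM, hMdef⟩ : ∃ hM : Matrix (Fin n) (Fin n) F,
      hM = (Pi.basisFun F (Fin n)).toMatrix b := ⟨_, rfl⟩
  obtain ⟨hM', hM'def⟩ : ∃ hM' : Matrix (Fin n) (Fin n) F,
      hM' = b.toMatrix (Pi.basisFun F (Fin n)) := ⟨_, rfl⟩
  have h12 : hM * hM' = 1 := by
    rw [hMdef, hM'def]
    exact Module.Basis.toMatrix_mul_toMatrix_flip _ _
  have h21' : hM' * hM = 1 := by
    rw [hMdef, hM'def]
    exact Module.Basis.toMatrix_mul_toMatrix_flip _ _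
  have hentry : ∀ k i, hM k i = b i k := by
    intro k i
    rw [hMdef, Module.Basis.toMatrix_apply, Pi.basisFun_repr]
  have hcomm : x * hM = hM * Matrix.diagonal (fun i => (-1 : F) ^ (e i)) := by
    ext j i
    rw [Matrix.mul_diagonal, Matrix.mul_apply]
    have h1 := congrFun (hb i) j
    rw [Matrix.toLin'_apply, Matrix.mulVec, dotProduct] at h1
    simp only [hentry]
    rw [h1, Pi.smul_apply, smul_eq_mul, mul_comm]
  refine ⟨⟨hM, hM', h12, h21'⟩, fun i => (-1 : F) ^ (e i), fun i => neg_one_pow_eq_or F (e i), ?_⟩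
  change x = hM * Matrix.diagonal (fun i => (-1 : F) ^ (e i)) * hM'
  rw [← hcomm, Matrix.mul_assoc, h12, Matrix.mul_one]

end Cfsg.Agent.Helper73.THINVSQ
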