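import Mathlib
import Cfsg.Agent.Helper13.TIDefs

set_option autoImplicit false

namespace Cfsg.Agent.Helper73.TI5955

open Module Polynomial
open Cfsg.Agent.Helper42.SpForm Cfsg.Agent.Helper42.SpGroup Cfsg.Agent.Helper42.SpModels
open Cfsg.Agent.Helper13.TIsp Cfsg.Agent.Helper90.BG

section poly

variable {F : Type*} [Field F] {K : Type*} [Field K] [Algebra F K] [FiniteDimensional F K]

theorem ti_aevalm_pow {S : Type*} [AddCommGroup S] [Module F S] {u : ℕ} (ω : Fin u → K) (n : ℕ)
    (w : (Fin u → K) × S) :
    (((piMap (fun j => LinearMap.mulLeft F (ω j))).prodMap (1 : Module.End F S)) ^ n) w =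
      (fun l => ω l ^ n * w.1 l, w.2) := by
  induction n with
  | zero => simp
  | succ n ih =>
    rw [pow_succ', Module.End.mul_apply, ih]
    refine Prod.ext ?_ ?_
    · funext l
      simp [piMap_apply, pow_succ', mul_assoc]
    · simp

/-- AEVALM -/
theorem ti_aevalm {S : Type*} [AddCommGroup S] [Module F S] {u : ℕ} (ω : Fin u → K) (g : F[X])
    (w : (Fin u → K) × S) :
    aeval ((piMap (fun j => LinearMap.mulLeft F (ω j))).prodMap (1 : Module.End F S)) g w =
      (fun l => aeval (ω l) g * w.1 l, g.eval 1 • w.2) := by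
  induction g using Polynomial.induction_on' with
  | add p q hp hq =>
    rw [map_add, LinearMap.add_apply, hp, hq]
    refine Prod.ext ?_ ?_
    · funext l
      simp [add_mul]
    · simp [add_smul]
  | monomial n a =>
    rw [aeval_monomial, Module.End.mul_apply, Module.algebraMap_end_apply, ti_aevalm_pow]
    refine Prod.ext ?_ ?_
    · funext l
      simp [aeval_monomial, Algebra.smul_def, mul_assoc]
    · simp [eval_monomial]

end poly

end Cfsg.Agent.Helper73.TI5955
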