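-- helper73 library: piece UEVEN2B (double) of helper13's CALL S5954 (+ shared eigenspace lemmas).
import Mathlib
import Cfsg.Agent.Helper13.TLDefs

set_option autoImplicit false

namespace Cfsg.Agent.Helper73.TI5954

open Module Polynomial
open Cfsg.Agent.Helper13.TIu Cfsg.Agent.Helper13.TIsp

variable {F : Type*} [Field F] {σ : F →+* F} {V : Type*} [AddCommGroup V] [Module F V]
  [FiniteDimensional F V] (B : V →ₛₗ[σ] V →ₗ[F] F)

/-- if `X` separates the points of `Y` through `B`, then `dim Y ≤ dim X` -/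
theorem u2b_pair_le (X Y : Submodule F V) (h : ∀ y ∈ Y, (∀ x ∈ X, B x y = 0) → y = 0) :
    finrank F Y ≤ finrank F X := by
  classical
  let b := Module.finBasis F X
  let Ψ : Y →ₗ[F] (Fin (finrank F X) → F) :=
    LinearMap.pi (fun i => (B (b i : V)).comp Y.subtype)
  have hΨ : ∀ (y : Y) (i : Fin (finrank F X)), Ψ y i = B (b i : V) (y : V) := fun y i => rfl
  have hinj : Function.Injective Ψ := by
    rw [injective_iff_map_eq_zero]
    intro y hy
    apply Subtype.ext
    apply h y y.2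
    intro w hw
    have hw' : w = ∑ i, (b.repr ⟨w, hw⟩ i) • (b i : V) := by
      have h := congrArg Subtype.val (b.sum_repr ⟨w, hw⟩)
      simp only [Submodule.coe_sum, Submodule.coe_smul] at h
      exact h.symm
    rw [hw', map_sum, LinearMap.sum_apply]
    apply Finset.sum_eq_zero
    intro i _
    have hi : B (b i : V) (y : V) = 0 := by
      rw [← hΨ, hy]
      rfl
    rw [LinearMap.map_smulₛₗ, LinearMap.smul_apply, hi, smul_zero]
  have h1 := LinearMap.finrank_le_finrank_of_injective hinj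
  rw [Module.finrank_fin_fun] at h1
  exact h1

/-- the two eigenspaces of `T` (`T ^ 2 = λ²`, `σ λ * λ = -1`) in a nondegenerate invariant `W` -/
theorem u2b_core (hS : B.IsSymm) (h2 : (2 : F) ≠ 0)
    (T : Module.End F V) (hT : UPres B T) (lam : F) (hlam : σ lam * lam = -1)
    (hT2 : T ^ 2 = (lam ^ 2) • (1 : Module.End F V)) (W : Submodule F V) (hWT : W.map T ≤ W)
    (hW : UNd B W) (P Q : Submodule F V) (hP : ∀ v, v ∈ P ↔ v ∈ W ∧ T v = lam • v)
    (hQ : ∀ v, v ∈ Q ↔ v ∈ W ∧ T v = -(lam • v)) :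
    finrank F P = finrank F Q ∧ P ⊓ Q = ⊥ ∧ P ⊔ Q = W := by
  have hlam0 : lam ≠ 0 := by
    rintro rfl
    rw [mul_zero] at hlam
    exact one_ne_zero (neg_eq_zero.mp hlam.symm)
  have h2lam : (2 * lam) ≠ 0 := mul_ne_zero h2 hlam0
  have hTT : ∀ v, T (T v) = (lam ^ 2) • v := by
    intro v
    have h := congrArg (fun S : Module.End F V => S v) hT2
    simpa [pow_two] using h
  have hiso : ∀ c : F, σ c * c = -1 → ∀ u v, T u = c • u → T v = c • v → B u v = 0 := by
    intro c hc u v hu hv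
    have h := hT u v
    rw [hu, hv] at h
    simp only [LinearMap.map_smulₛₗ, LinearMap.smul_apply, smul_eq_mul, RingHom.id_apply] at h
    have h3 : (σ c * c) * B u v = B u v := by
      rw [mul_assoc, mul_left_comm]
      exact h
    rw [hc] at h3
    have h4 : (2 : F) * B u v = 0 := by linear_combination (-1 : F) * h3
    exact (mul_eq_zero.mp h4).resolve_left h2
  have hsym0 : ∀ u v, B u v = 0 → B v u = 0 := by
    intro u v h
    rw [← hS.eq, h, map_zero]
  have hTW : ∀ v ∈ W, T v ∈ W := fun v hv => hWT ⟨v, hv, rfl⟩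
  have hdec : ∀ v ∈ W, ∃ a ∈ P, ∃ b ∈ Q, v = a + b := by
    intro v hv
    refine ⟨(2 * lam)⁻¹ • (T v + lam • v), (hP _).mpr
        ⟨W.smul_mem _ (W.add_mem (hTW v hv) (W.smul_mem _ hv)), ?_⟩,
      (2 * lam)⁻¹ • (lam • v - T v), (hQ _).mpr
        ⟨W.smul_mem _ (W.sub_mem (W.smul_mem _ hv) (hTW v hv)), ?_⟩, ?_⟩
    · rw [map_smul, map_add, map_smul, hTT]
      module
    · rw [map_smul, map_sub, map_smul, hTT]
      module
    · have h : (2 * lam)⁻¹ • (T v + lam • v) + (2 * lam)⁻¹ • (lam • v - T v) =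
          ((2 * lam)⁻¹ * (2 * lam)) • v := by module
      rw [h, inv_mul_cancel₀ h2lam, one_smul]
  have hPP0 : ∀ u ∈ P, ∀ v ∈ P, B u v = 0 := fun u hu v hv =>
    hiso lam hlam u v ((hP u).mp hu).2 ((hP v).mp hv).2
  have hlam' : σ (-lam) * (-lam) = -1 := by rw [map_neg, neg_mul_neg, hlam]
  have hQQ0 : ∀ u ∈ Q, ∀ v ∈ Q, B u v = 0 := fun u hu v hv =>
    hiso (-lam) hlam' u v (by rw [((hQ u).mp hu).2, neg_smul]) (by rw [((hQ v).mp hv).2, neg_smul])
  have hle1 : finrank F Q ≤ finrank F P := u2b_pair_le B P Q (fun y hy h => by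
    apply hW y ((hQ y).mp hy).1
    intro w hw
    obtain ⟨a, ha, b, hb, rfl⟩ := hdec w hw
    rw [map_add, hsym0 _ _ (h a ha), hQQ0 y hy b hb, add_zero])
  have hle2 : finrank F P ≤ finrank F Q := u2b_pair_le B Q P (fun y hy h => by
    apply hW y ((hP y).mp hy).1
    intro w hw
    obtain ⟨a, ha, b, hb, rfl⟩ := hdec w hw
    rw [map_add, hPP0 y hy a ha, hsym0 _ _ (h b hb), add_zero])
  have hdisj : P ⊓ Q = ⊥ := by
    rw [eq_bot_iff]
    rintro v ⟨hv1, hv2⟩
    have h1 := ((hP v).mp hv1).2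
    have h2' := ((hQ v).mp hv2).2
    have h3 : (2 * lam) • v = 0 := by
      have h : (2 * lam) • v = lam • v + lam • v := by module
      rw [h]
      nth_rewrite 1 [← h1]
      rw [h2']
      exact neg_add_cancel _
    exact (Submodule.mem_bot F).mpr ((smul_eq_zero.mp h3).resolve_left h2lam)
  have hsup : P ⊔ Q = W := by
    apply le_antisymm (sup_le (fun v hv => ((hP v).mp hv).1) (fun v hv => ((hQ v).mp hv).1))
    intro w hw
    obtain ⟨a, ha, b, hb, rfl⟩ := hdec w hw
    exact Submodule.add_mem_sup ha hb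
  exact ⟨le_antisymm hle2 hle1, hdisj, hsup⟩

omit [FiniteDimensional F V] in
theorem u2b_memP (T : Module.End F V) (lam : F) (W : Submodule F V) (v : V) :
    v ∈ W ⊓ LinearMap.ker (T - lam • 1) ↔ v ∈ W ∧ T v = lam • v := by
  rw [Submodule.mem_inf, LinearMap.mem_ker, LinearMap.sub_apply, LinearMap.smul_apply,
    Module.End.one_apply, sub_eq_zero]

omit [FiniteDimensional F V] in
theorem u2b_memQ (T : Module.End F V) (lam : F) (W : Submodule F V) (v : V) :
    v ∈ W ⊓ LinearMap.ker (T + lam • 1) ↔ v ∈ W ∧ T v = -(lam • v) := by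
  rw [Submodule.mem_inf, LinearMap.mem_ker, LinearMap.add_apply, LinearMap.smul_apply,
    Module.End.one_apply, add_eq_zero_iff_eq_neg]

/-- UEVEN2B (case B): same setting; an invariant nondegenerate `W` is the sum of its two totally
isotropic eigenspaces, which are paired nondegenerately, so `dim W` is even. -/
theorem ueven_invB (hσ2 : ∀ a, σ (σ a) = a) (hS : B.IsSymm) (h2 : (2 : F) ≠ 0)
    (T : Module.End F V) (hT : UPres B T) (lam : F) (hlam : σ lam * lam = -1)
    (hT2 : T ^ 2 = (lam ^ 2) • (1 : Module.End F V)) (W : Submodule F V) (hWT : W.map T ≤ W)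
    (hW : UNd B W) : Even (finrank F W) := by
  obtain ⟨h1, h3, h4⟩ := u2b_core B hS h2 T hT lam hlam hT2 W hWT hW
    (W ⊓ LinearMap.ker (T - lam • 1)) (W ⊓ LinearMap.ker (T + lam • 1))
    (u2b_memP T lam W) (u2b_memQ T lam W)
  have h5 := Submodule.finrank_sup_add_finrank_inf_eq (W ⊓ LinearMap.ker (T - lam • 1))
    (W ⊓ LinearMap.ker (T + lam • 1))
  rw [h3, finrank_bot, h4] at h5
  exact ⟨finrank F ↥(W ⊓ LinearMap.ker (T + lam • 1)), by omega⟩

end Cfsg.Agent.Helper73.TI5954
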