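-- helper73 library: piece UDET2B (double) of helper13's CALL S5954.
import Mathlib
import Cfsg.Agent.Helper13.TLDefs
import Cfsg.Agent.Helper73.TLUEVEN2B

set_option autoImplicit false

namespace Cfsg.Agent.Helper73.TI5954

open Module Polynomial
open Cfsg.Agent.Helper13.TIu Cfsg.Agent.Helper13.TIsp

variable {F : Type*} [Field F] {σ : F →+* F} {V : Type*} [AddCommGroup V] [Module F V]
  [FiniteDimensional F V] (B : V →ₛₗ[σ] V →ₗ[F] F)

/-- UDET2B (case B): same setting on a nondegenerate `V`: the eigenspaces for `λ`, `-λ` have the same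
dimension `k`, `finrank V = 2 * k`, `det T = λ ^ k * (-λ) ^ k`. -/
theorem udet_invB (hσ2 : ∀ a, σ (σ a) = a) (hS : B.IsSymm) (hnd : UNd B ⊤) (h2 : (2 : F) ≠ 0)
    (T : Module.End F V) (hT : UPres B T) (lam : F) (hlam : σ lam * lam = -1)
    (hT2 : T ^ 2 = (lam ^ 2) • (1 : Module.End F V)) :
    Even (finrank F V) ∧ LinearMap.det T = (-(lam ^ 2)) ^ (finrank F V / 2) := by
  obtain ⟨P, hPdef⟩ : ∃ P : Submodule F V, P = ⊤ ⊓ LinearMap.ker (T - lam • 1) := ⟨_, rfl⟩
  obtain ⟨Q, hQdef⟩ : ∃ Q : Submodule F V, Q = ⊤ ⊓ LinearMap.ker (T + lam • 1) := ⟨_, rfl⟩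
  have hP : ∀ v, v ∈ P ↔ v ∈ (⊤ : Submodule F V) ∧ T v = lam • v := by
    intro v
    rw [hPdef]
    exact u2b_memP T lam ⊤ v
  have hQ : ∀ v, v ∈ Q ↔ v ∈ (⊤ : Submodule F V) ∧ T v = -(lam • v) := by
    intro v
    rw [hQdef]
    exact u2b_memQ T lam ⊤ v
  obtain ⟨h1, h3, h4⟩ := u2b_core B hS h2 T hT lam hlam hT2 ⊤ le_top hnd P Q hP hQ
  have h5 := Submodule.finrank_sup_add_finrank_inf_eq P Q
  rw [h3, finrank_bot, h4, finrank_top] at h5
  have hc : IsCompl P Q := IsCompl.of_eq h3 h4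
  have hdim : finrank F V = 2 * finrank F P := by omega
  refine ⟨⟨finrank F P, by omega⟩, ?_⟩
  have hk : finrank F V / 2 = finrank F P := by omega
  rw [hk]
  have hTe : T = ((Submodule.prodEquivOfIsCompl P Q hc : (P × Q) ≃ₗ[F] V) : (P × Q) →ₗ[F] V) ∘ₗ
      (LinearMap.prodMap (lam • (LinearMap.id : P →ₗ[F] P))
        ((-lam) • (LinearMap.id : Q →ₗ[F] Q))) ∘ₗ
      (((Submodule.prodEquivOfIsCompl P Q hc).symm : V ≃ₗ[F] (P × Q)) : V →ₗ[F] (P × Q)) := by
    apply LinearMap.ext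
    intro v
    obtain ⟨x, rfl⟩ := (Submodule.prodEquivOfIsCompl P Q hc).surjective v
    rw [LinearMap.comp_apply, LinearMap.comp_apply, LinearEquiv.coe_coe, LinearEquiv.coe_coe,
      LinearEquiv.symm_apply_apply, Submodule.coe_prodEquivOfIsCompl',
      Submodule.coe_prodEquivOfIsCompl']
    simp only [LinearMap.prodMap_apply, LinearMap.smul_apply, LinearMap.id_apply,
      Submodule.coe_smul, map_add]
    rw [((hP x.1).mp x.1.2).2, ((hQ x.2).mp x.2.2).2, neg_smul]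
  have hdet : LinearMap.det T = lam ^ finrank F P * (-lam) ^ finrank F Q := by
    calc LinearMap.det T = LinearMap.det
          (((Submodule.prodEquivOfIsCompl P Q hc : (P × Q) ≃ₗ[F] V) : (P × Q) →ₗ[F] V) ∘ₗ
          (LinearMap.prodMap (lam • (LinearMap.id : P →ₗ[F] P))
            ((-lam) • (LinearMap.id : Q →ₗ[F] Q))) ∘ₗ
          (((Submodule.prodEquivOfIsCompl P Q hc).symm : V ≃ₗ[F] (P × Q)) :
            V →ₗ[F] (P × Q))) := congrArg _ hTe
      _ = LinearMap.det (LinearMap.prodMap (lam • (LinearMap.id : P →ₗ[F] P))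
            ((-lam) • (LinearMap.id : Q →ₗ[F] Q))) := LinearMap.det_conj _ _
      _ = lam ^ finrank F P * (-lam) ^ finrank F Q := by
        rw [LinearMap.det_prodMap, LinearMap.det_smul, LinearMap.det_smul, LinearMap.det_id,
          LinearMap.det_id, mul_one, mul_one]
  rw [hdet, ← h1, ← mul_pow]
  congr 1
  ring

end Cfsg.Agent.Helper73.TI5954
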